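import Mathlib.GroupTheory.Sylow
import Mathlib.GroupTheory.Transfer
import Mathlib.GroupTheory.Index
import Mathlib.GroupTheory.SpecificGroups.Cyclic
import Mathlib.GroupTheory.SpecificGroups.Alternating
import Mathlib.GroupTheory.Subgroup.Simple
import Mathlib.GroupTheory.GroupAction.Quotient
import Mathlib.Data.Nat.Totient

/-!
Elementary tools for finite simple groups of a given order: the embedding into an alternating group on
cosets, Sylow numbers, Burnside's transfer criterion, large Sylow intersections.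
-/

set_option autoImplicit false

namespace CfsgLib.SmallOrder

open Subgroup

variable {G : Type*} [Group G]

theorem not_comm_of_not_prime [Finite G] [IsSimpleGroup G] (h : ¬ (Nat.card G).Prime) :
    ¬ IsMulCommutative G := by
  intro hc
  let : CommGroup G := { ‹Group G› with mul_comm := hc.is_comm.comm }
  exact h IsSimpleGroup.prime_card

theorem center_eq_bot_of_not_comm [IsSimpleGroup G] (hG : ¬ IsMulCommutative G) :
    Subgroup.center G = ⊥ := by
  rcases (inferInstance : (Subgroup.center G).Normal).eq_bot_or_eq_top with h | h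
  · exact h
  · exact absurd ⟨⟨fun a b => (Subgroup.mem_center_iff.1 (h ▸ Subgroup.mem_top b : b ∈ center G) a)⟩⟩ hG

theorem normal_eq_top [IsSimpleGroup G] {N : Subgroup G} (hN : N.Normal) (h : N ≠ ⊥) : N = ⊤ :=
  hN.eq_bot_or_eq_top.resolve_left h

/-- A homomorphism out of a simple group is trivial or injective. -/
theorem injective_or_eq_one [IsSimpleGroup G] {K : Type*} [Group K] (f : G →* K) :
    Function.Injective f ∨ f = 1 := by
  rcases f.normal_ker.eq_bot_or_eq_top with h | h
  · exact Or.inl ((MonoidHom.ker_eq_bot_iff f).1 h)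
  · right
    ext g
    exact (h ▸ Subgroup.mem_top g : g ∈ f.ker)

/-- The action on the cosets of a proper subgroup of a simple group is faithful. -/
theorem toPermHom_injective [IsSimpleGroup G] {H : Subgroup G} (hH : H ≠ ⊤) :
    Function.Injective (MulAction.toPermHom G (G ⧸ H)) := by
  rcases injective_or_eq_one (MulAction.toPermHom G (G ⧸ H)) with h | h
  · exact h
  · exfalso
    apply hH
    rw [eq_top_iff]
    intro g _
    have hg : g • (QuotientGroup.mk (1 : G) : G ⧸ H) = QuotientGroup.mk (1 : G) := by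
      have hg := DFunLike.congr_fun h g
      exact Equiv.ext_iff.1 hg (QuotientGroup.mk (1 : G))
    rw [MulAction.Quotient.smul_mk, QuotientGroup.eq] at hg
    simpa using hg

/-- A homomorphism from a non-abelian simple group to a permutation group has even image. -/
theorem sign_eq_one [IsSimpleGroup G] (hG : ¬ IsMulCommutative G) {α : Type*} [Fintype α]
    [DecidableEq α] (f : G →* Equiv.Perm α) (g : G) : Equiv.Perm.sign (f g) = 1 := by
  rcases injective_or_eq_one (Equiv.Perm.sign.comp f) with h | h
  · exact absurd ⟨⟨fun a b => h (by rw [map_mul, map_mul, mul_comm])⟩⟩ hG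
  · exact DFunLike.congr_fun h g

/-- Embedding theorem. -/
theorem exists_embedding_alternating [Finite G] [IsSimpleGroup G] (hG : ¬ IsMulCommutative G)
    {H : Subgroup G} (hH : H ≠ ⊤) :
    ∃ f : G →* ↥(alternatingGroup (Fin H.index)), Function.Injective f := by
  let e : G ⧸ H ≃ Fin H.index := Finite.equivFinOfCardEq rfl
  let f : G →* Equiv.Perm (Fin H.index) :=
    (e.permCongrHom : Equiv.Perm (G ⧸ H) ≃* _).toMonoidHom.comp (MulAction.toPermHom G (G ⧸ H))
  have hf : Function.Injective f := e.permCongrHom.injective.comp (toPermHom_injective hH)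
  refine ⟨f.codRestrict (alternatingGroup _) (fun g => ?_), fun a b hab => hf (congrArg Subtype.val hab)⟩
  rw [Equiv.Perm.mem_alternatingGroup]
  exact sign_eq_one hG f g

/-- The order of a non-abelian simple group divides `n!/2` for every proper index `n`. -/
theorem two_mul_card_dvd_factorial [Finite G] [IsSimpleGroup G] (hG : ¬ IsMulCommutative G)
    {H : Subgroup G} (hH : H ≠ ⊤) : 2 * Nat.card G ∣ H.index.factorial := by
  obtain ⟨f, hf⟩ := exists_embedding_alternating hG hH
  have h2 : 2 ≤ H.index := by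
    have := Subgroup.index_ne_zero_of_finite (H := H)
    have : H.index ≠ 1 := fun h => hH (Subgroup.index_eq_one.1 h)
    omega
  have hd := Subgroup.card_dvd_of_injective f hf
  have : Nontrivial (Fin H.index) := Fin.nontrivial_iff_two_le.2 h2
  have hA := two_mul_card_alternatingGroup (α := Fin H.index)
  simp only [← Nat.card_eq_fintype_card, Nat.card_perm, Nat.card_fin] at hA
  rw [← hA]
  exact Nat.mul_dvd_mul_left 2 hd

section Sylow

variable [Finite G] {p : ℕ} [Fact p.Prime]

theorem card_normalizer_mul (P : Sylow p G) :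
    Nat.card ↥(normalizer ((P : Subgroup G) : Set G)) * Nat.card (Sylow p G) = Nat.card G := by
  rw [P.card_eq_index_normalizer]
  exact Subgroup.card_mul_index _

theorem card_sylow_eq {e m : ℕ} (hG : Nat.card G = p ^ e * m) (hm : ¬ p ∣ m) (P : Sylow p G) :
    Nat.card ↥(P : Subgroup G) = p ^ e := by
  rw [P.card_eq_multiplicity, hG]
  have hp : p.Prime := Fact.out
  have hm0 : m ≠ 0 := fun h => hm (h ▸ dvd_zero p)
  rw [Nat.factorization_mul (pow_ne_zero _ hp.ne_zero) hm0, Finsupp.add_apply,
    hp.factorization_pow, Finsupp.single_eq_same, Nat.factorization_eq_zero_of_not_dvd hm, add_zero]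

variable [IsSimpleGroup G]

/-- A Sylow subgroup is not normal when the order is not a power of `p`. -/
theorem normalizer_ne_top (hdvd : p ∣ Nat.card G) (hne : ∀ P : Sylow p G, (P : Subgroup G) ≠ ⊤)
    (P : Sylow p G) : normalizer ((P : Subgroup G) : Set G) ≠ ⊤ := by
  intro h
  exact hne P (normal_eq_top (Subgroup.normalizer_eq_top_iff.1 h) (P.ne_bot_of_dvd_card hdvd))

/-- All the elementary restrictions on the number of Sylow subgroups. -/
theorem card_sylow_facts {e m : ℕ} (hG : Nat.card G = p ^ e * m) (hm : ¬ p ∣ m) (he : 0 < e)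
    (hm1 : 1 < m) :
    Nat.card (Sylow p G) ∣ m ∧ Nat.card (Sylow p G) % p = 1 ∧ 1 < Nat.card (Sylow p G) ∧
      2 * Nat.card G ∣ (Nat.card (Sylow p G)).factorial := by
  have hp : p.Prime := Fact.out
  obtain ⟨P⟩ := (inferInstance : Nonempty (Sylow p G))
  have hP := card_sylow_eq hG hm P
  have hpe : 1 < p ^ e := Nat.one_lt_pow (by omega) hp.one_lt
  have hdvd : p ∣ Nat.card G := hG ▸ Dvd.dvd.mul_right (dvd_pow_self p (by omega)) m
  have hne : ∀ P : Sylow p G, (P : Subgroup G) ≠ ⊤ := by
    intro Q hQ
    have := card_sylow_eq hG hm Q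
    rw [hQ, Subgroup.card_top, hG] at this
    have hlt : p ^ e * 1 < p ^ e * m := Nat.mul_lt_mul_of_pos_left hm1 (by omega)
    omega
  have hN := normalizer_ne_top hdvd hne P
  have hnc : ¬ IsMulCommutative G := not_comm_of_not_prime (by
    rw [hG]
    exact Nat.not_prime_mul (by omega) (by omega))
  have hidx : (P : Subgroup G).index = m := by
    have := (P : Subgroup G).card_mul_index
    rw [hP, hG] at this
    exact Nat.eq_of_mul_eq_mul_left (by omega) this
  refine ⟨hidx ▸ P.card_dvd_index, ?_, ?_, ?_⟩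
  · have := card_sylow_modEq_one p G
    rwa [Nat.ModEq, Nat.one_mod_eq_one.2 hp.one_lt.ne'] at this
  · rw [P.card_eq_index_normalizer]
    have h0 := Subgroup.index_ne_zero_of_finite (H := normalizer ((P : Subgroup G) : Set G))
    have h1 : (normalizer ((P : Subgroup G) : Set G)).index ≠ 1 :=
      fun h => hN (Subgroup.index_eq_one.1 h)
    generalize hj : (normalizer ((P : Subgroup G) : Set G)).index = j at h0 h1
    omega
  · rw [P.card_eq_index_normalizer]
    exact two_mul_card_dvd_factorial hnc hN

/-- Burnside: in a simple group no Sylow subgroup is central in its normaliser. -/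
theorem not_normalizer_le_centralizer (hdvd : p ∣ Nat.card G)
    (P : Sylow p G) (hP : (P : Subgroup G) ≠ ⊤) :
    ¬ normalizer ((P : Subgroup G) : Set G) ≤ centralizer ((P : Subgroup G) : Set G) := by
  intro h
  have hc := MonoidHom.ker_transferSylow_isComplement' P h
  rcases (MonoidHom.transferSylow P h).normal_ker.eq_bot_or_eq_top with hb | ht
  · rw [hb, Subgroup.isComplement'_bot_left] at hc
    exact hP hc
  · rw [ht, Subgroup.isComplement'_top_left] at hc
    exact P.ne_bot_of_dvd_card hdvd hc

/-- Burnside criterion in numerical form, `P` abelian: the index of `P` in its normaliser is not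
coprime to the order of its automorphism group. -/
theorem not_coprime_aut (hdvd : p ∣ Nat.card G) (P : Sylow p G) (hP : (P : Subgroup G) ≠ ⊤)
    (hab : IsMulCommutative ↥(P : Subgroup G)) {m : ℕ}
    (hm : Nat.card ↥(normalizer ((P : Subgroup G) : Set G)) = Nat.card ↥(P : Subgroup G) * m) :
    ¬ Nat.Coprime m (Nat.card (MulAut ↥(P : Subgroup G))) := by
  intro hcop
  apply not_normalizer_le_centralizer hdvd P hP
  rw [← Subgroup.relIndex_eq_one]
  set N := normalizer ((P : Subgroup G) : Set G)
  set C := centralizer ((P : Subgroup G) : Set G)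
  have hker : (Subgroup.normalizerMonoidHom (P : Subgroup G)).ker = C.subgroupOf N :=
    Subgroup.normalizerMonoidHom_ker _
  have h1 : C.relIndex N ∣ Nat.card (MulAut ↥(P : Subgroup G)) := by
    have h := Subgroup.index_ker (Subgroup.normalizerMonoidHom (P : Subgroup G))
    rw [hker] at h
    change (C.subgroupOf N).index ∣ _
    rw [h]
    exact Subgroup.card_subgroup_dvd_card _
  have hPC : (P : Subgroup G) ≤ C :=
    fun x hx => Subgroup.mem_centralizer_iff.2 fun y hy =>
      congrArg Subtype.val (hab.is_comm.comm ⟨y, hy⟩ ⟨x, hx⟩)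
  have h2 : C.relIndex N ∣ m := by
    have h3 : (P : Subgroup G).relIndex N = m := by
      have := Subgroup.card_mul_index ((P : Subgroup G).subgroupOf N)
      rw [Nat.card_congr (Subgroup.subgroupOfEquivOfLe
        (Subgroup.le_normalizer : (P : Subgroup G) ≤ N)).toEquiv, hm] at this
      exact Nat.eq_of_mul_eq_mul_left Nat.card_pos this
    rw [← h3]
    exact Subgroup.relIndex_dvd_of_le_left N hPC
  exact Nat.eq_one_of_dvd_coprimes hcop h2 h1

omit [IsSimpleGroup G] [Finite G] in
theorem isMulCommutative_of_card_eq_prime_or_sq (P : Sylow p G)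
    (h : Nat.card ↥(P : Subgroup G) = p ∨ Nat.card ↥(P : Subgroup G) = p ^ 2) :
    IsMulCommutative ↥(P : Subgroup G) := by
  rcases h with h | h
  · have := isCyclic_of_prime_card h
    exact ⟨⟨fun a b => (IsCyclic.commGroup (α := ↥(P : Subgroup G))).mul_comm a b⟩⟩
  · exact IsPGroup.isMulCommutative_of_card_eq_prime_sq h

/-- Burnside criterion for Sylow subgroups of prime order. -/
theorem not_coprime_of_prime_order {m : ℕ} (hG : Nat.card G = p * m) (hm : ¬ p ∣ m) (hm1 : 1 < m)
    {k : ℕ} (hk : k * Nat.card (Sylow p G) = m) : ¬ Nat.Coprime k (p - 1) := by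
  intro hcop
  have hp : p.Prime := Fact.out
  obtain ⟨P⟩ := (inferInstance : Nonempty (Sylow p G))
  have hP : Nat.card ↥(P : Subgroup G) = p := by
    simpa using card_sylow_eq (e := 1) (by simpa using hG) hm P
  have hne : (P : Subgroup G) ≠ ⊤ := by
    intro h
    rw [h, Subgroup.card_top, hG] at hP
    have : m = 1 := Nat.eq_of_mul_eq_mul_left hp.pos (by simpa using hP)
    omega
  have hN := card_normalizer_mul P
  have hN' : Nat.card ↥(normalizer ((P : Subgroup G) : Set G)) = Nat.card ↥(P : Subgroup G) * k := by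
    apply Nat.eq_of_mul_eq_mul_right (m := Nat.card (Sylow p G)) Nat.card_pos
    rw [hN, hP, hG, mul_assoc, hk]
  have : IsCyclic ↥(P : Subgroup G) := isCyclic_of_prime_card hP
  refine not_coprime_aut (hG ▸ dvd_mul_right p m) P hne
    (isMulCommutative_of_card_eq_prime_or_sq P (Or.inl hP)) hN' ?_
  rwa [IsCyclic.card_mulAut, hP, Nat.totient_prime hp]

end Sylow

/-- Two Sylow subgroups with a large intersection when `n_p` is not `1` modulo `p ^ k`. -/
theorem exists_sylow_pair [Finite G] (p k : ℕ) [Fact p.Prime]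
    (h : ¬ Nat.card (Sylow p G) ≡ 1 [MOD p ^ k]) :
    ∃ P R : Sylow p G, P ≠ R ∧
      ((R : Subgroup G).subgroupOf (P : Subgroup G)).index ≤ p ^ (k - 1) := by
  classical
  have hp : p.Prime := Fact.out
  by_contra hcon
  push Not at hcon
  apply h
  obtain ⟨P⟩ := (inferInstance : Nonempty (Sylow p G))
  let Q := ↥(P : Subgroup G)
  have horb : ∀ R : Sylow p G, R ≠ P → p ^ k ∣ Nat.card (MulAction.orbit Q R) := by
    intro R hR
    have hst : MulAction.stabilizer Q R = (R : Subgroup G).subgroupOf (P : Subgroup G) := by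
      ext x
      rw [MulAction.mem_stabilizer_iff, Subgroup.mem_subgroupOf]
      constructor
      · intro hx
        have hxN : (x : G) ∈ normalizer ((R : Subgroup G) : Set G) :=
          Sylow.smul_eq_iff_mem_normalizer.1 hx
        have := IsPGroup.inf_normalizer_sylow P.2 R
        exact (this ▸ ⟨x.2, hxN⟩ : (x : G) ∈ (P : Subgroup G) ⊓ (R : Subgroup G)).2
      · intro hx
        exact Sylow.smul_eq_iff_mem_normalizer.2 (Subgroup.le_normalizer hx)
    rw [Nat.card_coe_set_eq, ← MulAction.index_stabilizer, hst]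
    obtain ⟨j, hj⟩ := P.2.index ((R : Subgroup G).subgroupOf (P : Subgroup G))
    rw [hj]
    apply pow_dvd_pow
    have h1 := hcon P R hR.symm
    rw [hj, Nat.pow_lt_pow_iff_right hp.one_lt] at h1
    omega
  have := Fintype.ofFinite (Sylow p G)
  have := Fintype.ofFinite (MulAction.orbitRel.Quotient Q (Sylow p G))
  rw [Nat.card_congr (MulAction.selfEquivSigmaOrbits Q (Sylow p G)), Nat.card_sigma,
    ← Finset.add_sum_erase _ _ (Finset.mem_univ (Quotient.mk'' P : MulAction.orbitRel.Quotient Q _))]
  have hP1 : Nat.card (MulAction.orbit Q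
      ((Quotient.mk'' P : MulAction.orbitRel.Quotient Q (Sylow p G)).out)) = 1 := by
    have hm : (Quotient.mk'' P : MulAction.orbitRel.Quotient Q (Sylow p G)).out ∈
        MulAction.orbit Q P := MulAction.orbitRel_apply.1 (Quotient.exact' (Quotient.out_eq' _))
    rw [MulAction.orbit_eq_iff.2 hm, Nat.card_coe_set_eq, ← MulAction.index_stabilizer,
      Subgroup.index_eq_one, eq_top_iff]
    intro x _
    exact Sylow.smul_eq_iff_mem_normalizer.2 (Subgroup.le_normalizer x.2)
  have hrest : ∀ ω ∈ (Finset.univ : Finset (MulAction.orbitRel.Quotient Q (Sylow p G))).erase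
      (Quotient.mk'' P), p ^ k ∣ Nat.card (MulAction.orbit Q ω.out) := by
    intro ω hω
    refine horb _ (fun he => (Finset.mem_erase.1 hω).1 ?_)
    exact (Quotient.out_eq' ω).symm.trans (congrArg Quotient.mk'' he)
  rw [hP1, Nat.ModEq, Nat.add_mod, Nat.mod_eq_zero_of_dvd (Finset.dvd_sum hrest)]
  simp

/-- A subgroup containing two Sylow subgroups has at least `p + 1` of them. -/
theorem dvd_card_of_two_sylow [Finite G] {p : ℕ} [Fact p.Prime] {H : Subgroup G} (P R : Sylow p G)
    (hPR : P ≠ R) (hP : (P : Subgroup G) ≤ H) (hR : (R : Subgroup G) ≤ H) :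
    ∃ n, n % p = 1 ∧ 1 < n ∧ Nat.card ↥(P : Subgroup G) * n ∣ Nat.card ↥H := by
  have hp : p.Prime := Fact.out
  refine ⟨Nat.card (Sylow p H), ?_, ?_, ?_⟩
  · have := card_sylow_modEq_one p H
    rwa [Nat.ModEq, Nat.one_mod_eq_one.2 hp.one_lt.ne'] at this
  · have : Nontrivial (Sylow p H) := ⟨⟨P.subtype hP, R.subtype hR, fun he => hPR (by
      apply Sylow.ext
      have he' : (P : Subgroup G).subgroupOf H = (R : Subgroup G).subgroupOf H :=
        congrArg Sylow.toSubgroup he
      rw [← Subgroup.map_subgroupOf_eq_of_le hP, he', Subgroup.map_subgroupOf_eq_of_le hR])⟩⟩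
    exact Finite.one_lt_card
  · have hc : Nat.card ↥((P.subtype hP : Sylow p H) : Subgroup H) = Nat.card ↥(P : Subgroup G) :=
      Nat.card_congr (Subgroup.subgroupOfEquivOfLe hP).toEquiv
    rw [← ((P.subtype hP : Sylow p H) : Subgroup H).card_mul_index, hc]
    exact Nat.mul_dvd_mul_left _ (Sylow.card_dvd_index _)

/-- For abelian Sylow subgroups, a large intersection has a large centraliser. -/
theorem exists_inter_centralizer [Finite G] {p : ℕ} [Fact p.Prime] (k : ℕ)
    (hab : ∀ P : Sylow p G, IsMulCommutative ↥(P : Subgroup G))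
    (h : ¬ Nat.card (Sylow p G) ≡ 1 [MOD p ^ k]) :
    ∃ (D : Subgroup G) (P : Sylow p G), D ≤ (P : Subgroup G) ∧
      Nat.card ↥(P : Subgroup G) ≤ Nat.card ↥D * p ^ (k - 1) ∧
      ∃ n, n % p = 1 ∧ 1 < n ∧
        Nat.card ↥(P : Subgroup G) * n ∣ Nat.card ↥(Subgroup.centralizer (D : Set G)) := by
  obtain ⟨P, R, hPR, hidx⟩ := exists_sylow_pair p k h
  refine ⟨(P : Subgroup G) ⊓ (R : Subgroup G), P, inf_le_left, ?_, ?_⟩
  · rw [← ((R : Subgroup G).subgroupOf (P : Subgroup G)).card_mul_index]
    have hc : Nat.card ↥((R : Subgroup G).subgroupOf (P : Subgroup G)) =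
        Nat.card ↥((P : Subgroup G) ⊓ (R : Subgroup G)) := by
      rw [← Subgroup.inf_subgroupOf_left]
      exact Nat.card_congr (Subgroup.subgroupOfEquivOfLe inf_le_left).toEquiv
    rw [hc]
    exact Nat.mul_le_mul_left _ hidx
  · refine dvd_card_of_two_sylow P R hPR (fun x hx => ?_) (fun x hx => ?_)
    · exact Subgroup.mem_centralizer_iff.2 fun y hy =>
        congrArg Subtype.val ((hab P).is_comm.comm ⟨y, (Subgroup.mem_inf.1 hy).1⟩ ⟨x, hx⟩)
    · exact Subgroup.mem_centralizer_iff.2 fun y hy =>
        congrArg Subtype.val ((hab R).is_comm.comm ⟨y, (Subgroup.mem_inf.1 hy).2⟩ ⟨x, hx⟩)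

/-- The centraliser of a nontrivial subgroup of a non-abelian simple group is proper. -/
theorem centralizer_ne_top [IsSimpleGroup G] (hG : ¬ IsMulCommutative G) {D : Subgroup G}
    (hD : D ≠ ⊥) : Subgroup.centralizer (D : Set G) ≠ ⊤ := by
  intro h
  apply hD
  rw [eq_bot_iff, ← center_eq_bot_of_not_comm hG]
  intro d hd
  exact Subgroup.mem_center_iff.2 fun g =>
    (Subgroup.mem_centralizer_iff.1 (h ▸ Subgroup.mem_top g : g ∈ centralizer (D : Set G)) d hd).symm

end CfsgLib.SmallOrder
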