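import Cfsg.Agent.Lib.SmallOrder.Refined
import Cfsg.Agent.Lib.Char.Burnside
import Mathlib.GroupTheory.GroupAction.FixedPoints
import Mathlib.GroupTheory.PGroup

/-!
An automatic criterion excluding a natural number as the order of a non-abelian simple group.
-/

set_option autoImplicit false

namespace CfsgLib.SmallOrder

open Subgroup

universe u

/-- integer square root by linear search -/
def isqLoop (n : ℕ) : ℕ → ℕ → ℕ
  | 0, r => r
  | fuel + 1, r => if Nat.ble ((r + 1) * (r + 1)) n then isqLoop n fuel (r + 1) else r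

/-- integer square root -/
def isq (n : ℕ) : ℕ := isqLoop n n 0

/-- primality by trial division -/
def isPrimeB (p : ℕ) : Bool :=
  let R : ℕ := isq p
  Nat.ble 2 p && Nat.blt p ((R + 1) * (R + 1)) &&
    (List.range (R + 1)).all fun d => Nat.blt d 2 || !(Nat.beq (p % d) 0)

theorem prime_of_isPrimeB {p : ℕ} (h : isPrimeB p = true) : p.Prime := by
  simp only [isPrimeB, Bool.and_eq_true, Nat.ble_eq, Nat.blt_eq, List.all_eq_true, List.mem_range,
    Bool.or_eq_true, Bool.not_eq_true'] at h
  obtain ⟨⟨h2, hR⟩, hall⟩ := h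
  rw [Nat.prime_def_le_sqrt]
  refine ⟨h2, fun d hd hds hdvd => ?_⟩
  have hlt : d < isq p + 1 := lt_of_le_of_lt hds (Nat.sqrt_lt.2 hR)
  rcases hall d hlt with h | h
  · omega
  · rw [Nat.mod_eq_zero_of_dvd hdvd] at h
    exact Bool.false_ne_true h.symm

/-- the `p`-part, by repeated division -/
def pPart (p : ℕ) : ℕ → ℕ → ℕ × ℕ
  | 0, n => (0, n)
  | fuel + 1, n => if Nat.beq (n % p) 0 then ((pPart p fuel (n / p)).1 + 1, (pPart p fuel (n / p)).2)
      else (0, n)

/-- factorisation by trial division (its output is checked where it is used) -/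
def factLoop : ℕ → ℕ → ℕ → List (ℕ × ℕ)
  | 0, _, n => if Nat.blt 1 n then [(n, 1)] else []
  | fuel + 1, d, n =>
    if Nat.blt n (d * d) then (if Nat.blt 1 n then [(n, 1)] else []) else
      if Nat.beq (n % d) 0 then ((d, (pPart d 64 n).1) :: factLoop fuel (d + 1) (pPart d 64 n).2)
      else factLoop fuel (d + 1) n

/-- the prime factors with exponents -/
def facs (N : ℕ) : List (ℕ × ℕ) := factLoop N 2 N

/-- at most two prime divisors -/
def twoKill (N : ℕ) : List (ℕ × ℕ) → Bool
  | [(p, a)] => isPrimeB p && Nat.beq (p ^ a) N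
  | [(p, a), (q, b)] => isPrimeB p && (isPrimeB q && Nat.beq (p ^ a * q ^ b) N)
  | _ => false

/-- no index `i` of a subgroup with two Sylow subgroups -/
def noInter (N p m : ℕ) : Bool :=
  (List.range (m + 1)).all fun i =>
    !(Nat.blt 1 i && (Nat.beq (m % i) 0 && (Nat.blt 20 i || Nat.beq (fct i % (2 * N)) 0))) ||
      (List.range (m / i + 1)).all fun a =>
        !(Nat.blt 1 a && (Nat.beq ((m / i) % a) 0 && Nat.beq (a % p) 1))

/-- a number of Sylow subgroups is impossible -/
def candKill (N p e m n : ℕ) : Bool :=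
  (Nat.beq e 1 && Nat.beq (Nat.gcd (m / n) (p - 1)) 1) ||
    ((Nat.beq e 2 && Nat.beq (Nat.gcd (m / n) ((p - 1) * (p + 1))) 1) ||
      (Nat.ble 2 e && (!(Nat.beq (n % (p * p)) 1) && noInter N p m)))

/-- all numbers of Sylow subgroups are impossible -/
def sylowKill (N p e : ℕ) : Bool :=
  let m : ℕ := N / p ^ e
  isPrimeB p && (Nat.blt 0 e && (Nat.beq (p ^ e * m) N && (!(Nat.beq (m % p) 0) &&
    (Nat.blt 1 m && (sylowCands N p m).all (candKill N p e m)))))

/-- exclusion by the refined block criterion -/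
def blockKill (N p e : ℕ) : Bool :=
  let m : ℕ := N / p
  isPrimeB p && (Nat.beq e 1 && (Nat.blt 2 p && (Nat.beq (p * m) N && (!(Nat.beq (m % p) 0) &&
    (Nat.blt 1 m && refExcluded N p m (isq N))))))

/-- the automatic criterion -/
def orderExcluded (N : ℕ) : Bool :=
  Nat.ble N 1 || (isPrimeB N || (twoKill N (facs N) ||
    ((facs N).any (fun x => sylowKill N x.1 x.2) || (facs N).any (fun x => blockKill N x.1 x.2))))

variable {G : Type u} [Group G] [Finite G]

/-- The prime divisors of the order of the automorphism group of a group of order `p ^ 2`. -/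
theorem prime_dvd_card_mulAut {A : Type*} [Group A] [Finite A] {p r : ℕ} (hp : p.Prime) (hr : r.Prime)
    (hA : Nat.card A = p ^ 2) (h : r ∣ Nat.card (MulAut A)) : r ∣ p * ((p - 1) * (p + 1)) := by
  classical
  have : Fact r.Prime := ⟨hr⟩
  obtain ⟨φ, hφ⟩ := exists_prime_orderOf_dvd_card' r h
  have hR : IsPGroup r (zpowers φ) := IsPGroup.of_card (n := 1) (by rw [Nat.card_zpowers, hφ, pow_one])
  have hfix : MulAction.fixedPoints (zpowers φ) A = {a : A | φ a = a} := by
    ext a
    constructor
    · intro h; exact h ⟨φ, mem_zpowers φ⟩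
    · intro h g
      have h1 : φ ∈ MulAction.stabilizer (MulAut A) a := h
      exact zpowers_le.2 h1 g.2
  have hmod := hR.card_modEq_card_fixedPoints A
  rw [hfix, hA] at hmod
  have hF : Nat.card {a : A | φ a = a} = Nat.card ↥(φ.toMonoidHom.eqLocus (MonoidHom.id A)) := rfl
  rw [hF] at hmod
  set F := φ.toMonoidHom.eqLocus (MonoidHom.id A)
  obtain ⟨j, hj, hFj⟩ := (Nat.dvd_prime_pow hp).1 (hA ▸ F.card_subgroup_dvd_card)
  rw [hFj] at hmod
  have hne : j ≠ 2 := by
    rintro rfl
    have htop : F = ⊤ := Subgroup.eq_top_of_card_eq F (hFj.trans hA.symm)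
    have hφ1 : φ = 1 := MulEquiv.ext fun a => (htop ▸ Subgroup.mem_top a : a ∈ F)
    rw [hφ1, orderOf_one] at hφ
    exact hr.one_lt.ne hφ
  have hd := (Nat.modEq_iff_dvd' (Nat.pow_le_pow_right hp.pos hj)).1 hmod.symm
  interval_cases j
  · rw [pow_zero] at hd
    refine dvd_mul_of_dvd_right ?_ _
    have e : p ^ 2 - 1 = (p - 1) * (p + 1) := by
      obtain ⟨q, rfl⟩ : ∃ q, p = q + 1 := ⟨p - 1, by have := hp.one_le; omega⟩
      rw [Nat.add_sub_cancel]
      apply Nat.sub_eq_of_eq_add
      ring
    rwa [e] at hd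
  · rw [pow_one] at hd
    have e : p ^ 2 - p = p * (p - 1) := by rw [Nat.mul_sub, mul_one, pow_two]
    rw [e] at hd
    rcases hr.dvd_mul.1 hd with h | h
    · exact dvd_mul_of_dvd_left h _
    · exact dvd_mul_of_dvd_right (dvd_mul_of_dvd_left h _) _
  · exact absurd rfl hne

variable [IsSimpleGroup G]

theorem false_of_sylowKill {N p e : ℕ} (hN : Nat.card G = N) (h : sylowKill N p e = true) : False := by
  simp only [sylowKill, Bool.and_eq_true, Nat.blt_eq, Nat.beq_eq, Bool.not_eq_true'] at h
  obtain ⟨hpB, he, hmul, hmod, hm1, hall⟩ := h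
  have hp := prime_of_isPrimeB hpB
  have : Fact p.Prime := ⟨hp⟩
  set m := N / p ^ e with hmdef
  have hG : Nat.card G = p ^ e * m := hN.trans hmul.symm
  have hm : ¬ p ∣ m := fun hd => by
    rw [Nat.mod_eq_zero_of_dvd hd] at hmod
    exact Bool.false_ne_true hmod.symm
  have hnc : ¬ IsMulCommutative G := not_comm_of_not_prime (by
    rw [hG]; exact Nat.not_prime_mul (Nat.one_lt_pow he.ne' hp.one_lt).ne' hm1.ne')
  have hn := card_sylow_mem_sylowCands (p := p) (e := e) (m := m) hN hmul.symm hm he hm1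
  obtain ⟨hnm, hn1, hn2, -⟩ := card_sylow_facts hG hm he hm1
  have hk := List.all_eq_true.1 hall _ hn
  set n := Nat.card (Sylow p G) with hndef
  have hkn : m / n * n = m := Nat.div_mul_cancel hnm
  obtain ⟨P⟩ := (inferInstance : Nonempty (Sylow p G))
  have hP := card_sylow_eq hG hm P
  have hdvd : p ∣ Nat.card G := hG ▸ Dvd.dvd.mul_right (dvd_pow_self p he.ne') m
  have hne : (P : Subgroup G) ≠ ⊤ := by
    intro ht
    rw [ht, Subgroup.card_top, hG] at hP
    have hlt : p ^ e * 1 < p ^ e * m := Nat.mul_lt_mul_of_pos_left hm1 (pow_pos hp.pos _)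
    omega
  simp only [candKill, Bool.or_eq_true, Bool.and_eq_true, Nat.beq_eq, Nat.ble_eq,
    Bool.not_eq_true'] at hk
  rcases hk with ⟨rfl, hg⟩ | ⟨rfl, hg⟩ | ⟨he2, hnmod, hno⟩
  · rw [pow_one] at hG
    exact not_coprime_of_prime_order hG hm hm1 hkn hg
  · have hNm : Nat.card ↥(normalizer ((P : Subgroup G) : Set G)) =
        Nat.card ↥(P : Subgroup G) * (m / n) := by
      apply Nat.eq_of_mul_eq_mul_right (m := n) Nat.card_pos
      rw [hndef, card_normalizer_mul, hP, hG, mul_assoc, ← hndef, hkn]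
    refine not_coprime_aut hdvd P hne (isMulCommutative_of_card_eq_prime_or_sq P (Or.inr hP)) hNm ?_
    refine Nat.coprime_of_dvd fun r hr h1 h2 => ?_
    rcases hr.dvd_mul.1 (prime_dvd_card_mulAut hp hr hP h2) with h3 | h3
    · rw [(Nat.prime_dvd_prime_iff_eq hr hp).1 h3] at h1
      exact hm (h1.trans (Nat.div_dvd_of_dvd hnm))
    · exact Nat.Prime.not_dvd_one hr (hg ▸ Nat.dvd_gcd h1 h3)
  · have hnmodEq : ¬ n ≡ 1 [MOD p ^ 2] := by
      intro hc
      have h1 : n % (p * p) = 1 := by
        rw [← pow_two]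
        exact (show n % p ^ 2 = 1 % p ^ 2 from hc).trans (Nat.one_mod_eq_one.2 (Nat.one_lt_pow two_ne_zero hp.one_lt).ne')
      rw [h1] at hnmod
      exact Bool.false_ne_true hnmod.symm
    obtain ⟨P, R, hPR, hidx⟩ := exists_sylow_pair p 2 hnmodEq
    set D := (P : Subgroup G) ⊓ (R : Subgroup G) with hD
    have hPc := card_sylow_eq hG hm P
    have hRc := card_sylow_eq hG hm R
    have hinfP : Nat.card ↥(D.subgroupOf (P : Subgroup G)) = Nat.card ↥D :=
      Nat.card_congr (Subgroup.subgroupOfEquivOfLe inf_le_left).toEquiv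
    have hinfR : Nat.card ↥(D.subgroupOf (R : Subgroup G)) = Nat.card ↥D :=
      Nat.card_congr (Subgroup.subgroupOfEquivOfLe inf_le_right).toEquiv
    have hPD := (D.subgroupOf (P : Subgroup G)).card_mul_index
    rw [hinfP, hPc] at hPD
    have hPi : (D.subgroupOf (P : Subgroup G)).index = p := by
      have hle : (D.subgroupOf (P : Subgroup G)).index ≤ p := by
        rw [hD, Subgroup.inf_subgroupOf_left]; simpa using hidx
      have h1 : (D.subgroupOf (P : Subgroup G)).index ≠ 1 := by
        intro h1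
        rw [h1, mul_one] at hPD
        have e1 : D = (P : Subgroup G) := Subgroup.eq_of_le_of_card_ge inf_le_left (by rw [hPD, hPc])
        have e2 : D = (R : Subgroup G) := Subgroup.eq_of_le_of_card_ge inf_le_right (by rw [hPD, hRc])
        exact hPR (Sylow.ext (e1.symm.trans e2))
      obtain ⟨j, -, hj⟩ := (Nat.dvd_prime_pow hp).1
        (hPc ▸ (D.subgroupOf (P : Subgroup G)).index_dvd_card)
      rw [hj] at hle h1 ⊢
      rcases j with _ | _ | j
      · exact absurd (pow_zero p) h1
      · exact pow_one p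
      · exfalso
        have hlt : p ^ 1 < p ^ (j + 2) := Nat.pow_lt_pow_right hp.one_lt (by omega)
        rw [pow_one] at hlt
        exact absurd hle (not_le.2 hlt)
    have hRD := (D.subgroupOf (R : Subgroup G)).card_mul_index
    rw [hinfR, hRc, ← hPD] at hRD
    have hRi : (D.subgroupOf (R : Subgroup G)).index = p :=
      (Nat.eq_of_mul_eq_mul_left Nat.card_pos hRD).trans hPi
    rw [hPi] at hPD
    have hnorm : ∀ Q : Sylow p G, D ≤ (Q : Subgroup G) → (D.subgroupOf (Q : Subgroup G)).index = p →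
        (Q : Subgroup G) ≤ normalizer (D : Set G) := by
      intro Q hDQ hQ
      rw [← Subgroup.normal_subgroupOf_iff_le_normalizer hDQ]
      refine Subgroup.normal_of_index_eq_minFac_card (hQ.trans ?_)
      rw [card_sylow_eq hG hm Q, Nat.pow_minFac he.ne', hp.minFac_eq]
    obtain ⟨a, ha1, ha2, ha3⟩ := dvd_card_of_two_sylow P R hPR (hnorm P inf_le_left hPi)
      (hnorm R inf_le_right hRi)
    have hDne : D ≠ ⊥ := by
      intro h0
      rw [h0, Subgroup.card_bot, one_mul] at hPD
      exact absurd (Nat.pow_le_pow_right hp.pos he2) (by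
        rw [← hPD]; have := hp.two_le; nlinarith)
    have hNne : normalizer (D : Set G) ≠ ⊤ := by
      intro h0
      have htop := normal_eq_top (Subgroup.normalizer_eq_top_iff.1 h0) hDne
      have hle : (⊤ : Subgroup G) ≤ (P : Subgroup G) := htop ▸ inf_le_left
      have := Subgroup.card_le_of_le hle
      rw [Subgroup.card_top, hG, hPc] at this
      have hlt : p ^ e * 1 < p ^ e * m := Nat.mul_lt_mul_of_pos_left hm1 (pow_pos hp.pos _)
      omega
    have hfac := two_mul_card_dvd_factorial hnc hNne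
    rw [hN] at hfac
    set i := (normalizer (D : Set G)).index with hi
    have hdiv : i * a ∣ m := by
      have h1 := Nat.mul_dvd_mul_right ha3 i
      rw [hi, Subgroup.card_mul_index, hG, hPc, mul_assoc] at h1
      have h2 := Nat.dvd_of_mul_dvd_mul_left (pow_pos hp.pos e) h1
      rwa [mul_comm] at h2
    have hi1 : 1 < i := by
      have h0 : i ≠ 0 := Subgroup.index_ne_zero_of_finite
      have h1 : i ≠ 1 := fun h => hNne (Subgroup.index_eq_one.1 h)
      omega
    have him : i ∣ m := (dvd_mul_right i a).trans hdiv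
    have hami : a ∣ m / i := by
      obtain ⟨d, hd⟩ := hdiv
      exact ⟨d, by rw [hd, mul_assoc, Nat.mul_div_cancel_left _ (by omega)]⟩
    simp only [noInter, List.all_eq_true, List.mem_range, Bool.or_eq_true, Bool.not_eq_true'] at hno
    have hleft : (Nat.blt 1 i && (Nat.beq (m % i) 0 &&
        (Nat.blt 20 i || Nat.beq (fct i % (2 * N)) 0))) = true := by
      simp only [Bool.and_eq_true, Bool.or_eq_true, Nat.blt_eq, Nat.beq_eq]
      exact ⟨hi1, Nat.mod_eq_zero_of_dvd him, Or.inr (by rw [fct_eq]; exact Nat.mod_eq_zero_of_dvd hfac)⟩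
    rcases hno i (Nat.lt_succ_of_le (Nat.le_of_dvd (by omega) him)) with h1 | h1
    · rw [hleft] at h1; exact Bool.false_ne_true h1.symm
    · have hm0 : 0 < m / i := Nat.div_pos (Nat.le_of_dvd (by omega) him) (by omega)
      have h2 := h1 a (Nat.lt_succ_of_le (Nat.le_of_dvd hm0 hami))
      have hr : (Nat.blt 1 a && (Nat.beq ((m / i) % a) 0 && Nat.beq (a % p) 1)) = true := by
        simp only [Bool.and_eq_true, Nat.blt_eq, Nat.beq_eq]
        exact ⟨ha2, Nat.mod_eq_zero_of_dvd hami, ha1⟩
      rw [hr] at h2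
      exact Bool.false_ne_true h2.symm

theorem false_of_blockKill {N p e : ℕ} (hN : Nat.card G = N) (h : blockKill N p e = true) : False := by
  simp only [blockKill, Bool.and_eq_true, Nat.blt_eq, Nat.beq_eq, Bool.not_eq_true'] at h
  obtain ⟨hpB, -, -, hmul, hmod, hm1, href⟩ := h
  refine card_ne_of_refExcluded p (N / p) (isq N) (prime_of_isPrimeB hpB) hmul.symm (fun hd => ?_) hm1
    href hN
  rw [Nat.mod_eq_zero_of_dvd hd] at hmod
  exact Bool.false_ne_true hmod.symm

/-- The automatic criterion is sound. -/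
theorem card_ne_of_orderExcluded (hG : ¬ IsMulCommutative G) {N : ℕ} (h : orderExcluded N = true) :
    Nat.card G ≠ N := by
  intro hN
  simp only [orderExcluded, Bool.or_eq_true, List.any_eq_true, Nat.ble_eq] at h
  rcases h with h | h | h | ⟨x, -, hx⟩ | ⟨x, -, hx⟩
  · have h2 : 1 < Nat.card G := Finite.one_lt_card
    omega
  · have : Fact (Nat.card G).Prime := ⟨hN ▸ prime_of_isPrimeB h⟩
    have := isCyclic_of_prime_card (α := G) rfl
    exact hG ⟨⟨(IsCyclic.commGroup (α := G)).mul_comm⟩⟩
  · have hsolv : Group.IsSolvable G := by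
      revert h
      match facs N with
      | [] => intro h; simp [twoKill] at h
      | [(p, a)] =>
        intro h
        simp only [twoKill, Bool.and_eq_true, Nat.beq_eq] at h
        exact Char.isSolvable_of_card_eq_prime_pow_mul (p := p) (a := a) (q := p) (b := 0) (prime_of_isPrimeB h.1)
          (prime_of_isPrimeB h.1) (by rw [hN, ← h.2, pow_zero, mul_one])
      | [(p, a), (q, b)] =>
        intro h
        simp only [twoKill, Bool.and_eq_true, Nat.beq_eq] at h
        exact Char.isSolvable_of_card_eq_prime_pow_mul (prime_of_isPrimeB h.1) (prime_of_isPrimeB h.2.1)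
          (hN.trans h.2.2.symm)
      | _ :: _ :: _ :: _ => intro h; simp [twoKill] at h
    exact hG ⟨⟨IsSimpleGroup.comm_iff_isSolvable.2 hsolv⟩⟩
  · exact false_of_sylowKill hN hx
  · exact false_of_blockKill hN hx

/-- all numbers of an interval are excluded, apart from the listed ones -/
def rangeExcluded (a len : ℕ) (exc : List ℕ) : Bool :=
  (List.range len).all fun i => exc.any (fun x => Nat.beq x (a + i)) || orderExcluded (a + i)

theorem card_mem_of_rangeExcluded (hG : ¬ IsMulCommutative G) {a len : ℕ} {exc : List ℕ}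
    (h : rangeExcluded a len exc = true) (h1 : a ≤ Nat.card G) (h2 : Nat.card G < a + len) :
    Nat.card G ∈ exc := by
  simp only [rangeExcluded, List.all_eq_true, List.mem_range, Bool.or_eq_true, List.any_eq_true,
    Nat.beq_eq] at h
  rcases h (Nat.card G - a) (by omega) with ⟨x, hx, hxe⟩ | h'
  · rwa [show x = Nat.card G by omega] at hx
  · rw [show a + (Nat.card G - a) = Nat.card G by omega] at h'
    exact absurd rfl (card_ne_of_orderExcluded hG h')

end CfsgLib.SmallOrder
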