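import Cfsg.Agent.Lib.SmallOrder.CentralizerSplit
import Cfsg.Agent.Lib.Char.Complete
import Cfsg.Agent.Lib.Char.Linear
import Cfsg.Agent.Lib.Char.Virtual
import Mathlib.Analysis.SpecialFunctions.Complex.CircleAddChar

/-!
For a Sylow subgroup `P` of prime order with `C(P) = ⟨z⟩ × V`: the multiplicities of the characters of `P` in
the `V`-fixed part of the irreducible characters of `G`, and their Gram matrix over all irreducible characters.
-/

set_option autoImplicit false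

open scoped ComplexConjugate

namespace CfsgLib.SmallOrder

open Subgroup

universe u

variable {G : Type u} [Group G] [Fintype G] {p : ℕ} [Fact p.Prime]

/-- orthogonality of columns in counting form -/
theorem sum_mul_conj_eq_card (y y' : G) :
    ∑ χ : Cfsg.IrrCharacter G, (χ : G → ℂ) y * conj ((χ : G → ℂ) y') =
      (Nat.card {g : G // g * y * g⁻¹ = y'} : ℂ) := by
  classical
  rw [Char.sum_mul_conj]
  split_ifs with h
  · obtain ⟨g0, hg0⟩ := isConj_iff.1 h
    refine congrArg Nat.cast (Nat.card_congr ((Equiv.mulLeft g0).subtypeEquiv fun g => ?_))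
    simp only [Equiv.coe_mulLeft, mem_centralizer_singleton_iff]
    constructor
    · intro hg
      rw [← hg0, mul_inv_rev]
      calc g0 * g * y * (g⁻¹ * g0⁻¹) = g0 * (g * y) * (g⁻¹ * g0⁻¹) := by simp only [mul_assoc]
        _ = g0 * y * g0⁻¹ := by rw [hg]; simp only [mul_assoc, mul_inv_cancel_left]
    · intro hg
      rw [← hg0] at hg
      simp only [mul_inv_rev, mul_assoc, mul_right_inj] at hg
      have : g * y * g⁻¹ = y := by
        apply mul_right_cancel (b := g0⁻¹)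
        simpa only [mul_assoc] using hg
      exact mul_inv_eq_iff_eq_mul.1 this
  · have : IsEmpty {g : G // g * y * g⁻¹ = y'} := ⟨fun g => h (isConj_iff.2 ⟨g.1, g.2⟩)⟩
    simp

theorem conj_stdAddChar (j : ZMod p) :
    conj (ZMod.stdAddChar j : ℂ) = ZMod.stdAddChar (-j) := by
  rw [ZMod.stdAddChar_apply, ZMod.stdAddChar_apply, AddChar.map_neg_eq_inv, Circle.coe_inv_eq_conj]

theorem sum_stdAddChar (b : ZMod p) :
    ∑ x : ZMod p, (ZMod.stdAddChar (x * b) : ℂ) = if b = 0 then (p : ℂ) else 0 := by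
  rw [AddChar.sum_mulShift b (ZMod.isPrimitive_stdAddChar p), ZMod.card]
  split_ifs <;> simp

theorem smul_eq_self_iff' {g : G} {P : Sylow p G} :
    g • P = P ↔ g ∈ normalizer ((P : Subgroup G) : Set G) :=
  Sylow.smul_eq_iff_mem_normalizer

namespace CSplit

variable {P : Sylow p G} (S : CSplit p P)

/-- sum of `χ` over the coset `z ^ i V` -/
noncomputable def Ssum (χ : G → ℂ) (i : ZMod p) : ℂ := ∑ᶠ v : S.V, χ (zpw S.z i * (v : G))

/-- `ZMod p × V` as a group mapping onto the centraliser -/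
noncomputable def phi : Multiplicative (ZMod p) × S.V →* G where
  toFun x := zpw S.z x.1.toAdd * (x.2 : G)
  map_one' := by simp [zpw_zero]
  map_mul' := by
    rintro ⟨i, u⟩ ⟨j, v⟩
    simp only [Prod.mk_mul_mk, toAdd_mul, zpw_add S.hz, Subgroup.coe_mul]
    have h : zpw S.z j.toAdd * (u : G) = (u : G) * zpw S.z j.toAdd := S.commute _ u.2
    rw [mul_assoc, ← mul_assoc (zpw S.z j.toAdd), h]
    simp only [mul_assoc]

/-- the linear character `(i, v) ↦ ω ^ (i j)` -/
noncomputable def lam (j : ZMod p) : Multiplicative (ZMod p) × S.V →* ℂˣ :=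
  ((ZMod.stdAddChar (N := p)).mulShift j).toMonoidHom.toHomUnits.comp
    (MonoidHom.fst (Multiplicative (ZMod p)) S.V)

theorem lam_apply (j : ZMod p) (x : Multiplicative (ZMod p) × S.V) :
    ((S.lam j x : ℂˣ) : ℂ) = ZMod.stdAddChar (j * x.1.toAdd) := rfl

theorem classInner_lam [Fintype S.V] (χ : G → ℂ) (j : ZMod p) :
    Cfsg.classInner (fun x => χ (S.phi x)) (fun x => ((S.lam j x : ℂˣ) : ℂ)) =
      ((p : ℂ) * Nat.card S.V)⁻¹ * ∑ i : ZMod p, S.Ssum χ i * ZMod.stdAddChar (-(j * i)) := by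
  have hcard : (Nat.card (Multiplicative (ZMod p) × S.V) : ℂ) = (p : ℂ) * Nat.card S.V := by
    rw [Nat.card_prod, Nat.cast_mul]
    congr 2
    exact Nat.card_zmod p
  rw [Cfsg.classInner, hcard, Fintype.sum_prod_type]
  congr 1
  refine Fintype.sum_equiv Multiplicative.toAdd _ _ fun i => ?_
  rw [Ssum, finsum_eq_sum_of_fintype, Finset.sum_mul]
  refine Finset.sum_congr rfl fun v _ => ?_
  rw [S.lam_apply, conj_stdAddChar]
  rfl

theorem exists_mult (χ : G → ℂ) (hχ : Cfsg.IsCharacter G χ) (j : ZMod p) :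
    ∃ m : ℕ, (p : ℂ) * Nat.card S.V * m =
      ∑ i : ZMod p, S.Ssum χ i * ZMod.stdAddChar (-(j * i)) := by
  classical
  have : Fintype S.V := Fintype.ofFinite _
  obtain ⟨m, hm⟩ := Char.IsCharacter.exists_nat_classInner
    (Char.IsCharacter.comp hχ S.phi) (Char.isIrrCharacter_monoidHom (S.lam j))
  refine ⟨m, ?_⟩
  rw [← hm, classInner_lam, ← mul_assoc, mul_inv_cancel₀, one_mul]
  exact mul_ne_zero (Nat.cast_ne_zero.2 (Fact.out : p.Prime).ne_zero)
    (Nat.cast_ne_zero.2 Nat.card_pos.ne')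

/-- multiplicity of `ω ^ j` on the fixed space of `V` -/
noncomputable def mult (χ : Cfsg.IrrCharacter G) (j : ZMod p) : ℕ :=
  (S.exists_mult χ.1 (Char.IsIrrCharacter.isCharacter χ.2) j).choose

theorem mult_spec (χ : Cfsg.IrrCharacter G) (j : ZMod p) :
    (p : ℂ) * Nat.card S.V * S.mult χ j =
      ∑ i : ZMod p, S.Ssum χ.1 i * ZMod.stdAddChar (-(j * i)) :=
  (S.exists_mult χ.1 (Char.IsIrrCharacter.isCharacter χ.2) j).choose_spec

/-- reduced multiplicity -/
noncomputable def rmult (χ : Cfsg.IrrCharacter G) (j : ZMod p) : ℤ :=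
  (S.mult χ j : ℤ) - S.mult χ 0

theorem rmult_spec (χ : Cfsg.IrrCharacter G) (j : ZMod p) :
    (p : ℂ) * Nat.card S.V * S.rmult χ j =
      ∑ i : ZMod p, S.Ssum χ.1 i * (ZMod.stdAddChar (-(j * i)) - 1) := by
  rw [rmult, Int.cast_sub, Int.cast_natCast, Int.cast_natCast, mul_sub, mult_spec, mult_spec,
    ← Finset.sum_sub_distrib]
  refine Finset.sum_congr rfl fun i _ => ?_
  simp [mul_sub]

/-- the total multiplicity is the average of `χ` over `V` -/
theorem sum_mult (χ : Cfsg.IrrCharacter G) :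
    (Nat.card S.V : ℂ) * ((∑ j : ZMod p, S.mult χ j : ℕ) : ℂ) = S.Ssum χ.1 0 := by
  apply mul_left_cancel₀ (Nat.cast_ne_zero.2 (Fact.out : p.Prime).ne_zero : (p : ℂ) ≠ 0)
  rw [Nat.cast_sum, ← mul_assoc, Finset.mul_sum, Finset.sum_congr rfl (fun j _ => S.mult_spec χ j),
    Finset.sum_comm, Finset.sum_eq_single_of_mem (0 : ZMod p) (Finset.mem_univ _)]
  · simp [mul_comm]
  · intro i _ hi
    rw [← Finset.mul_sum]
    have : ∑ j : ZMod p, (ZMod.stdAddChar (-(j * i)) : ℂ) = 0 := by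
      have h := sum_stdAddChar (p := p) (-i)
      rw [if_neg (neg_ne_zero.2 hi)] at h
      simpa [mul_neg] using h
    rw [this, mul_zero]

theorem pow_card (i : ZMod p) {v : G} (hv : v ∈ S.V) :
    (zpw S.z i * v) ^ Nat.card S.V = zpw S.z ((Nat.card S.V : ZMod p) * i) := by
  rw [(S.commute i hv).mul_pow, orderOf_dvd_iff_pow_eq_one.1 (Subgroup.orderOf_dvd_natCard _ hv),
    mul_one, zpw_mul S.hz]

theorem card_ne_zero : (Nat.card S.V : ZMod p) ≠ 0 :=
  fun h => S.hcop ((ZMod.natCast_eq_zero_iff _ _).1 h)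

theorem mem_normalizer_of_conj {i : ZMod p} (hi : i ≠ 0) {k : ZMod p} {g : G}
    (h : g * zpw S.z i * g⁻¹ = zpw S.z k) : g ∈ normalizer ((P : Subgroup G) : Set G) := by
  have hz' : zpowers (zpw S.z i) = (P : Subgroup G) := by
    refine eq_of_le_of_card_ge (zpowers_le.2 (S.zpw_mem i)) ?_
    rw [← S.hP, Nat.card_zpowers, Nat.card_zpowers, S.hz]
    have hd : orderOf (zpw S.z i) ∣ p := by
      have := orderOf_pow_dvd (x := S.z) i.val
      rwa [S.hz] at this
    refine (((Nat.dvd_prime Fact.out).1 hd).resolve_left fun h1 => hi ?_).ge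
    apply zpw_injective S.hz
    rw [zpw_zero, orderOf_eq_one_iff.1 h1]
  refine smul_eq_self_iff'.1 (Sylow.ext (eq_of_le_of_card_ge ?_ ?_))
  · rw [Sylow.coe_subgroup_smul]
    rintro _ ⟨y, hy, rfl⟩
    rw [SetLike.mem_coe, ← hz'] at hy
    obtain ⟨n, rfl⟩ := mem_zpowers_iff.1 hy
    change g * zpw S.z i ^ n * g⁻¹ ∈ (P : Subgroup G)
    rw [← conj_zpow, h]
    exact zpow_mem (S.zpw_mem k) n
  · rw [(g • P).card_eq_multiplicity, P.card_eq_multiplicity]

theorem eq_of_conj {i i' : ZMod p} (hi : i ≠ 0) {v v' g : G} (hv : v ∈ S.V) (hv' : v' ∈ S.V)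
    (h : g * (zpw S.z i * v) * g⁻¹ = zpw S.z i' * v') :
    g * zpw S.z i * g⁻¹ = zpw S.z i' ∧ g * v * g⁻¹ = v' := by
  have hc := S.card_ne_zero
  have hp := congrArg (· ^ Nat.card S.V) h
  simp only [conj_pow, S.pow_card i hv, S.pow_card i' hv'] at hp
  obtain ⟨d, hd⟩ : ∃ d : ℕ, (d : ZMod p) = (Nat.card S.V : ZMod p)⁻¹ :=
    ⟨((Nat.card S.V : ZMod p)⁻¹).val, ZMod.natCast_zmod_val _⟩
  have hp' := congrArg (· ^ d) hp
  simp only [conj_pow, zpw_mul S.hz, hd, inv_mul_cancel_left₀ hc] at hp'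
  refine ⟨hp', mul_left_cancel (a := zpw S.z i') ?_⟩
  rw [← h, ← hp']
  simp only [mul_assoc, inv_mul_cancel_left]

theorem sum_Ssum_mul_conj {i : ZMod p} (hi : i ≠ 0) (i' : ZMod p) :
    ∑ χ : Cfsg.IrrCharacter G, S.Ssum χ.1 i * conj (S.Ssum χ.1 i') =
      (Nat.card S.V : ℂ) * (Nat.card {g : G // g * zpw S.z i * g⁻¹ = zpw S.z i'} : ℂ) := by
  classical
  have : Fintype S.V := Fintype.ofFinite _
  have key : ∀ v : S.V, ∑ χ : Cfsg.IrrCharacter G,
      χ.1 (zpw S.z i * (v : G)) * conj (∑ v' : S.V, χ.1 (zpw S.z i' * (v' : G))) =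
      (Nat.card {g : G // g * zpw S.z i * g⁻¹ = zpw S.z i'} : ℂ) := by
    intro v
    simp only [map_sum, Finset.mul_sum]
    rw [Finset.sum_comm]
    simp only [sum_mul_conj_eq_card]
    rw [← Nat.cast_sum, ← Nat.card_sigma]
    congr 1
    refine Nat.card_congr
      { toFun := fun x => ⟨x.2.1, (S.eq_of_conj hi v.2 x.1.2 x.2.2).1⟩
        invFun := fun g => ⟨⟨g.1 * (v : G) * g.1⁻¹,
          S.conj_mem (S.mem_normalizer_of_conj hi g.2) v.2⟩, g.1, ?_⟩
        left_inv := ?_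
        right_inv := fun g => rfl }
    · calc g.1 * (zpw S.z i * (v : G)) * g.1⁻¹
          = (g.1 * zpw S.z i * g.1⁻¹) * (g.1 * (v : G) * g.1⁻¹) := by simp [mul_assoc]
        _ = zpw S.z i' * (g.1 * (v : G) * g.1⁻¹) := by rw [g.2]
    · rintro ⟨⟨v', hv'⟩, g, hg⟩
      obtain ⟨-, rfl⟩ := S.eq_of_conj hi v.2 hv' hg
      rfl
  simp only [Ssum, finsum_eq_sum_of_fintype, Finset.sum_mul]
  rw [Finset.sum_comm, Finset.sum_congr rfl (fun v _ => key v)]
  simp

end CSplit

end CfsgLib.SmallOrder
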