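import Cfsg.Agent.Lib.SmallOrder.Basic
import Mathlib.Data.ZMod.Basic
import Mathlib.Algebra.Field.ZMod
import Mathlib.GroupTheory.QuotientGroup.Basic

/-!
The centraliser of a Sylow subgroup of prime order is `P × V` with `V` of order prime to `p`.
-/

set_option autoImplicit false

namespace CfsgLib.SmallOrder

open Subgroup

variable {G : Type*} [Group G] {p : ℕ}

/-- `z ^ i` for `i` an integer mod `p` -/
def zpw (z : G) (i : ZMod p) : G := z ^ i.val

section zpw

variable [NeZero p] {z : G} (hz : orderOf z = p)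

include hz in
omit [NeZero p] in
include hz in
theorem zpw_natCast (k : ℕ) : zpw z (k : ZMod p) = z ^ k := by
  rw [zpw, ZMod.val_natCast, ← hz, pow_mod_orderOf]

omit [NeZero p] in
theorem zpw_zero : zpw z (0 : ZMod p) = 1 := by simp [zpw]

include hz in
theorem zpw_add (i j : ZMod p) : zpw z (i + j) = zpw z i * zpw z j := by
  rw [zpw, zpw, zpw, ← pow_add, ZMod.val_add]
  exact (congrArg (fun m => z ^ ((i.val + j.val) % m)) hz).symm.trans (pow_mod_orderOf _ _)

include hz in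
theorem zpw_mul (i : ZMod p) (k : ℕ) : zpw z i ^ k = zpw z ((k : ZMod p) * i) := by
  induction k with
  | zero => simp [zpw_zero]
  | succ k ih => rw [pow_succ, ih, ← zpw_add hz, Nat.cast_succ, add_mul, one_mul]

include hz in
theorem zpw_injective : Function.Injective (zpw z : ZMod p → G) := by
  intro i j h
  refine ZMod.val_injective p (pow_injOn_Iio_orderOf ?_ ?_ h)
  · rw [hz]; exact Set.mem_Iio.2 i.val_lt
  · rw [hz]; exact Set.mem_Iio.2 j.val_lt

include hz in
theorem exists_zpw_of_mem_zpowers [Finite G] {g : G} (hg : g ∈ zpowers z) :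
    ∃ i : ZMod p, g = zpw z i := by
  obtain ⟨k, rfl⟩ := mem_powers_iff_mem_zpowers.2 hg
  exact ⟨(k : ZMod p), (zpw_natCast hz k).symm⟩

end zpw

/-- `C(P) = ⟨z⟩ × V` -/
structure CSplit (p : ℕ) (P : Sylow p G) where
  /-- a generator -/
  z : G
  /-- the `p'`-part -/
  V : Subgroup G
  hz : orderOf z = p
  hP : zpowers z = (P : Subgroup G)
  hcop : ¬ p ∣ Nat.card V
  hcomm : ∀ v ∈ V, Commute z v
  hC : ∀ g ∈ centralizer ((P : Subgroup G) : Set G), ∃ i : ZMod p, ∃ v ∈ V, g = zpw z i * v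

variable [Finite G] [Fact p.Prime]

theorem exists_csplit (P : Sylow p G) (hP : Nat.card ↥(P : Subgroup G) = p) :
    Nonempty (CSplit p P) := by
  have hp : p.Prime := Fact.out
  have : IsCyclic ↥(P : Subgroup G) := isCyclic_of_prime_card hP
  obtain ⟨⟨z, hzP⟩, hgen⟩ := IsCyclic.exists_generator (α := ↥(P : Subgroup G))
  have hz : orderOf z = p := by
    rw [← orderOf_mk z hzP, orderOf_eq_card_of_forall_mem_zpowers hgen, hP]
  have hzP' : zpowers z = (P : Subgroup G) :=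
    eq_of_le_of_card_ge (zpowers_le.2 hzP) (by rw [Nat.card_zpowers, hz, hP])
  set C := centralizer ((P : Subgroup G) : Set G) with hCdef
  have hab := isMulCommutative_of_card_eq_prime_or_sq P (Or.inl hP)
  have hPC : (P : Subgroup G) ≤ C := fun x hx =>
    mem_centralizer_iff.2 fun y hy => congrArg Subtype.val (hab.is_comm.comm ⟨y, hy⟩ ⟨x, hx⟩)
  let Q : Sylow p ↥C := P.subtype hPC
  have hQc : ∀ g : ↥C, g ∈ centralizer ((Q : Subgroup ↥C) : Set ↥C) := fun g =>
    mem_centralizer_iff.2 fun y hy => Subtype.ext (mem_centralizer_iff.1 g.2 y.1 hy)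
  have hle : normalizer ((Q : Subgroup ↥C) : Set ↥C) ≤ centralizer ((Q : Subgroup ↥C) : Set ↥C) :=
    fun g _ => hQc g
  have hcompl := MonoidHom.ker_transferSylow_isComplement' Q hle
  have hnd := MonoidHom.not_dvd_card_ker_transferSylow Q hle
  set K := (MonoidHom.transferSylow Q hle).ker
  refine ⟨⟨z, K.map C.subtype, hz, hzP', ?_, ?_, ?_⟩⟩
  · rwa [Nat.card_congr (K.equivMapOfInjective C.subtype C.subtype_injective).toEquiv.symm]
  · rintro _ ⟨v, _, rfl⟩
    exact mem_centralizer_iff.1 v.2 z hzP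
  · intro g hg
    obtain ⟨⟨v, u⟩, hvu⟩ := hcompl.2 ⟨g, hg⟩
    have hu : ((u : ↥C) : G) ∈ zpowers z := by rw [hzP']; exact u.2
    obtain ⟨i, hi⟩ := exists_zpw_of_mem_zpowers hz hu
    refine ⟨i, _, ⟨v, v.2, rfl⟩, ?_⟩
    have hgv : g = ((v : ↥C) : G) * ((u : ↥C) : G) := (congrArg Subtype.val hvu).symm
    rw [hgv, ← hi]
    exact (mem_centralizer_iff.1 (v : ↥C).2 _ u.2).symm

namespace CSplit

variable {P : Sylow p G} (S : CSplit p P)

omit [Finite G] [Fact p.Prime] in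
theorem z_mem : S.z ∈ (P : Subgroup G) := S.hP ▸ mem_zpowers S.z

omit [Finite G] [Fact p.Prime] in
theorem zpw_mem (i : ZMod p) : zpw S.z i ∈ (P : Subgroup G) := pow_mem S.z_mem _

omit [Finite G] [Fact p.Prime] in
theorem commute (i : ZMod p) {v : G} (hv : v ∈ S.V) : Commute (zpw S.z i) v :=
  (S.hcomm v hv).pow_left _

omit [Finite G] [Fact p.Prime] in
theorem v_mem_centralizer {v : G} (hv : v ∈ S.V) : v ∈ centralizer ((P : Subgroup G) : Set G) := by
  refine mem_centralizer_iff.2 fun y hy => ?_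
  rw [← S.hP] at hy
  obtain ⟨k, rfl⟩ := mem_zpowers_iff.1 hy
  exact ((S.hcomm v hv).zpow_left k).eq

omit [Finite G] [Fact p.Prime] in
theorem mem_centralizer (i : ZMod p) {v : G} (hv : v ∈ S.V) :
    zpw S.z i * v ∈ centralizer ((P : Subgroup G) : Set G) := by
  refine mul_mem (mem_centralizer_iff.2 fun y hy => ?_) (S.v_mem_centralizer hv)
  rw [← S.hP] at hy
  obtain ⟨k, rfl⟩ := mem_zpowers_iff.1 hy
  exact ((Commute.refl S.z).pow_right _).zpow_left k |>.eq

theorem coprime : Nat.Coprime p (Nat.card S.V) :=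
  (Fact.out : p.Prime).coprime_iff_not_dvd.2 S.hcop

theorem eq_zero_of_zpw_mem {i : ZMod p} (h : zpw S.z i ∈ S.V) : i = 0 := by
  apply zpw_injective S.hz
  rw [zpw_zero]
  apply orderOf_eq_one_iff.1
  refine Nat.eq_one_of_dvd_coprimes S.coprime ?_ (Subgroup.orderOf_dvd_natCard _ h)
  have h1 : orderOf (zpw S.z i) ∣ orderOf S.z := by
    rw [zpw]; exact orderOf_pow_dvd _
  rwa [S.hz] at h1

theorem unique {i j : ZMod p} {u v : G} (hu : u ∈ S.V) (hv : v ∈ S.V)
    (h : zpw S.z i * u = zpw S.z j * v) : i = j ∧ u = v := by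
  have hne : zpw S.z (-j + i) = v * u⁻¹ := by
    have h1 : zpw S.z (-j) * zpw S.z j = 1 := by rw [← zpw_add S.hz, neg_add_cancel, zpw_zero]
    rw [zpw_add S.hz, eq_mul_inv_iff_mul_eq, mul_assoc, h, ← mul_assoc, h1, one_mul]
  have hij := S.eq_zero_of_zpw_mem (i := -j + i) (hne ▸ mul_mem hv (inv_mem hu))
  obtain rfl : i = j := (neg_add_eq_zero.1 hij).symm
  exact ⟨rfl, mul_left_cancel h⟩

theorem card_centralizer :
    Nat.card ↥(centralizer ((P : Subgroup G) : Set G)) = p * Nat.card S.V := by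
  let f : ZMod p × S.V → ↥(centralizer ((P : Subgroup G) : Set G)) :=
    fun x => ⟨zpw S.z x.1 * (x.2 : G), S.mem_centralizer x.1 x.2.2⟩
  have hf : Function.Bijective f := by
    constructor
    · rintro ⟨i, u⟩ ⟨j, v⟩ h
      obtain ⟨h1, h2⟩ := S.unique u.2 v.2 (congrArg Subtype.val h)
      exact Prod.ext h1 (Subtype.ext h2)
    · rintro ⟨g, hg⟩
      obtain ⟨i, v, hv, rfl⟩ := S.hC g hg
      exact ⟨(i, ⟨v, hv⟩), rfl⟩
  rw [← Nat.card_eq_of_bijective f hf, Nat.card_prod, Nat.card_zmod]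

theorem mem_V_iff {g : G} :
    g ∈ S.V ↔ g ∈ centralizer ((P : Subgroup G) : Set G) ∧ g ^ Nat.card S.V = 1 := by
  refine ⟨fun hg => ⟨S.v_mem_centralizer hg,
    orderOf_dvd_iff_pow_eq_one.1 (Subgroup.orderOf_dvd_natCard _ hg)⟩, ?_⟩
  rintro ⟨hg, hgc⟩
  obtain ⟨i, v, hv, rfl⟩ := S.hC g hg
  rw [(S.commute i hv).mul_pow, orderOf_dvd_iff_pow_eq_one.1 (Subgroup.orderOf_dvd_natCard _ hv),
    mul_one, zpw_mul S.hz, ← zpw_zero (z := S.z) (p := p)] at hgc
  have hi := zpw_injective S.hz hgc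
  have hc : (Nat.card S.V : ZMod p) ≠ 0 := fun h => S.hcop ((ZMod.natCast_eq_zero_iff _ _).1 h)
  rw [(mul_eq_zero.1 hi).resolve_left hc, zpw_zero, one_mul]
  exact hv

theorem conj_mem {n v : G} (hn : n ∈ normalizer ((P : Subgroup G) : Set G)) (hv : v ∈ S.V) :
    n * v * n⁻¹ ∈ S.V := by
  rw [S.mem_V_iff]
  refine ⟨mem_centralizer_iff.2 fun y hy => ?_, by
    rw [conj_pow, orderOf_dvd_iff_pow_eq_one.1 (Subgroup.orderOf_dvd_natCard _ hv), mul_one,
      mul_inv_cancel]⟩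
  have hy' : n⁻¹ * y * n ∈ (P : Subgroup G) := ((mem_normalizer_iff''.mp hn) y).mp hy
  have h := mem_centralizer_iff.1 (S.v_mem_centralizer hv) _ hy'
  calc y * (n * v * n⁻¹) = n * (n⁻¹ * y * n * v) * n⁻¹ := by
        simp only [mul_assoc, mul_inv_cancel_left]
    _ = n * (v * (n⁻¹ * y * n)) * n⁻¹ := by rw [h]
    _ = n * v * n⁻¹ * y := by simp only [mul_assoc, mul_inv_cancel, mul_one]

end CSplit

end CfsgLib.SmallOrder
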