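import Cfsg.Agent.Lib.SmallOrder.Auto

/-!
The possible normaliser structures of a Sylow subgroup of prime order which survive the refined criterion.
-/

set_option autoImplicit false

namespace CfsgLib.SmallOrder

open Subgroup

/-- `solTest`, with the cheaper searches first -/
def solTestFast (N p c e n t : ℕ) (W0 : ℤ) (f0 : ℕ) (l : List (ℤ × ℕ)) : Bool :=
  Nat.beq (c % 2) 0 || Nat.beq (e % 2) 1 ||
    (tSearch N p c e n t W0 f0 l (invTargetStrict N p c e n) ||
      (tSearch N p c e n t W0 f0 l (invTarget p c e n) &&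
        valSearch N (fun _ _ => true) ((W0, f0) :: l) (-1) (-(N : ℤ)) (fun q => decide (q = 0))))

/-- `noSolution`, with the cheaper searches first -/
def noSolutionFast (N p c e t n R : ℕ) : Bool :=
  let L : ℕ := max e (degBound p c)
  Nat.blt N ((R + 1) * (R + 1)) &&
  [(1 : ℤ), -1].all fun ε => (intBox (e + 1)).all fun k =>
    let S : ℤ := (e : ℤ) - 1 - (t : ℤ) * (k * k) - 2 * ε * k
    decide (S < 0) || (Nat.beq t 1 && decide (k + ε = 0)) || (degFs N L R).all fun f0 =>
      !(decide (((f0 : ℤ) - ((e : ℤ) * ε - k)) % (p : ℤ) = 0) && Nat.ble (1 + t * (f0 * f0)) N &&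
        degSearchP ((degCands N p e R).filter fun x => Nat.ble L x.2) S.toNat
          (1 - ((t : ℤ) * k + ε) * f0) (N - (1 + t * (f0 * f0))) []
          fun l => solTestFast N p c e n t ((t : ℤ) * k + ε) f0 l)

theorem noSolutionFast_eq (N p c e t n R : ℕ) : noSolutionFast N p c e t n R = noSolution N p c e t n R := by
  have h : solTestFast N p c e n t = solTest N p c e n t := by
    funext W0 f0 l
    simp [solTestFast, solTest, Bool.and_comm]
  simp [noSolutionFast, noSolution, h]

/-- all structures `(n, c, e)` not excluded by the refined criterion belong to `L` -/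
def optionsWithin (N p m R : ℕ) (L : List (ℕ × ℕ × ℕ)) : Bool :=
  (sylowCands N p m).all fun n =>
    (List.range (m / n + 1)).all fun c =>
      (!(Nat.beq (m / n % c) 0 && Nat.ble 2 (m / n / c) && Nat.beq ((p - 1) % (m / n / c)) 0 &&
          (Nat.blt 20 ((n - 1) / p) || Nat.beq (fct ((n - 1) / p) % c) 0)) ||
        L.any fun x => Nat.beq x.1 n && (Nat.beq x.2.1 c && Nat.beq x.2.2 (m / n / c))) ||
        noSolutionFast N p c (m / n / c) ((p - 1) / (m / n / c)) n R

variable {G : Type*} [Group G] [Finite G] [IsSimpleGroup G] {p : ℕ} [Fact p.Prime]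

theorem exists_option {N : ℕ} (hcard : Nat.card G = N) (m R : ℕ) (L : List (ℕ × ℕ × ℕ))
    (hN : N = p * m) (hm : ¬ p ∣ m) (hm1 : 1 < m) (h : optionsWithin N p m R L = true) (P : Sylow p G) :
    ∃ n c e, (n, c, e) ∈ L ∧ Nat.card (Sylow p G) = n ∧
      Nat.card ↥(centralizer ((P : Subgroup G) : Set G)) = p * c ∧
      Nat.card ↥(normalizer ((P : Subgroup G) : Set G)) = p * c * e := by
  have hp : p.Prime := Fact.out
  have hG : ¬ IsMulCommutative G :=
    not_comm_of_not_prime (by rw [hcard, hN]; exact Nat.not_prime_mul hp.ne_one (by omega))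
  have hP : Nat.card ↥(P : Subgroup G) = p := by
    simpa using card_sylow_eq (e := 1) (m := m) (by rw [hcard, hN, pow_one]) hm P
  have hn := card_sylow_mem_sylowCands (p := p) (e := 1) (m := m) hcard (by rw [hN, pow_one]) hm
    one_pos hm1
  obtain ⟨c, e, hC, hNP, he, hep, hcr, hsol⟩ := exists_refined hG P hP
  have hmul := card_normalizer_mul P
  rw [hNP, hcard, hN, mul_assoc, mul_assoc] at hmul
  have hk : c * (e * Nat.card (Sylow p G)) = m := Nat.eq_of_mul_eq_mul_left hp.pos hmul
  have hdiv : m / Nat.card (Sylow p G) = c * e := by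
    rw [← hk, ← mul_assoc, Nat.mul_div_cancel _ Nat.card_pos]
  have hc0 : 0 < c := by
    rcases Nat.eq_zero_or_pos c with h0 | h0
    · rw [h0, zero_mul] at hk; omega
    · exact h0
  have hrange : c ∈ List.range (m / Nat.card (Sylow p G) + 1) := by
    rw [hdiv, List.mem_range]
    have : c * 1 ≤ c * e := Nat.mul_le_mul_left c (by omega)
    omega
  have hall := List.all_eq_true.1 (List.all_eq_true.1 h _ hn) c hrange
  have hs := hsol R
  rw [hcard, ← noSolutionFast_eq] at hs
  rw [hdiv, Nat.mul_div_cancel_left _ hc0, Nat.mul_mod_right, hep, hs] at hall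
  have hb : Nat.ble 2 e = true := Nat.ble_eq.mpr he
  have horb : Nat.beq (fct ((Nat.card (Sylow p G) - 1) / p) % c) 0 = true := by
    rw [fct_eq, Nat.mod_eq_zero_of_dvd hcr]; rfl
  simp [hb, horb] at hall
  exact ⟨_, _, _, hall, rfl, hC, hNP⟩

omit [IsSimpleGroup G] in
/-- A subgroup of order `p` is a Sylow subgroup when `p ^ 2` does not divide the order. -/
theorem exists_sylow_eq {m : ℕ} (hG : Nat.card G = p * m) (hm : ¬ p ∣ m) {S : Subgroup G}
    (hS : Nat.card S = p) : ∃ T : Sylow p G, (T : Subgroup G) = S := by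
  obtain ⟨T, hT⟩ := (IsPGroup.of_card (n := 1) (by rw [hS, pow_one])).exists_le_sylow
  exact ⟨T, (Subgroup.eq_of_le_of_card_ge hT (by
    rw [hS, card_sylow_eq (e := 1) (m := m) (by rw [hG, pow_one]) hm T, pow_one])).symm⟩

end CfsgLib.SmallOrder
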