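import Cfsg.Agent.Lib.SmallOrder.PrincipalCongr
import Cfsg.Agent.Lib.Char.Exceptional
import Mathlib.Algebra.BigOperators.Fin

/-!
The degree equation of the principal `p`-block for a Sylow subgroup of prime order in a simple group.
-/

set_option autoImplicit false

open scoped ComplexConjugate

namespace CfsgLib.SmallOrder

universe u

/-- A solution of the degree equation: `t` exceptional characters of degree `f0` and weight `k`, and the
list of the other non-principal characters as pairs (weight, degree). -/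
structure DegreeSolution (N p e t : ℕ) where
  /-- the other characters -/
  l : List (ℤ × ℕ)
  /-- the sign of the exceptional part -/
  ε : ℤ
  /-- the common weight of the exceptional characters -/
  k : ℤ
  /-- the exceptional degree -/
  f0 : ℕ
  hε : ε = 1 ∨ ε = -1
  norm : 1 + (l.map fun x => x.1 ^ 2).sum + (t : ℤ) * k ^ 2 + 2 * ε * k = e
  degEq : (l.map fun x => x.1 * (x.2 : ℤ)).sum + ((t : ℤ) * k + ε) * f0 = 1
  squares : 1 + (l.map fun x => x.2 ^ 2).sum + t * f0 ^ 2 ≤ N
  others : ∀ x ∈ l, x.1 ≠ 0 ∧ e ≤ x.2 ∧ x.2 ∣ N ∧ (p : ℤ) ∣ (x.2 : ℤ) + x.1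
  f0_le : e ≤ f0
  f0_dvd : f0 ∣ N
  f0_congr : (p : ℤ) ∣ (f0 : ℤ) - ((e : ℤ) * ε - k)

theorem not_dvd_of_mul_self_lt {p : ℕ} {w : ℤ} (hw : w ≠ 0) (h : w * w < (p : ℤ)) :
    ¬ (p : ℤ) ∣ w := by
  intro hd
  have h1 : (p : ℤ) ≤ |w| := Int.le_of_dvd (abs_pos.2 hw) ((dvd_abs _ _).2 hd)
  have h2 : (1 : ℤ) ≤ |w| := Int.one_le_abs hw
  have h3 := abs_mul_abs_self w
  nlinarith [mul_le_mul_of_nonneg_left h2 (abs_nonneg w)]

theorem not_dvd_exceptional {p e t : ℕ} {ε k : ℤ} (hp : p = e * t + 1) (he : 2 ≤ e) (ht : 1 ≤ t)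
    (hε : ε = 1 ∨ ε = -1) (hle : (t : ℤ) * k ^ 2 + 2 * ε * k + 1 ≤ e)
    (h1 : t = 1 → k + ε ≠ 0) : ¬ (p : ℤ) ∣ (e : ℤ) * ε - k := by
  intro hd
  obtain ⟨q, rfl⟩ : ∃ q, k = ε * q := ⟨ε * k, by rcases hε with rfl | rfl <;> ring⟩
  have hε2 : ε * ε = 1 := by rcases hε with rfl | rfl <;> rfl
  have hd' : (p : ℤ) ∣ (e : ℤ) - q := by
    have := hd.mul_left ε
    rwa [show ε * ((e : ℤ) * ε - ε * q) = (ε * ε) * ((e : ℤ) - q) by ring, hε2, one_mul] at this
  have hle' : (t : ℤ) * q ^ 2 + 2 * q + 1 ≤ e := by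
    rw [show (t : ℤ) * (ε * q) ^ 2 + 2 * ε * (ε * q) = (t : ℤ) * ((ε * ε) * q ^ 2) + 2 * ((ε * ε) * q)
      by ring, hε2, one_mul, one_mul] at hle
    exact hle
  have he' : (2 : ℤ) ≤ e := by exact_mod_cast he
  rcases eq_or_lt_of_le ht with rfl | ht2
  · have hd2 : (p : ℤ) ∣ q + 1 := by
      have := (dvd_refl (p : ℤ)).sub hd'
      rwa [show (p : ℤ) - ((e : ℤ) - q) = q + 1 by rw [hp]; push_cast; ring] at this
    refine not_dvd_of_mul_self_lt (p := p) (w := q + 1) ?_ ?_ hd2
    · intro h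
      apply h1 rfl
      rw [show ε * q + ε = ε * (q + 1) by ring, h, mul_zero]
    · rw [hp]; push_cast; push_cast at hle'; nlinarith
  · have ht' : (2 : ℤ) ≤ t := by exact_mod_cast ht2
    have hmono : (2 : ℤ) * q ^ 2 ≤ (t : ℤ) * q ^ 2 := mul_le_mul_of_nonneg_right ht' (sq_nonneg q)
    have hqq : q * q ≤ e := by nlinarith [sq_nonneg (q + 1)]
    have hlt : q < e := by nlinarith
    have hgt : -(e : ℤ) ≤ q := by nlinarith [sq_nonneg (q + 1)]
    have h2 := Int.le_of_dvd (by linarith) hd'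
    rw [hp] at h2
    push_cast at h2
    nlinarith

theorem degree_dvd_card {G : Type u} [Group G] [Finite G] (χ : Cfsg.IrrCharacter G) :
    Char.degree χ.1 ∣ Nat.card G := by
  obtain ⟨n, ρ, hρ, hχ⟩ := χ.2
  rw [← hχ, Char.degree_character]
  exact Char.finrank_dvd_card ρ

namespace CSplit

open Subgroup

variable {G : Type u} [Group G] [Fintype G] {p : ℕ} [Fact p.Prime] {P : Sylow p G} (S : CSplit p P)

/-- the classes of the action of the normaliser on the non-trivial characters of `P` -/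
abbrev Orb := (ZMod p)ˣ ⧸ S.act.range

/-- multiplicity vector of an orbit -/
noncomputable def vec (χ : Cfsg.IrrCharacter G) (o : S.Orb) : ℤ := S.rmult χ (o.out : ZMod p)

open scoped Classical in
theorem vec_gram (o o' : S.Orb) :
    ∑ χ : Cfsg.IrrCharacter G, S.vec χ o * S.vec χ o' =
      (Nat.card S.act.range : ℤ) + if o = o' then 1 else 0 := by
  simp only [vec]
  rw [S.gram]
  congr 1
  refine if_congr ?_ rfl rfl
  rw [← QuotientGroup.eq, QuotientGroup.out_eq', QuotientGroup.out_eq', eq_comm]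

theorem rmult_eq_vec (χ : Cfsg.IrrCharacter G) (u : (ZMod p)ˣ) :
    S.rmult χ (u : ZMod p) = S.vec χ (QuotientGroup.mk u) := by
  classical
  set u' : (ZMod p)ˣ := (QuotientGroup.mk u : S.Orb).out with hu'
  have hmem : u'⁻¹ * u ∈ S.act.range := QuotientGroup.eq.1 (QuotientGroup.out_eq' _)
  have hmem' : u⁻¹ * u' ∈ S.act.range := QuotientGroup.eq.1 (QuotientGroup.out_eq' _).symm
  have h0 : ∑ φ : Cfsg.IrrCharacter G,
      (S.rmult φ (u : ZMod p) - S.rmult φ (u' : ZMod p)) ^ 2 = 0 := by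
    have h11 := S.gram u u
    have h12 := S.gram u u'
    have h22 := S.gram u' u'
    rw [inv_mul_cancel, if_pos (one_mem _)] at h11 h22
    rw [if_pos hmem] at h12
    have hexp : ∀ a b : ℤ, (a - b) ^ 2 = a * a - a * b - a * b + b * b := fun a b => by ring
    simp only [hexp, Finset.sum_add_distrib, Finset.sum_sub_distrib, h11, h12, h22]
    ring
  have := (Finset.sum_eq_zero_iff_of_nonneg (fun φ _ => sq_nonneg _)).1 h0 χ (Finset.mem_univ _)
  exact sub_eq_zero.1 (pow_eq_zero_iff two_ne_zero |>.1 this)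

theorem vec_principal (o : S.Orb) : S.vec Char.principalIrr o = -1 :=
  S.rmult_principal (Units.ne_zero _)

theorem vec_degree (o : S.Orb) :
    ∑ χ : Cfsg.IrrCharacter G, (Char.degree χ.1 : ℤ) * S.vec χ o = 0 :=
  S.sum_degree_mul _

theorem tmult_cast (χ : Cfsg.IrrCharacter G) :
    (S.tmult χ : ZMod p) =
      (Nat.card S.act.range : ZMod p) * ((∑ᶠ o : S.Orb, S.vec χ o : ℤ) : ZMod p) := by
  classical
  have := Fintype.ofFinite S.Orb
  have h1 : ((S.tmult χ : ℤ) : ZMod p) = ((∑ j : ZMod p, S.rmult χ j : ℤ) : ZMod p) := by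
    simp only [tmult, rmult, Finset.sum_sub_distrib, Finset.sum_const, Finset.card_univ,
      ZMod.card, Int.cast_sub, Nat.cast_sum, Int.cast_sum]
    simp
  have h2 : ∑ j : ZMod p, S.rmult χ j = ∑ u : (ZMod p)ˣ, S.rmult χ (u : ZMod p) := by
    rw [← Finset.add_sum_erase _ _ (Finset.mem_univ (0 : ZMod p))]
    have h0 : S.rmult χ 0 = 0 := by simp [rmult]
    rw [h0, zero_add]
    refine Finset.sum_bij' (fun j hj => Units.mk0 j (Finset.mem_erase.1 hj).1)
      (fun u _ => (u : ZMod p)) (fun j hj => Finset.mem_univ _)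
      (fun u _ => Finset.mem_erase.2 ⟨Units.ne_zero u, Finset.mem_univ _⟩)
      (fun j hj => rfl) (fun u _ => Units.ext rfl) (fun j hj => rfl)
  have h3 : ∑ u : (ZMod p)ˣ, S.rmult χ (u : ZMod p) =
      (Nat.card S.act.range : ℤ) * ∑ o : S.Orb, S.vec χ o := by
    simp only [S.rmult_eq_vec]
    rw [Fintype.sum_equiv (Subgroup.groupEquivQuotientProdSubgroup (s := S.act.range))
      (fun u => S.vec χ (QuotientGroup.mk u)) (fun x => S.vec χ x.1) (fun u => rfl),
      Fintype.sum_prod_type, Finset.mul_sum]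
    simp [Nat.card_eq_fintype_card]
  rw [finsum_eq_sum_of_fintype, ← Int.cast_natCast, h1, h2, h3]
  push_cast
  rfl

theorem exists_structure :
    ∃ (ε : ℤ) (k : ℤ) (w : Cfsg.IrrCharacter G → ℤ) (μ : S.Orb → Cfsg.IrrCharacter G),
      (ε = 1 ∨ ε = -1) ∧ Function.Injective μ ∧ (∀ o, μ o ≠ Char.principalIrr) ∧
      (∀ o, w (μ o) = k) ∧ (∀ χ o, χ ≠ μ o → S.vec χ o = w χ) ∧
      (∀ o, S.vec (μ o) o = k + ε) ∧ ((∀ o o' : S.Orb, o = o') → k + ε ≠ 0) := by
  classical
  let o0 : S.Orb := QuotientGroup.mk 1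
  by_cases hsub : ∀ o : S.Orb, o = o0
  · obtain ⟨χ, hχ, hv⟩ : ∃ χ : Cfsg.IrrCharacter G, χ ≠ Char.principalIrr ∧ S.vec χ o0 ≠ 0 := by
      by_contra hcon
      push Not at hcon
      have h := S.vec_degree o0
      rw [Finset.sum_eq_single_of_mem (Char.principalIrr : Cfsg.IrrCharacter G) (Finset.mem_univ _)
        (fun φ _ hφ => by rw [hcon φ hφ, mul_zero]), vec_principal] at h
      have := Char.IsIrrCharacter.degree_pos (Char.principalIrr : Cfsg.IrrCharacter G).2
      omega
    refine ⟨1, S.vec χ o0 - 1, fun φ => if φ = χ then S.vec χ o0 - 1 else S.vec φ o0, fun _ => χ,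
      Or.inl rfl, fun a b _ => (hsub a).trans (hsub b).symm, fun _ => hχ, fun _ => if_pos rfl,
      fun φ o hφ => ?_, fun o => by rw [hsub o]; ring, fun _ h => hv (by linarith)⟩
    show S.vec φ o = if φ = χ then _ else _
    rw [if_neg (show φ ≠ χ from hφ), hsub o]
  push Not at hsub
  obtain ⟨o1, ho1⟩ := hsub
  let e : ℤ := Nat.card S.act.range
  let τ : S.Orb → G → ℂ := fun o =>
    ∑ χ : Cfsg.IrrCharacter G, ((S.vec χ o - S.vec χ o0 : ℤ) : ℂ) • (χ : G → ℂ)
  have hgen : ∀ o, Cfsg.IsGeneralizedCharacter G (τ o) := fun o =>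
    Char.IsGeneralizedCharacter.sum _ _ fun χ _ => Char.IsGeneralizedCharacter.intCast_smul
      (Char.IsIrrCharacter.isGeneralizedCharacter χ.2) _
  have hone : ∀ o, τ o 1 = 0 := by
    intro o
    have h : ∑ χ : Cfsg.IrrCharacter G, (Char.degree χ.1 : ℤ) * (S.vec χ o - S.vec χ o0) = 0 := by
      simp only [mul_sub, Finset.sum_sub_distrib, S.vec_degree, sub_zero]
    have h' := congrArg (fun z : ℤ => (z : ℂ)) h
    simp only [Int.cast_sum, Int.cast_mul, Int.cast_natCast, Int.cast_zero] at h'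
    refine Eq.trans ?_ h'
    simp only [τ, Finset.sum_apply, Pi.smul_apply, smul_eq_mul]
    refine Finset.sum_congr rfl fun χ _ => ?_
    rw [Char.IsCharacter.degree_cast (Char.IsIrrCharacter.isCharacter χ.2), mul_comm]
  have hinner : ∀ o o', o ≠ o0 → o' ≠ o0 →
      Cfsg.classInner (τ o) (τ o') = (1 : ℂ) + if o = o' then 1 else 0 := by
    intro o o' ho ho'
    have h : ∑ χ : Cfsg.IrrCharacter G, (S.vec χ o - S.vec χ o0) * (S.vec χ o' - S.vec χ o0) =
        1 + if o = o' then 1 else 0 := by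
      simp only [sub_mul, mul_sub, Finset.sum_sub_distrib, S.vec_gram, if_neg ho, if_neg ho'.symm]
      simp
      ring
    have h' := congrArg (fun z : ℤ => (z : ℂ)) h
    rw [Char.classInner_sum_smul_sum_smul]
    simp only [map_intCast]
    push_cast at h' ⊢
    exact h'
  obtain ⟨ε, hε, μ, hμ, hμinj, hτ⟩ := CharExc.exists_base o0 τ (by simp [τ]) hgen hone
    (fun o ho => by rw [hinner o o ho ho, if_pos rfl]; norm_num)
    (fun o o' ho ho' hne => by rw [hinner o o' ho ho', if_neg hne, add_zero])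
  obtain ⟨εZ, hεZ, rfl⟩ : ∃ εZ : ℤ, (εZ = 1 ∨ εZ = -1) ∧ ε = (εZ : ℂ) := by
    rcases hε with rfl | rfl
    · exact ⟨1, Or.inl rfl, by simp⟩
    · exact ⟨-1, Or.inr rfl, by simp⟩
  let ν : S.Orb → Cfsg.IrrCharacter G := fun o => ⟨μ o, hμ o⟩
  have hνinj : Function.Injective ν := fun a b h => hμinj (congrArg Subtype.val h)
  have hdiff : ∀ (χ : Cfsg.IrrCharacter G) o, S.vec χ o - S.vec χ o0 =
      εZ * ((if χ = ν o then 1 else 0) - if χ = ν o0 then 1 else 0) := by
    intro χ o
    have h := congrArg (fun φ : G → ℂ => Cfsg.classInner φ (χ : G → ℂ)) (hτ o)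
    simp only [τ, Char.classInner_sum_smul_irr, Char.classInner_smul_left,
      Char.classInner_sub_left] at h
    have hμo : ∀ x, Cfsg.classInner (μ x) (χ : G → ℂ) = if χ = ν x then 1 else 0 := fun x => by
      have := Char.classInner_irrCharacter (ν x) χ
      rw [this]
      exact if_congr eq_comm rfl rfl
    rw [hμo, hμo] at h
    have h' : ((S.vec χ o - S.vec χ o0 : ℤ) : ℂ) =
        ((εZ * ((if χ = ν o then 1 else 0) - if χ = ν o0 then 1 else 0) : ℤ) : ℂ) := by
      rw [h]; split_ifs <;> push_cast <;> ring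
    exact_mod_cast h'
  let w : Cfsg.IrrCharacter G → ℤ := fun χ => S.vec χ o0 - εZ * if χ = ν o0 then 1 else 0
  have hvec : ∀ χ o, S.vec χ o = w χ + εZ * if χ = ν o then 1 else 0 := by
    intro χ o
    have := hdiff χ o
    simp only [w]
    linarith
  have hk : ∀ o, w (ν o) = w (ν o0) := by
    have hnorm : ∀ o, ∑ χ, w χ * w χ + (2 * εZ) * w (ν o) + 1 = e + 1 := by
      intro o
      have h := S.vec_gram o o
      rw [if_pos rfl] at h
      simp only [hvec] at h
      rw [← h]
      have hε2 : εZ * εZ = 1 := by rcases hεZ with rfl | rfl <;> rfl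
      simp only [add_mul, mul_add, Finset.sum_add_distrib, mul_ite, ite_mul, mul_one, mul_zero,
        zero_mul, Finset.sum_ite_eq', Finset.mem_univ, if_true]
      rw [hε2]
      ring
    intro o
    have h1 := hnorm o
    have h2 := hnorm o0
    rcases hεZ with rfl | rfl <;> linarith
  refine ⟨εZ, w (ν o0), w, ν, hεZ, hνinj, fun o ho => ?_, hk, fun χ o hχ => by
    rw [hvec, if_neg hχ, mul_zero, add_zero], fun o => by rw [hvec, if_pos rfl, mul_one, hk],
    fun hsub => absurd (hsub o1 o0) ho1⟩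
  obtain ⟨o', ho'⟩ : ∃ o', o' ≠ o := by
    by_cases h : o = o0
    · exact ⟨o1, by rw [h]; exact ho1⟩
    · exact ⟨o0, fun h' => h h'.symm⟩
  have hne : Char.principalIrr ≠ ν o' := fun h => ho' (hνinj (h.symm.trans ho.symm))
  have h1 := hvec Char.principalIrr o'
  have h2 := hvec Char.principalIrr o
  rw [if_neg hne, mul_zero, add_zero, vec_principal] at h1
  rw [if_pos ho.symm, vec_principal, mul_one] at h2
  rcases hεZ with rfl | rfl <;> omega

/-- A degree solution together with the characters behind it: `χs` with their weights, and one exceptional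
character; a linear relation on the weight vectors becomes a relation between these characters. -/
structure BlockSolution (S : CSplit p P) (t : ℕ) where
  /-- the degree solution -/
  sol : DegreeSolution (Nat.card G) p (Nat.card S.act.range) t
  /-- the non-exceptional characters with their weights -/
  χs : List (ℤ × Cfsg.IrrCharacter G)
  /-- an exceptional character -/
  χ0 : Cfsg.IrrCharacter G
  hl : sol.l = χs.map fun x => (x.1, Char.degree x.2.1)
  hf0 : sol.f0 = Char.degree χ0.1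
  hone : t = 1 → sol.k + sol.ε ≠ 0
  hsum : ∀ x ∈ χs, (∑ᶠ o : S.Orb, S.vec x.2 o) = (t : ℤ) * x.1
  hsum0 : (∑ᶠ o : S.Orb, S.vec χ0 o) = (t : ℤ) * sol.k + sol.ε
  good : ∀ χ, (χ = χ0 ∨ χ ∈ χs.map Prod.snd) → χ ≠ Char.principalIrr ∧ ¬ p ∣ S.tmult χ
  linear : ∀ (g : Cfsg.IrrCharacter G → ℂ) (K : ℂ),
    (∀ o : S.Orb, ∑ χ : Cfsg.IrrCharacter G, g χ * (S.vec χ o : ℂ) = K) →
      -g Char.principalIrr + (χs.map fun x => (x.1 : ℂ) * g x.2).sum +
        ((t : ℂ) * (sol.k : ℂ) + (sol.ε : ℂ)) * g χ0 = K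

set_option maxHeartbeats 1000000 in
include S in
theorem exists_blockSolution [IsSimpleGroup G] {t : ℕ} (ht : Nat.card S.act.range * t = p - 1)
    (he : 2 ≤ Nat.card S.act.range) : Nonempty (S.BlockSolution t) := by
  classical
  have hp : p.Prime := Fact.out
  have := Fintype.ofFinite S.Orb
  set e := Nat.card S.act.range with hedef
  obtain ⟨ε, k, w, μ, hε, hμ, hμ1, hk, hvec, hvec0, hone⟩ := S.exists_structure
  have hvec' : ∀ χ o, S.vec χ o = w χ + ε * if χ = μ o then 1 else 0 := by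
    intro χ o
    split_ifs with h
    · subst h; rw [hvec0, hk, mul_one]
    · rw [hvec χ o h, mul_zero, add_zero]
  have hcardO : Fintype.card S.Orb = t := by
    have h := Subgroup.card_mul_index S.act.range
    rw [Nat.card_eq_fintype_card (α := (ZMod p)ˣ), ZMod.card_units p, ← hedef, ← ht] at h
    rw [← Nat.card_eq_fintype_card]
    exact Nat.eq_of_mul_eq_mul_left (by omega) h
  have hO : Nonempty S.Orb := ⟨QuotientGroup.mk 1⟩
  obtain ⟨o0⟩ := hO
  let d : Cfsg.IrrCharacter G → ℤ := fun χ => Char.degree χ.1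
  have hdeg0 : ∀ o, ∑ χ, d χ * w χ + ε * d (μ o) = 0 := by
    intro o
    have h := S.vec_degree o
    simp only [hvec', mul_add, Finset.sum_add_distrib] at h
    simp only [mul_ite, mul_one, mul_zero, Finset.sum_ite_eq', Finset.mem_univ, if_true] at h
    rw [← h, mul_comm ε]
  have hf : ∀ o, d (μ o) = d (μ o0) := by
    intro o
    have h1 := hdeg0 o
    have h2 := hdeg0 o0
    rcases hε with rfl | rfl <;> linarith
  have hnorm : ∑ χ, w χ * w χ + 2 * ε * k = e := by
    have h := S.vec_gram o0 o0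
    rw [if_pos rfl] at h
    simp only [hvec'] at h
    simp only [add_mul, mul_add, Finset.sum_add_distrib, mul_ite, ite_mul, mul_one, mul_zero,
      zero_mul, Finset.sum_ite_eq', Finset.mem_univ, if_true, hk] at h
    rcases hε with rfl | rfl <;> linarith
  have hwp : w Char.principalIrr = -1 := by
    have h := hvec Char.principalIrr o0 (hμ1 o0).symm
    rw [← h, vec_principal]
  let T : Finset (Cfsg.IrrCharacter G) := Finset.univ.image μ
  let A : Finset (Cfsg.IrrCharacter G) :=
    ((Finset.univ \ T).erase Char.principalIrr).filter (fun χ => w χ ≠ 0)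
  have hsplit : ∀ g : Cfsg.IrrCharacter G → ℤ,
      (∀ χ, w χ = 0 → χ ∉ T → g χ = 0) →
      ∑ χ, g χ = g Char.principalIrr + ∑ χ ∈ A, g χ + ∑ o : S.Orb, g (μ o) := by
    intro g hg
    rw [← Finset.sum_sdiff (Finset.subset_univ T), Finset.sum_image (fun a _ b _ h => hμ h),
      ← Finset.add_sum_erase (Finset.univ \ T) g (a := Char.principalIrr) (by
        simp only [T, Finset.mem_sdiff, Finset.mem_univ, Finset.mem_image, true_and, not_exists]
        exact hμ1)]
    congr 2
    refine (Finset.sum_filter_of_ne (p := fun χ => w χ ≠ 0) ?_).symm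
    intro χ hχ hne hw
    exact hne (hg χ hw (Finset.mem_sdiff.1 (Finset.mem_erase.1 hχ).2).2)
  have hconst : ∀ (g : Cfsg.IrrCharacter G → ℤ) (c : ℤ), (∀ o, g (μ o) = c) →
      ∑ o : S.Orb, g (μ o) = (t : ℤ) * c := by
    intro g c hc
    simp [hc, hcardO]
  let l : List (ℤ × ℕ) := A.toList.map fun χ => (w χ, Char.degree χ.1)
  have hl : ∀ g : ℤ × ℕ → ℤ, (l.map g).sum = ∑ χ ∈ A, g (w χ, Char.degree χ.1) := by
    intro g
    rw [List.map_map, Finset.sum_map_toList]
    rfl
  have hp1 : d Char.principalIrr = 1 := by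
    have h := Char.IsCharacter.degree_cast
      (Char.IsIrrCharacter.isCharacter (Char.principalIrr : Cfsg.IrrCharacter G).2)
    rw [Char.principalIrr_apply] at h
    simp only [d]
    exact_mod_cast h
  have hsumw : ∀ χ, χ ∈ A → (∑ᶠ o : S.Orb, S.vec χ o) = (t : ℤ) * w χ := by
    intro χ hχ
    have hnT : χ ∉ T := (Finset.mem_sdiff.1 (Finset.mem_erase.1 (Finset.mem_filter.1 hχ).1).2).2
    rw [finsum_eq_sum_of_fintype, Finset.sum_congr rfl (fun o _ => hvec χ o (fun h =>
      hnT (Finset.mem_image.2 ⟨o, Finset.mem_univ _, h.symm⟩)))]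
    simp [hcardO]
  have het : (e : ZMod p) * (t : ZMod p) = -1 := by
    rw [← Nat.cast_mul, ht, Nat.cast_sub hp.one_le, ZMod.natCast_self, Nat.cast_one, zero_sub]
  have hnorm2 : 1 + ∑ χ ∈ A, w χ * w χ + (t : ℤ) * k ^ 2 + 2 * ε * k = e := by
    have h := hsplit (fun χ => w χ * w χ) (fun χ hw _ => by simp [hw])
    rw [hconst (fun χ => w χ * w χ) (k * k) (fun o => by rw [hk]), hwp] at h
    rw [h] at hnorm
    linarith
  have hnn : 0 ≤ ∑ χ ∈ A, w χ * w χ := Finset.sum_nonneg fun χ _ => mul_self_nonneg _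
  have hep : e ≤ p - 1 := by
    have : 1 ≤ t := by
      rcases Nat.eq_zero_or_pos t with h | h
      · rw [h, mul_zero] at ht
        have := hp.two_le
        omega
      · exact h
    calc e = e * 1 := (mul_one e).symm
      _ ≤ e * t := Nat.mul_le_mul_left e this
      _ = p - 1 := ht
  have hTA : ∀ χ ∈ A, (S.tmult χ : ZMod p) = -(w χ : ZMod p) := by
    intro χ hχA
    rw [S.tmult_cast, hsumw χ hχA, ← hedef]
    push_cast
    rw [← mul_assoc, het]
    ring
  have hndA : ∀ χ ∈ A, ¬ p ∣ S.tmult χ := by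
    intro χ hχA
    have hw := (Finset.mem_filter.1 hχA).2
    have hwsq : w χ * w χ < (p : ℤ) := by
      have hle : w χ * w χ ≤ ∑ χ ∈ A, w χ * w χ :=
        Finset.single_le_sum (f := fun χ => w χ * w χ) (fun χ _ => mul_self_nonneg _) hχA
      have hkk : -1 ≤ (t : ℤ) * k ^ 2 + 2 * ε * k := by
        rcases Nat.eq_zero_or_pos t with h | h
        · simp [h] at ht; omega
        · have : (1 : ℤ) * k ^ 2 ≤ (t : ℤ) * k ^ 2 :=
            mul_le_mul_of_nonneg_right (by exact_mod_cast h) (sq_nonneg k)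
          rcases hε with rfl | rfl <;> nlinarith [sq_nonneg (k + 1), sq_nonneg (k - 1)]
      have : (e : ℤ) < p := by exact_mod_cast (show e < p by have := hp.one_le; omega)
      linarith
    rw [← ZMod.natCast_eq_zero_iff, hTA χ hχA, neg_eq_zero, ZMod.intCast_zmod_eq_zero_iff_dvd]
    exact not_dvd_of_mul_self_lt hw hwsq
  have hT0 : (S.tmult (μ o0) : ZMod p) = (e : ZMod p) * (ε : ZMod p) - (k : ZMod p) := by
    rw [S.tmult_cast, ← hedef, finsum_eq_sum_of_fintype]
    have : ∑ o : S.Orb, S.vec (μ o0) o = (t : ℤ) * k + ε := by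
      simp only [hvec', hμ.eq_iff, hk, Finset.sum_add_distrib, mul_ite, mul_one, mul_zero,
        Finset.sum_ite_eq, Finset.mem_univ, if_true]
      simp [hcardO]
    rw [this]
    push_cast
    rw [mul_add, ← mul_assoc, het]
    ring
  have hnd0 : ¬ p ∣ S.tmult (μ o0) := by
    have ht1 : 1 ≤ t := by
      rcases Nat.eq_zero_or_pos t with h | h
      · rw [h, mul_zero] at ht
        have := hp.two_le
        omega
      · exact h
    intro hnd
    rw [← ZMod.natCast_eq_zero_iff, hT0] at hnd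
    have hle : (t : ℤ) * k ^ 2 + 2 * ε * k + 1 ≤ e := by linarith
    refine not_dvd_exceptional (p := p) (by have := hp.one_le; omega) he ht1 hε hle ?_ ?_
    · rintro rfl
      exact hone (fun a b => (Fintype.card_le_one_iff_subsingleton.1 hcardO.le).elim a b)
    · rw [← ZMod.intCast_zmod_eq_zero_iff_dvd]
      push_cast
      exact hnd
  have hsum0' : (∑ᶠ o : S.Orb, S.vec (μ o0) o) = (t : ℤ) * k + ε := by
    rw [finsum_eq_sum_of_fintype]
    simp only [hvec', hμ.eq_iff, hk, Finset.sum_add_distrib, mul_ite, mul_one, mul_zero,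
      Finset.sum_ite_eq, Finset.mem_univ, if_true]
    simp [hcardO]
  refine ⟨⟨⟨l, ε, k, Char.degree (μ o0).1, hε, ?_, ?_, ?_, ?_,
    S.card_range_le_degree (hμ1 o0), degree_dvd_card _, ?_⟩,
    A.toList.map (fun χ => (w χ, χ)), μ o0, by simp [l, List.map_map, Function.comp_def], rfl,
    fun h1 => hone fun a b => (Fintype.card_le_one_iff_subsingleton.1 (hcardO.trans h1).le).elim a b,
    fun x hx => ?_, hsum0', ?_, ?_⟩⟩
  · rw [hl]
    have : ∑ χ ∈ A, (w χ, Char.degree χ.1).1 ^ 2 = ∑ χ ∈ A, w χ * w χ :=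
      Finset.sum_congr rfl fun χ _ => by ring
    rw [this]
    exact hnorm2
  · rw [hl]
    have h := hdeg0 o0
    rw [hsplit (fun χ => d χ * w χ) (fun χ hw _ => by simp [hw]),
      hconst (fun χ => d χ * w χ) (d (μ o0) * k) (fun o => by rw [hk, hf]), hp1, hwp] at h
    have : ∑ χ ∈ A, (w χ, Char.degree χ.1).1 * ((w χ, Char.degree χ.1).2 : ℤ) =
        ∑ χ ∈ A, d χ * w χ := Finset.sum_congr rfl fun χ _ => by simp only [d]; ring
    rw [this]
    simp only [d] at h ⊢
    linarith
  · have h := Char.sum_degree_sq (G := G)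
    have hl2 : (l.map fun x => x.2 ^ 2).sum = ∑ χ ∈ A, Char.degree χ.1 ^ 2 := by
      rw [List.map_map, Finset.sum_map_toList]; rfl
    rw [hl2, ← h, ← Finset.sum_sdiff (Finset.subset_univ T),
      Finset.sum_image (fun a _ b _ h => hμ h),
      ← Finset.add_sum_erase (Finset.univ \ T) _ (a := Char.principalIrr) (by
        simp only [T, Finset.mem_sdiff, Finset.mem_univ, Finset.mem_image, true_and, not_exists]
        exact hμ1)]
    have h1 : Char.degree (Char.principalIrr : Cfsg.IrrCharacter G).1 = 1 := by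
      have := hp1; simp only [d] at this; exact_mod_cast this
    have h2 : ∑ o : S.Orb, Char.degree (μ o).1 ^ 2 = t * Char.degree (μ o0).1 ^ 2 := by
      have : ∀ o, Char.degree (μ o).1 = Char.degree (μ o0).1 := fun o => by
        have := hf o; simp only [d] at this; exact_mod_cast this
      simp [this, hcardO]
    rw [h1, h2, one_pow]
    refine Nat.add_le_add_right (Nat.add_le_add_left ?_ 1) _
    exact Finset.sum_le_sum_of_subset (Finset.filter_subset _ _)
  · intro x hx
    obtain ⟨χ, hχ, rfl⟩ := List.mem_map.1 hx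
    have hχA := Finset.mem_toList.1 hχ
    refine ⟨(Finset.mem_filter.1 hχA).2,
      S.card_range_le_degree (Finset.mem_erase.1 (Finset.mem_filter.1 hχA).1).1, degree_dvd_card χ, ?_⟩
    have hT := hTA χ hχA
    have h := S.degree_modEq χ (hndA χ hχA)
    rw [hT] at h
    rw [← ZMod.intCast_zmod_eq_zero_iff_dvd]
    push_cast
    rw [h]
    ring
  · rw [← ZMod.intCast_zmod_eq_zero_iff_dvd]
    push_cast
    have h := S.degree_modEq (μ o0) hnd0
    rw [hT0] at h
    rw [h]
    ring
  · obtain ⟨χ, hχ, rfl⟩ := List.mem_map.1 hx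
    exact hsumw χ (Finset.mem_toList.1 hχ)
  · intro χ hχ
    rcases hχ with rfl | hχ
    · exact ⟨hμ1 o0, hnd0⟩
    · simp only [List.map_map, List.mem_map, Function.comp_apply, Finset.mem_toList] at hχ
      obtain ⟨φ, hφ, rfl⟩ := hχ
      exact ⟨(Finset.mem_erase.1 (Finset.mem_filter.1 hφ).1).1, hndA φ hφ⟩
  · intro g K hg
    have h : ∀ o, ∑ χ, g χ * (w χ : ℂ) + (ε : ℂ) * g (μ o) = K := by
      intro o
      rw [← hg o]
      simp only [hvec', Int.cast_add, Int.cast_mul, mul_add, Finset.sum_add_distrib]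
      congr 1
      rw [Finset.sum_eq_single_of_mem (μ o) (Finset.mem_univ _) (fun χ _ hne => by simp [hne])]
      simp [mul_comm]
    have hgc : ∀ o, g (μ o) = g (μ o0) := by
      intro o
      have h1 := h o
      rw [← h o0] at h1
      have h2 := add_left_cancel h1
      exact mul_left_cancel₀ (by rcases hε with rfl | rfl <;> simp) h2
    change -g Char.principalIrr + ((A.toList.map fun χ => (w χ, χ)).map fun x => (x.1 : ℂ) * g x.2).sum +
      ((t : ℂ) * (k : ℂ) + (ε : ℂ)) * g (μ o0) = K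
    rw [← h o0, ← Finset.sum_sdiff (Finset.subset_univ T), Finset.sum_image (fun a _ b _ h => hμ h),
      ← Finset.add_sum_erase (Finset.univ \ T) _ (a := Char.principalIrr) (by
        simp only [T, Finset.mem_sdiff, Finset.mem_univ, Finset.mem_image, true_and, not_exists]
        exact hμ1),
      ← Finset.sum_filter_of_ne (s := (Finset.univ \ T).erase Char.principalIrr)
        (p := fun χ => w χ ≠ 0) (fun χ _ hne hw => hne (by rw [hw, Int.cast_zero, mul_zero])),
      Finset.sum_congr rfl (g := fun _ : S.Orb => g (μ o0) * (k : ℂ)) (fun o _ => by rw [hgc o, hk]),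
      Finset.sum_const, Finset.card_univ, hcardO, hwp, List.map_map, Finset.sum_map_toList]
    simp only [Function.comp_apply, nsmul_eq_mul, Int.cast_neg, Int.cast_one]
    rw [show (A.sum fun χ => (w χ : ℂ) * g χ) = A.sum fun χ => g χ * (w χ : ℂ) from
      Finset.sum_congr rfl fun χ _ => mul_comm _ _]
    ring

include S in
theorem exists_solution [IsSimpleGroup G] {t : ℕ} (ht : Nat.card S.act.range * t = p - 1)
    (he : 2 ≤ Nat.card S.act.range) :
    Nonempty (DegreeSolution (Nat.card G) p (Nat.card S.act.range) t) := by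
  obtain ⟨B⟩ := S.exists_blockSolution ht he
  exact ⟨B.sol⟩

end CSplit

end CfsgLib.SmallOrder
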