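import Cfsg.Agent.Lib.SmallOrder.PrimeSylow
import Cfsg.Agent.Lib.SmallOrder.PrincipalDegrees
import Cfsg.Agent.Lib.Blk83.PairCount
import Cfsg.Agent.Lib.Invol.Counting

/-!
An involution inverting a Sylow subgroup of prime order whose centraliser has odd order: two linear
relations between its character values and the weights.
-/

set_option autoImplicit false

open scoped ComplexConjugate

namespace CfsgLib.SmallOrder.CSplit

open Subgroup

universe u

variable {G : Type u} [Group G] [Fintype G] {p : ℕ} [Fact p.Prime] {P : Sylow p G} (S : CSplit p P)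

/-- A linear relation on the coset sums gives one on the weights. -/
theorem sum_mul_vec (g : Cfsg.IrrCharacter G → ℂ) (K : ℂ)
    (h : ∀ i : ZMod p, i ≠ 0 → ∑ χ : Cfsg.IrrCharacter G, g χ * S.Ssum χ.1 i = K) (o : S.Orb) :
    ∑ χ : Cfsg.IrrCharacter G, g χ * (S.vec χ o : ℂ) = -K / (Nat.card S.V : ℂ) := by
  classical
  have hp : (p : ℂ) ≠ 0 := Nat.cast_ne_zero.2 (Fact.out : p.Prime).ne_zero
  have hc : (Nat.card S.V : ℂ) ≠ 0 := Nat.cast_ne_zero.2 Nat.card_pos.ne'
  set j : ZMod p := ((o.out : (ZMod p)ˣ) : ZMod p) with hj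
  have hj0 : j ≠ 0 := Units.ne_zero _
  have key : (p : ℂ) * Nat.card S.V * ∑ χ : Cfsg.IrrCharacter G, g χ * (S.vec χ o : ℂ) =
      -(p : ℂ) * K := by
    calc _ = ∑ i : ZMod p, ((ZMod.stdAddChar (-(j * i)) : ℂ) - 1) *
          ∑ χ : Cfsg.IrrCharacter G, g χ * S.Ssum χ.1 i := by
          simp only [Finset.mul_sum]
          rw [Finset.sum_comm]
          refine Finset.sum_congr rfl fun χ _ => ?_
          rw [mul_left_comm, show S.vec χ o = S.rmult χ j from rfl, S.rmult_spec, Finset.mul_sum]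
          exact Finset.sum_congr rfl fun i _ => by ring
      _ = ∑ i : ZMod p, ((ZMod.stdAddChar (-(j * i)) : ℂ) - 1) * K := by
          refine Finset.sum_congr rfl fun i _ => ?_
          by_cases hi : i = 0
          · simp [hi]
          · rw [h i hi]
      _ = -(p : ℂ) * K := by
          rw [← Finset.sum_mul, Finset.sum_sub_distrib, Finset.sum_const, Finset.card_univ,
            ZMod.card, nsmul_one]
          have h0 := sum_stdAddChar (p := p) (-j)
          rw [if_neg (neg_ne_zero.2 hj0)] at h0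
          rw [Finset.sum_congr rfl (g := fun i : ZMod p => (ZMod.stdAddChar (i * -j) : ℂ))
            (fun i _ => by rw [mul_neg, mul_comm i j]), h0]
          ring
  field_simp
  apply mul_left_cancel₀ hp
  linear_combination key

/-- The two relations. -/
theorem exists_involution_relations [IsSimpleGroup G] (hG : ¬ IsMulCommutative G)
    (hP : Nat.card ↥(P : Subgroup G) = p) (hodd : ¬ 2 ∣ Nat.card S.V)
    (heven : 2 ∣ Nat.card S.act.range) :
    ∃ t : G, t ≠ 1 ∧ t ^ 2 = 1 ∧ t * S.z * t⁻¹ = zpw S.z (-1 : ZMod p) ∧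
      (∀ s : G, s ∈ normalizer ((P : Subgroup G) : Set G) → s ≠ 1 → s ^ 2 = 1 → IsConj t s) ∧ ∃ k : ℕ,
      Nat.card ↥(centralizer ({t} : Set G)) ∣ k * (Nat.card S.V * Nat.card S.act.range) ∧ 1 ≤ k ∧ k % 4 = Nat.card (Sylow p G) % 4 ∧
      (k - 1) * p + 1 ≤ Nat.card (Sylow p G) ∧
      (∀ o : S.Orb, ∑ χ : Cfsg.IrrCharacter G, χ.1 t * (S.vec χ o : ℂ) = 0) ∧
      ∀ o : S.Orb, ∑ χ : Cfsg.IrrCharacter G, χ.1 t ^ 2 / χ.1 1 * (S.vec χ o : ℂ) =
        -((Nat.card S.act.range : ℂ) * (k : ℂ) ^ 2 / (Nat.card (Sylow p G) : ℂ)) := by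
  classical
  have hp : p.Prime := Fact.out
  have hp2 : p ≠ 2 := by
    intro h2
    have hd := S.act.range.card_subgroup_dvd_card
    rw [Nat.card_eq_fintype_card (α := (ZMod p)ˣ), ZMod.card_units p] at hd
    have h := heven.trans hd
    rw [h2] at h
    omega
  have h2ne : (2 : ZMod p) ≠ 0 := fun h => hp2
    ((Nat.prime_dvd_prime_iff_eq hp Nat.prime_two).1 ((ZMod.natCast_eq_zero_iff 2 p).1 (by exact_mod_cast h)))
  set N := normalizer ((P : Subgroup G) : Set G) with hNdef
  set C := centralizer ((P : Subgroup G) : Set G) with hCdef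
  have hCodd : ¬ 2 ∣ Nat.card ↥C := by
    rw [S.card_centralizer]
    intro h
    rcases Nat.prime_two.dvd_mul.1 h with h | h
    · exact hp2 ((Nat.prime_dvd_prime_iff_eq Nat.prime_two hp).1 h).symm
    · exact hodd h
  -- involutions of the normaliser act by `-1`
  have hnotC : ∀ s : G, s ≠ 1 → s ^ 2 = 1 → s ∉ C := by
    intro s hs1 hs2 hsC
    apply hCodd
    have h := Subgroup.orderOf_dvd_natCard _ hsC
    rwa [orderOf_eq_prime hs2 hs1] at h
  have hinvz : ∀ s : G, s ∈ N → s ≠ 1 → s ^ 2 = 1 → ∀ i : ZMod p,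
      s * zpw S.z i * s⁻¹ = zpw S.z (-i) := by
    intro s hs hs1 hs2 i
    have h1 : S.act ⟨s, hs⟩ ^ 2 = 1 := by
      rw [← map_pow, show (⟨s, hs⟩ : ↥N) ^ 2 = 1 from Subtype.ext hs2, map_one]
    have hne : S.act ⟨s, hs⟩ ≠ 1 := by
      intro h
      have hmem : (⟨s, hs⟩ : ↥N) ∈ S.act.ker := MonoidHom.mem_ker.2 h
      rw [S.ker_act] at hmem
      exact hnotC s hs1 hs2 hmem
    have hval : ((S.act ⟨s, hs⟩ : (ZMod p)ˣ) : ZMod p) = -1 := by
      refine (sq_eq_one_iff.1 (by rw [← Units.val_pow_eq_pow_val, h1, Units.val_one])).resolve_left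
        fun h => hne (Units.ext h)
    have h := S.conj_zpw (S.act_spec ⟨s, hs⟩) i
    rwa [hval, neg_one_mul] at h
  obtain ⟨t, htN, ht1, ht2⟩ : ∃ t : G, t ∈ N ∧ t ≠ 1 ∧ t ^ 2 = 1 := by
    have : Fact (Nat.Prime 2) := ⟨Nat.prime_two⟩
    obtain ⟨⟨t, ht⟩, hord⟩ := exists_prime_orderOf_dvd_card' (G := ↥N) 2
      (by rw [hNdef, S.card_normalizer]; exact dvd_mul_of_dvd_right heven _)
    rw [Subgroup.orderOf_mk] at hord
    exact ⟨t, ht, fun h => by rw [h, orderOf_one] at hord; omega, hord ▸ pow_orderOf_eq_one t⟩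
  have htt : t * t = 1 := by rw [← pow_two]; exact ht2
  have htinv : t⁻¹ = t := inv_eq_of_mul_eq_one_right htt
  -- all involutions of the normaliser are conjugate in it
  have hconjN : ∀ s : G, s ∈ N → s ≠ 1 → s ^ 2 = 1 → ∃ y ∈ N, y * t * y⁻¹ = s := by
    intro s hs hs1 hs2
    set x := t * s with hx
    have hxC : x ∈ C := by
      refine mem_centralizer_iff.2 fun y hy => ?_
      rw [← S.hP] at hy
      obtain ⟨i, rfl⟩ := exists_zpw_of_mem_zpowers S.hz hy
      have h : x * zpw S.z i * x⁻¹ = zpw S.z i := by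
        rw [show x * zpw S.z i * x⁻¹ = t * (s * zpw S.z i * s⁻¹) * t⁻¹ by simp only [hx]; group,
          hinvz s hs hs1 hs2, hinvz t htN ht1 ht2, neg_neg]
      exact (mul_inv_eq_iff_eq_mul.1 h).symm
    have hox : Odd (orderOf x) := by
      rw [Nat.odd_iff]
      by_contra hev
      exact hCodd ((Nat.dvd_of_mod_eq_zero (by omega)).trans (Subgroup.orderOf_dvd_natCard _ hxC))
    obtain ⟨q, hq⟩ := hox
    set y := x ^ (q + 1) with hy
    have hy2 : y * y = x := by
      rw [hy, ← pow_add, show q + 1 + (q + 1) = orderOf x + 1 by omega, pow_succ, pow_orderOf_eq_one,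
        one_mul]
    have htxt : t * x * t⁻¹ = x⁻¹ := by
      rw [hx, mul_inv_rev, htinv, inv_eq_of_mul_eq_one_right (show s * s = 1 by rw [← pow_two]; exact hs2)]
      rw [← mul_assoc t t s, htt, one_mul]
    have htyt : t * y * t⁻¹ = y⁻¹ := by rw [hy, ← conj_pow, htxt, inv_pow]
    have hyN : y ∈ N := pow_mem (mul_mem htN hs) _
    refine ⟨y⁻¹, inv_mem hyN, ?_⟩
    have h' : y⁻¹ * t = t * y := by
      rw [← htyt]
      simp [mul_assoc]
    rw [inv_inv, h', mul_assoc, hy2, hx, ← mul_assoc, htt, one_mul]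
  -- the number of elements of `V` inverted by an involution of `N`
  set w := Nat.card {v : S.V // t * (v : G) * t⁻¹ = (v : G)⁻¹} with hw
  have hwconst : ∀ s : G, s ∈ N → s ≠ 1 → s ^ 2 = 1 →
      Nat.card {v : S.V // s * (v : G) * s⁻¹ = (v : G)⁻¹} = w := by
    intro s hs hs1 hs2
    obtain ⟨y, hy, rfl⟩ := hconjN s hs hs1 hs2
    refine Eq.symm (Nat.card_congr
      { toFun := fun v => ⟨⟨y * (v.1 : G) * y⁻¹, S.conj_mem hy v.1.2⟩, ?_⟩
        invFun := fun v => ⟨⟨y⁻¹ * (v.1 : G) * y, ?_⟩, ?_⟩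
        left_inv := fun v => by ext; simp [mul_assoc]
        right_inv := fun v => by ext; simp [mul_assoc] })
    · change y * t * y⁻¹ * (y * (v.1 : G) * y⁻¹) * (y * t * y⁻¹)⁻¹ = (y * (v.1 : G) * y⁻¹)⁻¹
      rw [show y * t * y⁻¹ * (y * (v.1 : G) * y⁻¹) * (y * t * y⁻¹)⁻¹ =
        y * (t * (v.1 : G) * t⁻¹) * y⁻¹ by group, v.2]
      group
    · simpa using S.conj_mem (inv_mem hy) v.1.2
    · change t * (y⁻¹ * (v.1 : G) * y) * t⁻¹ = (y⁻¹ * (v.1 : G) * y)⁻¹
      rw [show t * (y⁻¹ * (v.1 : G) * y) * t⁻¹ =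
        y⁻¹ * (y * t * y⁻¹ * (v.1 : G) * (y * t * y⁻¹)⁻¹) * y by group, v.2]
      group
  -- products `s * x` conjugate to `t`
  have hmain : ∀ s : G, IsConj t s → ∀ i : ZMod p, i ≠ 0 → ∀ v ∈ S.V,
      (IsConj t (s * (zpw S.z i * v)) ↔ s ∈ N ∧ s * v * s⁻¹ = v⁻¹) := by
    intro s hs i hi v hv
    obtain ⟨a, rfl⟩ := isConj_iff.1 hs
    have hsq : a * t * a⁻¹ * (a * t * a⁻¹) = 1 := by
      rw [show a * t * a⁻¹ * (a * t * a⁻¹) = a * (t * t) * a⁻¹ by group, htt]; group
    have hs1 : a * t * a⁻¹ ≠ 1 := by rw [Ne, conj_eq_one_iff]; exact ht1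
    set s := a * t * a⁻¹ with hsdef
    have hsinv : s⁻¹ = s := inv_eq_of_mul_eq_one_right hsq
    have hxinv : (zpw S.z i * v)⁻¹ = zpw S.z (-i) * v⁻¹ := by
      rw [mul_inv_rev]
      have hz : (zpw S.z i)⁻¹ = zpw S.z (-i) := inv_eq_of_mul_eq_one_right (by
        rw [← zpw_add S.hz, add_neg_cancel, zpw_zero])
      rw [hz, (S.commute (-i) (inv_mem hv)).eq]
    constructor
    · intro h
      obtain ⟨b, hb⟩ := isConj_iff.1 h
      have hsx : s * (zpw S.z i * v) * (s * (zpw S.z i * v)) = 1 := by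
        rw [← hb, show b * t * b⁻¹ * (b * t * b⁻¹) = b * (t * t) * b⁻¹ by group, htt]; group
      have hconj : s * (zpw S.z i * v) * s⁻¹ = zpw S.z (-i) * v⁻¹ := by
        rw [← hxinv, hsinv]
        exact eq_inv_of_mul_eq_one_left (by simpa only [mul_assoc] using hsx)
      obtain ⟨h1, h2⟩ := S.eq_of_conj hi hv (inv_mem hv) hconj
      exact ⟨S.mem_normalizer_of_conj hi h1, h2⟩
    · rintro ⟨hsN, hsv⟩
      have hsx : s * (zpw S.z i * v) * s⁻¹ = (zpw S.z i * v)⁻¹ := by
        rw [hxinv, ← hinvz s hsN hs1 (by rw [pow_two]; exact hsq) i, ← hsv]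
        group
      have hxN : zpw S.z i * v ∈ N :=
        mul_mem (Subgroup.le_normalizer (S.zpw_mem i)) (centralizer_le_normalizer _ (S.v_mem_centralizer hv))
      have hne : s * (zpw S.z i * v) ≠ 1 := by
        intro h1
        apply hnotC s hs1 (by rw [pow_two]; exact hsq)
        rw [eq_inv_of_mul_eq_one_left h1]
        exact inv_mem (S.mem_centralizer i hv)
      have hsq' : (s * (zpw S.z i * v)) ^ 2 = 1 := by
        rw [pow_two]
        calc s * (zpw S.z i * v) * (s * (zpw S.z i * v))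
            = s * (zpw S.z i * v) * s⁻¹ * (zpw S.z i * v) := by rw [hsinv]; group
          _ = 1 := by rw [hsx, inv_mul_cancel]
      obtain ⟨y, -, hy⟩ := hconjN _ (mul_mem hsN hxN) hne hsq'
      exact isConj_iff.2 ⟨y, hy⟩
  -- involutions of `N`
  have hinvN : Nat.card {g : G // IsConj t g ∧ g ∈ N} = p * w := by
    let f : ZMod p × {v : S.V // t * (v : G) * t⁻¹ = (v : G)⁻¹} → {g : G // IsConj t g ∧ g ∈ N} :=
      fun x => ⟨t * (zpw S.z x.1 * (x.2.1 : G)), by
        have hxN : zpw S.z x.1 * (x.2.1 : G) ∈ N := mul_mem (Subgroup.le_normalizer (S.zpw_mem x.1))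
          (centralizer_le_normalizer _ (S.v_mem_centralizer x.2.1.2))
        refine ⟨?_, mul_mem htN hxN⟩
        by_cases hi : x.1 = 0
        · have hsq : (t * (zpw S.z x.1 * (x.2.1 : G))) ^ 2 = 1 := by
            rw [hi, zpw_zero, one_mul, pow_two]
            have hv : t * (x.2.1 : G) * t⁻¹ = (x.2.1 : G)⁻¹ := x.2.2
            generalize (x.2.1 : G) = v at hv ⊢
            calc t * v * (t * v) = t * v * t⁻¹ * v := by rw [htinv]; group
              _ = 1 := by rw [hv, inv_mul_cancel]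
          have hne : t * (zpw S.z x.1 * (x.2.1 : G)) ≠ 1 := fun h1 => hnotC t ht1 ht2 (by
            rw [eq_inv_of_mul_eq_one_left h1]; exact inv_mem (S.mem_centralizer x.1 x.2.1.2))
          obtain ⟨y, -, hy⟩ := hconjN _ (mul_mem htN hxN) hne hsq
          exact isConj_iff.2 ⟨y, hy⟩
        · exact (hmain t (IsConj.refl t) x.1 hi _ x.2.1.2).2 ⟨htN, x.2.2⟩⟩
    have hf : Function.Bijective f := by
      constructor
      · rintro ⟨i, ⟨⟨u, hu⟩, _⟩⟩ ⟨j, ⟨⟨v, hv⟩, _⟩⟩ h
        obtain ⟨h1, h2⟩ := S.unique hu hv (mul_left_cancel (congrArg Subtype.val h))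
        subst h1 h2
        rfl
      · rintro ⟨g, hg, hgN⟩
        obtain ⟨b, hb⟩ := isConj_iff.1 hg
        have hg1 : g ≠ 1 := by rw [← hb, Ne, conj_eq_one_iff]; exact ht1
        have hg2 : g ^ 2 = 1 := by rw [← hb, conj_pow, ht2]; group
        have hC' : t * g ∈ C := by
          refine mem_centralizer_iff.2 fun y hy => ?_
          rw [← S.hP] at hy
          obtain ⟨i, rfl⟩ := exists_zpw_of_mem_zpowers S.hz hy
          have h : t * g * zpw S.z i * (t * g)⁻¹ = zpw S.z i := by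
            rw [show t * g * zpw S.z i * (t * g)⁻¹ = t * (g * zpw S.z i * g⁻¹) * t⁻¹ by group,
              hinvz g hgN hg1 hg2, hinvz t htN ht1 ht2, neg_neg]
          exact (mul_inv_eq_iff_eq_mul.1 h).symm
        obtain ⟨i, v, hv, hiv⟩ := S.hC _ hC'
        have hgeq : g = t * (zpw S.z i * v) := by rw [← hiv, ← mul_assoc, htt, one_mul]
        refine ⟨(i, ⟨⟨v, hv⟩, ?_⟩), Subtype.ext hgeq.symm⟩
        change t * v * t⁻¹ = v⁻¹
        have hsq : t * (zpw S.z i * v) * (t * (zpw S.z i * v)) = 1 := by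
          rw [← hgeq, ← pow_two]; exact hg2
        have hz : t * zpw S.z i * t⁻¹ = zpw S.z (-i) := hinvz t htN ht1 ht2 i
        have h : zpw S.z (-i) * (t * v * t⁻¹) * (zpw S.z i * v) = 1 := by
          rw [← hz]
          calc t * zpw S.z i * t⁻¹ * (t * v * t⁻¹) * (zpw S.z i * v)
              = t * (zpw S.z i * v) * t⁻¹ * (zpw S.z i * v) := by group
            _ = t * (zpw S.z i * v) * (t * (zpw S.z i * v)) := by rw [htinv]; group
            _ = 1 := hsq
        have hmem : t * v * t⁻¹ ∈ S.V := S.conj_mem htN hv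
        rw [← mul_assoc, mul_assoc (zpw S.z (-i)), ← (S.commute i hmem).eq, ← mul_assoc,
          ← zpw_add S.hz, neg_add_cancel, zpw_zero, one_mul] at h
        exact eq_inv_of_mul_eq_one_left h
    rw [← Nat.card_eq_of_bijective f hf, Nat.card_prod, Nat.card_zmod]
  -- fixed points
  set X := G ⧸ N with hX
  set k := Nat.card (MulAction.fixedBy X t) with hkdef
  set D := Nat.card ↥(centralizer ({t} : Set G)) with hD
  set n := Nat.card (Sylow p G) with hn
  have hclass : Nat.card {g : G // IsConj t g} * D = Nat.card G := by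
    rw [Invol.card_isConj_eq_index, mul_comm]
    exact Subgroup.card_mul_index _
  have hfix : k * Nat.card {g : G // IsConj t g} = n * (p * w) := by
    rw [← hinvN, hn, P.card_eq_index_normalizer]
    exact card_fixedBy_mul_card_class N t
  have hNn : p * Nat.card S.V * Nat.card S.act.range * n = Nat.card G := by
    rw [← S.card_normalizer]; exact card_normalizer_mul P
  have hwD : (k * (Nat.card S.V * Nat.card S.act.range) : ℕ) = w * D := by
    have h : p * n * (k * (Nat.card S.V * Nat.card S.act.range)) = p * n * (w * D) := by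
      calc _ = k * (p * Nat.card S.V * Nat.card S.act.range * n) := by ring
        _ = k * Nat.card {g : G // IsConj t g} * D := by rw [hNn, ← hclass, mul_assoc]
        _ = _ := by rw [hfix]; ring
    exact Nat.eq_of_mul_eq_mul_left (Nat.mul_pos hp.pos Nat.card_pos) h
  have htreal : ∀ χ : Cfsg.IrrCharacter G, conj (χ.1 t) = χ.1 t := fun χ => by
    rw [← Char.IsIrrCharacter.apply_inv χ.2, htinv]
  refine ⟨t, ht1, ht2, by simpa [S.zpw_one] using hinvz t htN ht1 ht2 1, fun s hs hs1 hs2 => ?_,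
    k, hD ▸ Dvd.intro_left w hwD.symm, ?_, ?_, ?_, fun o => ?_, fun o => ?_⟩
  · obtain ⟨y, -, hy⟩ := hconjN s hs hs1 hs2
    exact isConj_iff.2 ⟨y, hy⟩
  · have : Nonempty (MulAction.fixedBy X t) := ⟨⟨QuotientGroup.mk (1 : G), by
      rw [MulAction.mem_fixedBy, MulAction.Quotient.smul_mk, QuotientGroup.eq, smul_eq_mul, mul_one, mul_one]
      exact inv_mem htN⟩⟩
    exact Nat.card_pos
  · rw [hn, P.card_eq_index_normalizer]
    exact fixedBy_involution_mod_four hG _ ht2
  · calc (k - 1) * p + 1 ≤ (Nat.card (MulAction.orbitRel.Quotient ↥(P : Subgroup G) X) - 1) * p + 1 :=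
          Nat.add_le_add_right (Nat.mul_le_mul_right _ (Nat.sub_le_sub_right
            (fixedBy_le_orbits P hP htN (hnotC t ht1 ht2)) 1)) 1
      _ = n := card_orbits P hP
  · rw [S.sum_mul_vec (fun χ => χ.1 t) 0, neg_zero, zero_div]
    intro i hi
    have := Fintype.ofFinite S.V
    simp only [Ssum, finsum_eq_sum_of_fintype, Finset.mul_sum]
    rw [Finset.sum_comm]
    refine Finset.sum_eq_zero fun v _ => ?_
    rw [Finset.sum_congr rfl (g := fun χ : Cfsg.IrrCharacter G =>
      χ.1 (zpw S.z i * (v : G)) * conj (χ.1 t)) (fun χ _ => by rw [htreal, mul_comm]),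
      Char.sum_mul_conj, if_neg]
    intro h
    obtain ⟨b, hb⟩ := isConj_iff.1 h.symm
    have h2 : (zpw S.z i * (v : G)) * (zpw S.z i * (v : G)) = 1 := by
      rw [← hb, show b * t * b⁻¹ * (b * t * b⁻¹) = b * (t * t) * b⁻¹ by group, htt]; group
    have h3 : zpw S.z (i + i) * ((v : G) * (v : G)) = zpw S.z (0 : ZMod p) * (1 : G) := by
      rw [zpw_zero, one_mul, ← h2, zpw_add S.hz]
      simp only [mul_assoc]
      rw [← mul_assoc (v : G) (zpw S.z i), ← (S.commute i v.2).eq]
      simp only [mul_assoc]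
    have := (S.unique (mul_mem v.2 v.2) S.V.one_mem h3).1
    rw [← two_mul, mul_eq_zero] at this
    exact hi (this.resolve_left h2ne)
  · rw [S.sum_mul_vec (fun χ => χ.1 t ^ 2 / χ.1 1)
      ((p : ℂ) * w ^ 2 * D ^ 2 / Nat.card G)]
    · have h1 : ((Nat.card G : ℕ) : ℂ) =
          (p : ℂ) * Nat.card S.V * Nat.card S.act.range * n := by
        rw [← hNn]; push_cast; rfl
      have h2 : (k : ℂ) * ((Nat.card S.V : ℂ) * Nat.card S.act.range) = (w : ℂ) * D := by
        exact_mod_cast hwD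
      have e1 : (p : ℂ) * (w : ℂ) ^ 2 * (D : ℂ) ^ 2 =
          (p : ℂ) * ((k : ℂ) * ((Nat.card S.V : ℂ) * Nat.card S.act.range)) ^ 2 := by
        rw [h2]; ring
      have hc0 : (Nat.card S.V : ℂ) ≠ 0 := Nat.cast_ne_zero.2 Nat.card_pos.ne'
      have he0 : (Nat.card S.act.range : ℂ) ≠ 0 := Nat.cast_ne_zero.2 Nat.card_pos.ne'
      have hn0 : (n : ℂ) ≠ 0 := Nat.cast_ne_zero.2 Nat.card_pos.ne'
      have hp0 : (p : ℂ) ≠ 0 := Nat.cast_ne_zero.2 hp.ne_zero
      rw [e1, h1]
      field_simp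
    intro i hi
    have := Fintype.ofFinite S.V
    simp only [Ssum, finsum_eq_sum_of_fintype, Finset.mul_sum]
    rw [Finset.sum_comm]
    have hstep : ∀ v : S.V, ∑ χ : Cfsg.IrrCharacter G,
        χ.1 t ^ 2 / χ.1 1 * χ.1 (zpw S.z i * (v : G)) =
        (Nat.card {a : G // IsConj t (a * t * a⁻¹ * (zpw S.z i * (v : G)))} : ℂ) * D /
          Nat.card G := by
      intro v
      have h := Blk83.sum_conj_mul_div t (zpw S.z i * (v : G))
      rw [← Fintype.card_subtype, ← Nat.card_eq_fintype_card, ← Nat.card_eq_fintype_card, ← hD] at h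
      rw [eq_div_iff (Nat.cast_ne_zero.2 Nat.card_pos.ne'), ← h, mul_comm]
      congr 1
      exact Finset.sum_congr rfl fun χ _ => by rw [htreal]; ring
    simp only [hstep]
    rw [← Finset.sum_div, ← Finset.sum_mul, ← Nat.cast_sum, ← Nat.card_sigma]
    have hcount : Nat.card (Σ v : S.V, {a : G // IsConj t (a * t * a⁻¹ * (zpw S.z i * (v : G)))}) =
        p * w * D * w := by
      have e1 : Nat.card (Σ v : S.V, {a : G // IsConj t (a * t * a⁻¹ * (zpw S.z i * (v : G)))}) =
          Nat.card (Σ a : {a : G // a * t * a⁻¹ ∈ N},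
            {v : S.V // (a : G) * t * (a : G)⁻¹ * (v : G) * ((a : G) * t * (a : G)⁻¹)⁻¹ =
              (v : G)⁻¹}) := by
        refine Nat.card_congr
          { toFun := fun x => ⟨⟨x.2.1, ((hmain _ (isConj_iff.2 ⟨x.2.1, rfl⟩) i hi _ x.1.2).1 x.2.2).1⟩,
              x.1, ((hmain _ (isConj_iff.2 ⟨x.2.1, rfl⟩) i hi _ x.1.2).1 x.2.2).2⟩
            invFun := fun x => ⟨x.2.1, x.1.1,
              (hmain _ (isConj_iff.2 ⟨x.1.1, rfl⟩) i hi _ x.2.1.2).2 ⟨x.1.2, x.2.2⟩⟩
            left_inv := fun x => rfl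
            right_inv := fun x => rfl }
      have hfib : ∀ a : {a : G // a * t * a⁻¹ ∈ N},
          Nat.card {v : S.V // (a : G) * t * (a : G)⁻¹ * (v : G) * ((a : G) * t * (a : G)⁻¹)⁻¹ =
            (v : G)⁻¹} = w := fun a =>
        hwconst _ a.2 (by rw [Ne, conj_eq_one_iff]; exact ht1) (by rw [conj_pow, ht2]; group)
      rw [e1, Nat.card_sigma, Finset.sum_congr rfl (fun a _ => hfib a), Finset.sum_const,
        Finset.card_univ, smul_eq_mul, ← Nat.card_eq_fintype_card]
      congr 1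
      rw [← hinvN, hD]
      have e2 : Nat.card {a : G // a * t * a⁻¹ ∈ N} =
          Nat.card (Σ g : {g : G // IsConj t g ∧ g ∈ N}, {a : G // a * t * a⁻¹ = g.1}) := by
        refine Nat.card_congr
          { toFun := fun a => ⟨⟨a.1 * t * a.1⁻¹, isConj_iff.2 ⟨a.1, rfl⟩, a.2⟩, a.1, rfl⟩
            invFun := fun x => ⟨x.2.1, x.2.2.symm ▸ x.1.2.2⟩
            left_inv := fun a => rfl
            right_inv := ?_ }
        rintro ⟨⟨g, hg1, hg2⟩, a, ha⟩
        change a * t * a⁻¹ = g at ha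
        subst ha
        rfl
      rw [e2, Nat.card_sigma]
      have hfibC : ∀ g : {g : G // IsConj t g ∧ g ∈ N}, Nat.card {a : G // a * t * a⁻¹ = g.1} =
          Nat.card ↥(centralizer ({t} : Set G)) := by
        rintro ⟨g, hg, -⟩
        obtain ⟨b, rfl⟩ := isConj_iff.1 hg
        refine Nat.card_congr ((Equiv.mulLeft b⁻¹).subtypeEquiv fun a => ?_)
        rw [Equiv.coe_mulLeft, Invol.mem_centralizer_singleton_iff']
        constructor
        · intro h
          change a * t * a⁻¹ = b * t * b⁻¹ at h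
          rw [show b⁻¹ * a * t * (b⁻¹ * a)⁻¹ = b⁻¹ * (a * t * a⁻¹) * b by group, h]
          group
        · intro h
          change a * t * a⁻¹ = b * t * b⁻¹
          conv_rhs => rw [← h]
          group
      rw [Finset.sum_congr rfl (fun g _ => hfibC g), Finset.sum_const, Finset.card_univ, smul_eq_mul,
        ← Nat.card_eq_fintype_card]
    rw [hcount]
    push_cast
    ring

/-- An involution not conjugate to any involution of the normaliser gives two relations with zero. -/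
theorem other_involution_relations (hp2 : p ≠ 2) {y : G} (hy1 : y ≠ 1) (hy2 : y ^ 2 = 1)
    (hy : ∀ s : G, s ∈ normalizer ((P : Subgroup G) : Set G) → IsConj y s → False) (o : S.Orb) :
    ∑ χ : Cfsg.IrrCharacter G, χ.1 y * (S.vec χ o : ℂ) = 0 ∧
      ∑ χ : Cfsg.IrrCharacter G, χ.1 y ^ 2 / χ.1 1 * (S.vec χ o : ℂ) = 0 := by
  classical
  have hp : p.Prime := Fact.out
  have h2ne : (2 : ZMod p) ≠ 0 := fun h => hp2
    ((Nat.prime_dvd_prime_iff_eq hp Nat.prime_two).1 ((ZMod.natCast_eq_zero_iff 2 p).1 (by exact_mod_cast h)))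
  have hyy : y * y = 1 := by rw [← pow_two]; exact hy2
  have hyinv : y⁻¹ = y := inv_eq_of_mul_eq_one_right hyy
  have hreal : ∀ χ : Cfsg.IrrCharacter G, conj (χ.1 y) = χ.1 y := fun χ => by
    rw [← Char.IsIrrCharacter.apply_inv χ.2, hyinv]
  have := Fintype.ofFinite S.V
  constructor
  · rw [S.sum_mul_vec (fun χ => χ.1 y) 0, neg_zero, zero_div]
    intro i hi
    simp only [Ssum, finsum_eq_sum_of_fintype, Finset.mul_sum]
    rw [Finset.sum_comm]
    refine Finset.sum_eq_zero fun v _ => ?_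
    rw [Finset.sum_congr rfl (g := fun χ : Cfsg.IrrCharacter G =>
      χ.1 (zpw S.z i * (v : G)) * conj (χ.1 y)) (fun χ _ => by rw [hreal, mul_comm]),
      Char.sum_mul_conj, if_neg]
    intro h
    obtain ⟨b, hb⟩ := isConj_iff.1 h.symm
    have h2 : (zpw S.z i * (v : G)) * (zpw S.z i * (v : G)) = 1 := by
      rw [← hb, show b * y * b⁻¹ * (b * y * b⁻¹) = b * (y * y) * b⁻¹ by group, hyy]; group
    have h3 : zpw S.z (i + i) * ((v : G) * (v : G)) = zpw S.z (0 : ZMod p) * (1 : G) := by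
      rw [zpw_zero, one_mul, ← h2, zpw_add S.hz]
      simp only [mul_assoc]
      rw [← mul_assoc (v : G) (zpw S.z i), ← (S.commute i v.2).eq]
      simp only [mul_assoc]
    have := (S.unique (mul_mem v.2 v.2) S.V.one_mem h3).1
    rw [← two_mul, mul_eq_zero] at this
    exact hi (this.resolve_left h2ne)
  · rw [S.sum_mul_vec (fun χ => χ.1 y ^ 2 / χ.1 1) 0, neg_zero, zero_div]
    intro i hi
    simp only [Ssum, finsum_eq_sum_of_fintype, Finset.mul_sum]
    rw [Finset.sum_comm]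
    refine Finset.sum_eq_zero fun v _ => ?_
    have h := Blk83.sum_conj_mul_div y (zpw S.z i * (v : G))
    rw [Finset.filter_eq_empty_iff.2 (fun a _ hc => ?_), Finset.card_empty, Nat.cast_zero, zero_mul] at h
    · refine Eq.trans ?_ ((mul_eq_zero.1 h).resolve_left (Nat.cast_ne_zero.2 Fintype.card_pos.ne'))
      exact Finset.sum_congr rfl fun χ _ => by rw [hreal]; ring
    obtain ⟨b, hb⟩ := isConj_iff.1 hc
    set s := a * y * a⁻¹ with hs
    have hss : s * s = 1 := by
      rw [hs, show a * y * a⁻¹ * (a * y * a⁻¹) = a * (y * y) * a⁻¹ by group, hyy]; group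
    have hsinv : s⁻¹ = s := inv_eq_of_mul_eq_one_right hss
    have hsx : s * (zpw S.z i * (v : G)) * (s * (zpw S.z i * (v : G))) = 1 := by
      rw [← hb, show b * y * b⁻¹ * (b * y * b⁻¹) = b * (y * y) * b⁻¹ by group, hyy]; group
    have hxinv : (zpw S.z i * (v : G))⁻¹ = zpw S.z (-i) * (v : G)⁻¹ := by
      rw [mul_inv_rev]
      have hz : (zpw S.z i)⁻¹ = zpw S.z (-i) := inv_eq_of_mul_eq_one_right (by
        rw [← zpw_add S.hz, add_neg_cancel, zpw_zero])
      rw [hz, (S.commute (-i) (inv_mem v.2)).eq]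
    have hconj : s * (zpw S.z i * (v : G)) * s⁻¹ = zpw S.z (-i) * (v : G)⁻¹ := by
      rw [← hxinv, hsinv]
      exact eq_inv_of_mul_eq_one_left (by simpa only [mul_assoc] using hsx)
    obtain ⟨h1, -⟩ := S.eq_of_conj hi v.2 (inv_mem v.2) hconj
    exact hy s (S.mem_normalizer_of_conj hi h1) (isConj_iff.2 ⟨a, rfl⟩)

end CfsgLib.SmallOrder.CSplit
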