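import Cfsg.Agent.Lib.SmallOrder.PrincipalDegrees

/-!
A decision procedure refuting the degree equation, and its user interface.
-/

set_option autoImplicit false

namespace CfsgLib.SmallOrder

open Subgroup

/-- search for a multiset of candidates with prescribed weight norm `S`, weighted sum `T` and squares `≤ B` -/
def degSearch : List (ℤ × ℕ) → ℕ → ℤ → ℕ → Bool
  | [], S, T, _ => Nat.beq S 0 && decide (T = 0)
  | (w, f) :: rest, S, T, B =>
    (List.range (S + 1)).any fun m =>
      Nat.ble (m * (w.natAbs * w.natAbs)) S && Nat.ble (m * (f * f)) B &&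
        degSearch rest (S - m * (w.natAbs * w.natAbs)) (T - (m : ℤ) * (w * (f : ℤ))) (B - m * (f * f))

/-- integers between `-n` and `n` -/
def intBox (n : ℕ) : List ℤ := (List.range (2 * n + 1)).map fun (i : ℕ) => (i : ℤ) - (n : ℤ)

/-- possible degrees -/
def degFs (N e R : ℕ) : List ℕ :=
  (List.range (R + 1)).filter fun f => Nat.ble e f && Nat.beq (N % f) 0

/-- possible weighted degrees -/
def degCands (N p e R : ℕ) : List (ℤ × ℕ) :=
  (degFs N e R).flatMap fun (f : ℕ) =>
    ((intBox e).filter fun w => !(decide (w = 0)) && decide (w * w ≤ (e : ℤ)) &&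
      decide (((f : ℤ) + w) % (p : ℤ) = 0)).map fun (w : ℤ) => (w, (f : ℕ))

/-- `true` when the degree equation has no solution -/
def noDegree (N p e t R : ℕ) : Bool :=
  Nat.blt N ((R + 1) * (R + 1)) &&
  [(1 : ℤ), -1].all fun ε => (intBox (e + 1)).all fun k =>
    let S : ℤ := (e : ℤ) - 1 - (t : ℤ) * (k * k) - 2 * ε * k
    decide (S < 0) || (degFs N e R).all fun f0 =>
      !(decide (((f0 : ℤ) - ((e : ℤ) * ε - k)) % (p : ℤ) = 0) && Nat.ble (1 + t * (f0 * f0)) N &&
        degSearch (degCands N p e R) S.toNat (1 - ((t : ℤ) * k + ε) * f0) (N - (1 + t * (f0 * f0))))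

theorem degSearch_spec : ∀ (cands : List (ℤ × ℕ)) (l : List (ℤ × ℕ)) (S : ℕ) (T : ℤ) (B : ℕ),
    (∀ x ∈ l, x ∈ cands ∧ x.1 ≠ 0) →
    (l.map fun x => x.1.natAbs * x.1.natAbs).sum = S → (l.map fun x => x.1 * (x.2 : ℤ)).sum = T →
    (l.map fun x => x.2 * x.2).sum ≤ B → degSearch cands S T B = true
  | [], l, S, T, B, hl, hS, hT, hB => by
    cases l with
    | nil =>
      simp only [List.map_nil, List.sum_nil] at hS hT
      subst hS; subst hT
      rfl
    | cons a l => exact absurd (hl a (List.mem_cons_self ..)).1 (List.not_mem_nil)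
  | (w, f) :: rest, l, S, T, B, hl, hS, hT, hB => by
    classical
    let l1 := l.filter (fun x => decide (x = (w, f)))
    let l2 := l.filter (fun x => !decide (x = (w, f)))
    have hperm : (l1 ++ l2).Perm l := List.filter_append_perm _ l
    have hl1 : l1 = List.replicate l1.length (w, f) := List.eq_replicate_of_mem fun b hb => by
      simpa using (List.mem_filter.1 hb).2
    set m := l1.length with hm
    have sum_split : ∀ (α : Type) [AddCommMonoid α] (g : ℤ × ℕ → α),
        (l.map g).sum = m • g (w, f) + (l2.map g).sum := by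
      intro α _ g
      rw [← (hperm.map g).sum_eq, List.map_append, List.sum_append]
      congr 1
      rw [hl1, List.map_replicate, List.sum_replicate]
    rw [sum_split] at hS hT hB
    simp only [nsmul_eq_mul, smul_eq_mul, Nat.cast_id] at hS hT hB
    simp only [degSearch, List.any_eq_true, List.mem_range, Bool.and_eq_true, Nat.ble_eq]
    refine ⟨m, ?_, ⟨by omega, by omega⟩, degSearch_spec rest l2 _ _ _ ?_ ?_ ?_ ?_⟩
    · by_cases hw : w = 0
      · have hm0 : m = 0 := by
          by_contra hm0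
          obtain ⟨b, hb⟩ := List.exists_mem_of_length_pos (l := l1) (Nat.pos_of_ne_zero hm0)
          have hbe : b = (w, f) := by simpa using (List.mem_filter.1 hb).2
          exact (hl b (List.mem_filter.1 hb).1).2 (by rw [hbe]; exact hw)
        omega
      · have : 1 ≤ w.natAbs * w.natAbs :=
          Nat.mul_pos (Int.natAbs_pos.2 hw) (Int.natAbs_pos.2 hw)
        have : m * 1 ≤ m * (w.natAbs * w.natAbs) := Nat.mul_le_mul_left m this
        omega
    · intro x hx
      obtain ⟨hxl, hne⟩ := List.mem_filter.1 hx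
      refine ⟨?_, (hl x hxl).2⟩
      rcases List.mem_cons.1 (hl x hxl).1 with h | h
      · exact absurd h (by simpa using hne)
      · exact h
    · omega
    · linarith
    · omega

theorem mem_intBox {n : ℕ} {x : ℤ} (h1 : -(n : ℤ) ≤ x) (h2 : x ≤ n) : x ∈ intBox n := by
  refine List.mem_map.2 ⟨(x + n).toNat, List.mem_range.2 ?_, ?_⟩
  · omega
  · omega

theorem mem_degFs {N e R f : ℕ} (he : e ≤ f) (hd : f ∣ N) (hR : f * f < (R + 1) * (R + 1)) :
    f ∈ degFs N e R := by
  refine List.mem_filter.2 ⟨List.mem_range.2 ?_, ?_⟩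
  · by_contra h
    have := Nat.mul_le_mul (not_lt.1 h) (not_lt.1 h)
    omega
  · simp [he, Nat.mod_eq_zero_of_dvd hd, Nat.ble_eq]

theorem isEmpty_degreeSolution {N p e t R : ℕ} (ht : 1 ≤ t) (he : 2 ≤ e)
    (h : noDegree N p e t R = true) : IsEmpty (DegreeSolution N p e t) := by
  refine ⟨fun s => ?_⟩
  simp only [noDegree, Bool.and_eq_true, Nat.blt_eq] at h
  obtain ⟨hR, hall⟩ := h
  have hn2 : (((s.l.map fun x => x.1.natAbs * x.1.natAbs).sum : ℕ) : ℤ) =
      (s.l.map fun x => x.1 ^ 2).sum := by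
    induction s.l with
    | nil => simp
    | cons a l ih =>
      simp only [List.map_cons, List.sum_cons, Nat.cast_add, ih, Nat.cast_mul]
      rw [← sq, Int.natAbs_sq]
  have hnorm := s.norm
  have hsq := s.squares
  have hw2 : ∀ x ∈ s.l, (x.1 * x.1 : ℤ) ≤ (s.l.map fun x => x.1 ^ 2).sum := by
    intro x hx
    rw [← pow_two]
    exact List.single_le_sum (fun y hy => by
      obtain ⟨z, _, rfl⟩ := List.mem_map.1 hy; exact sq_nonneg _) _ (List.mem_map.2 ⟨x, hx, rfl⟩)
  have hf2 : ∀ x ∈ s.l, x.2 * x.2 ≤ (s.l.map fun x => x.2 ^ 2).sum := by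
    intro x hx
    rw [← pow_two]
    exact List.single_le_sum (fun y _ => Nat.zero_le y) _ (List.mem_map.2 ⟨x, hx, rfl⟩)
  have hsum0 : 0 ≤ (s.l.map fun x => x.1 ^ 2).sum :=
    List.sum_nonneg fun y hy => by obtain ⟨z, _, rfl⟩ := List.mem_map.1 hy; exact sq_nonneg _
  have ht' : s.k ^ 2 ≤ (t : ℤ) * s.k ^ 2 :=
    le_mul_of_one_le_left (sq_nonneg _) (by exact_mod_cast ht)
  have hke : -((e + 1 : ℕ) : ℤ) ≤ s.k ∧ s.k ≤ ((e + 1 : ℕ) : ℤ) := by
    have he' : (2 : ℤ) ≤ e := by exact_mod_cast he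
    rcases s.hε with hε | hε <;> rw [hε] at hnorm <;> constructor <;> push_cast <;>
      nlinarith [sq_nonneg (s.k - 1), sq_nonneg (s.k + 1)]
  have hmem : s.ε ∈ [(1 : ℤ), -1] := by rcases s.hε with h | h <;> simp [h]
  have hk := List.all_eq_true.1 (List.all_eq_true.1 hall s.ε hmem)
    s.k (mem_intBox hke.1 hke.2)
  simp only [Bool.or_eq_true, decide_eq_true_eq] at hk
  rcases hk with hk | hk
  · nlinarith
  have hfs : s.f0 ∈ degFs N e R := by
    refine mem_degFs s.f0_le s.f0_dvd ?_
    have : 1 * (s.f0 * s.f0) ≤ t * s.f0 ^ 2 := by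
      rw [pow_two]; exact Nat.mul_le_mul_right _ ht
    omega
  have h0 := List.all_eq_true.1 hk s.f0 hfs
  have hc : ∀ x ∈ s.l, x ∈ degCands N p e R ∧ x.1 ≠ 0 := by
    intro x hx
    obtain ⟨h0, h1, h2, h3⟩ := s.others x hx
    refine ⟨List.mem_flatMap.2 ⟨x.2, mem_degFs h1 h2 (by have := hf2 x hx; omega),
      List.mem_map.2 ⟨x.1, List.mem_filter.2 ⟨?_, ?_⟩, rfl⟩⟩, h0⟩
    · have := hw2 x hx
      have hb : x.1 * x.1 ≤ (e : ℤ) := by
        rcases s.hε with hε | hε <;> rw [hε] at hnorm <;> nlinarith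
      have h1le : |x.1| ≤ (e : ℤ) := by
        have := abs_mul_abs_self x.1
        have := Int.one_le_abs h0
        nlinarith
      exact mem_intBox (abs_le.1 h1le).1 (abs_le.1 h1le).2
    · have hb : x.1 * x.1 ≤ (e : ℤ) := by
        have := hw2 x hx
        rcases s.hε with hε | hε <;> rw [hε] at hnorm <;> nlinarith
      simp [h0, hb, Int.emod_eq_zero_of_dvd h3]
  have hsearch := degSearch_spec (degCands N p e R) s.l
    ((e : ℤ) - 1 - (t : ℤ) * (s.k * s.k) - 2 * s.ε * s.k).toNat
    (1 - ((t : ℤ) * s.k + s.ε) * s.f0) (N - (1 + t * (s.f0 * s.f0))) hc ?_ ?_ ?_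
  · have hle : 1 + t * (s.f0 * s.f0) ≤ N := by rw [← pow_two]; omega
    have hb : Nat.ble (1 + t * (s.f0 * s.f0)) N = true := Nat.ble_eq.mpr hle
    simp [Int.emod_eq_zero_of_dvd s.f0_congr, hb, hsearch] at h0
  · have : (e : ℤ) - 1 - (t : ℤ) * (s.k * s.k) - 2 * s.ε * s.k =
        (((s.l.map fun x => x.1.natAbs * x.1.natAbs).sum : ℕ) : ℤ) := by
      rw [hn2, ← hnorm]; ring
    rw [this, Int.toNat_natCast]
  · have := s.degEq
    linarith
  · have e1 : (s.l.map fun x => x.2 ^ 2) = s.l.map fun x => x.2 * x.2 :=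
      List.map_congr_left fun x _ => pow_two _
    rw [e1, pow_two] at hsq
    omega

universe u

/-- The structure of the normaliser of a Sylow subgroup of prime order in a non-abelian simple group,
with the degree equation. -/
theorem exists_degreeSolution {G : Type u} [Group G] [Finite G] [IsSimpleGroup G]
    (hG : ¬ IsMulCommutative G) {p : ℕ} [Fact p.Prime] (P : Sylow p G)
    (hP : Nat.card ↥(P : Subgroup G) = p) :
    ∃ c e t, Nat.card ↥(centralizer ((P : Subgroup G) : Set G)) = p * c ∧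
      Nat.card ↥(normalizer ((P : Subgroup G) : Set G)) = p * c * e ∧ ¬ p ∣ c ∧ 2 ≤ e ∧ e * t = p - 1 ∧
      Nonempty (DegreeSolution (Nat.card G) p e t) := by
  classical
  cases nonempty_fintype G
  have hp : p.Prime := Fact.out
  obtain ⟨S⟩ := exists_csplit P hP
  have hne : (P : Subgroup G) ≠ ⊤ := by
    intro h
    rw [h, Subgroup.card_top] at hP
    have := isCyclic_of_prime_card hP
    exact hG ⟨⟨(IsCyclic.commGroup (α := G)).mul_comm⟩⟩
  have hdvd : p ∣ Nat.card G := hP ▸ Subgroup.card_subgroup_dvd_card _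
  have hidx := S.act.range.card_mul_index
  rw [Nat.card_eq_fintype_card (α := (ZMod p)ˣ), ZMod.card_units p] at hidx
  have he : 2 ≤ Nat.card S.act.range := by
    by_contra hlt
    have he1 : Nat.card S.act.range = 1 := by
      have : 0 < Nat.card S.act.range := Nat.card_pos
      omega
    refine not_normalizer_le_centralizer hdvd P hne fun g hg => ?_
    have hker : S.act.ker = ⊤ := MonoidHom.ker_eq_top_iff.2
      (MonoidHom.range_eq_bot_iff.1 (Subgroup.card_eq_one.1 he1))
    have : (⟨g, hg⟩ : ↥(normalizer ((P : Subgroup G) : Set G))) ∈ S.act.ker := hker ▸ mem_top _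
    rw [S.ker_act] at this
    exact this
  exact ⟨Nat.card S.V, _, _, S.card_centralizer, S.card_normalizer, S.hcop, he, hidx,
    S.exists_solution hidx he⟩

end CfsgLib.SmallOrder
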