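import Cfsg.Agent.Lib.SmallOrder.Basic
import Mathlib.GroupTheory.Perm.Cycle.Type

/-!
A Sylow subgroup of prime order acting on the cosets of its normaliser; fixed points of elements; parity.
-/

set_option autoImplicit false

namespace CfsgLib.SmallOrder

open Subgroup MulAction

variable {G : Type*} [Group G]

/-- Double counting of fixed points on cosets. -/
theorem card_fixedBy_mul_card_class [Finite G] (H : Subgroup G) (x : G) :
    Nat.card (fixedBy (G ⧸ H) x) * Nat.card {g : G // IsConj x g} =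
      H.index * Nat.card {g : G // IsConj x g ∧ g ∈ H} := by
  classical
  have := Fintype.ofFinite G
  have := Fintype.ofFinite (G ⧸ H)
  let S := Σ g : {g : G // IsConj x g}, fixedBy (G ⧸ H) (g : G)
  let T := Σ c : G ⧸ H, {g : {g : G // IsConj x g} // (g : G) • c = c}
  let e : S ≃ T :=
    ⟨fun s => ⟨s.2.1, s.1, s.2.2⟩, fun t => ⟨t.2.1, t.1, t.2.2⟩, fun _ => rfl, fun _ => rfl⟩
  have hS : Nat.card S = Nat.card {g : G // IsConj x g} * Nat.card (fixedBy (G ⧸ H) x) := by
    have : ∀ g : {g : G // IsConj x g},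
        Nat.card (fixedBy (G ⧸ H) (g : G)) = Nat.card (fixedBy (G ⧸ H) x) := by
      rintro ⟨g, hg⟩
      obtain ⟨a, rfl⟩ := isConj_iff.1 hg
      refine Nat.card_congr ((MulAction.toPerm a).subtypeEquiv fun c => ?_).symm
      simp only [mem_fixedBy, MulAction.toPerm_apply]
      constructor
      · intro h; rw [mul_smul, mul_smul, inv_smul_smul, h]
      · intro h; rw [mul_smul, mul_smul, inv_smul_smul] at h; exact smul_left_cancel a h
    rw [Nat.card_sigma, Finset.sum_congr rfl (fun g _ => this g)]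
    simp [Nat.card_eq_fintype_card]
  have hT : Nat.card T = Nat.card (G ⧸ H) * Nat.card {g : G // IsConj x g ∧ g ∈ H} := by
    have : ∀ c : G ⧸ H, Nat.card {g : {g : G // IsConj x g} // (g : G) • c = c} =
        Nat.card {g : G // IsConj x g ∧ g ∈ H} := by
      intro c
      obtain ⟨a, rfl⟩ := QuotientGroup.mk_surjective c
      refine Nat.card_congr ((Equiv.subtypeSubtypeEquivSubtypeInter (fun g => IsConj x g)
        (fun g => g • (QuotientGroup.mk a : G ⧸ H) = QuotientGroup.mk a)).trans ?_)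
      refine ((MulAut.conj a).toEquiv.subtypeEquiv fun g => ?_).symm
      simp only [MulEquiv.toEquiv_eq_coe, EquivLike.coe_coe, MulAut.conj_apply]
      refine and_congr ?_ ?_
      · constructor
        · exact fun h => h.trans (isConj_iff.2 ⟨a, rfl⟩)
        · exact fun h => h.trans (isConj_iff.2 ⟨a, rfl⟩).symm
      · change _ ↔ (QuotientGroup.mk (a * g * a⁻¹ * a) : G ⧸ H) = QuotientGroup.mk a
        rw [QuotientGroup.eq, show (a * g * a⁻¹ * a)⁻¹ * a = g⁻¹ by group, inv_mem_iff]
    rw [Nat.card_sigma, Finset.sum_congr rfl (fun g _ => this g)]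
    simp [Nat.card_eq_fintype_card]
  rw [mul_comm, ← hS, Nat.card_congr e, hT]
  rfl

variable [Finite G] {p : ℕ} [Fact p.Prime]

omit [Finite G] [Fact p.Prime] in
theorem smul_eq_self_iff {g : G} {P : Sylow p G} :
    g • P = P ↔ g ∈ normalizer ((P : Subgroup G) : Set G) :=
  Sylow.smul_eq_iff_mem_normalizer

/-- An element of prime order fixes only the coset of the normaliser of its Sylow subgroup. -/
theorem fixedBy_normalizer_eq (P : Sylow p G) (hP : Nat.card ↥(P : Subgroup G) = p) {y : G}
    (hy : orderOf y = p) :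
    ∃ c : G ⧸ normalizer ((P : Subgroup G) : Set G),
      fixedBy (G ⧸ normalizer ((P : Subgroup G) : Set G)) y = {c} ∧
      (y ∈ (P : Subgroup G) → c = QuotientGroup.mk (1 : G)) := by
  have hzc : Nat.card (zpowers y) = p := by rw [Nat.card_zpowers, hy]
  have hzp : IsPGroup p (zpowers y) := IsPGroup.of_card (n := 1) (by rw [hzc, pow_one])
  have hfix : ∀ g : G, QuotientGroup.mk g ∈ fixedBy (G ⧸ normalizer ((P : Subgroup G) : Set G)) y ↔
      (((g • P : Sylow p G)) : Subgroup G) = zpowers y := by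
    intro g
    have h1 : QuotientGroup.mk g ∈ fixedBy (G ⧸ normalizer ((P : Subgroup G) : Set G)) y ↔
        y • (g • P) = g • P := by
      rw [mem_fixedBy, Quotient.smul_mk, QuotientGroup.eq, smul_eq_mul, ← mul_smul]
      rw [← inv_mem_iff, mul_inv_rev, inv_inv, ← smul_eq_self_iff, mul_smul,
        inv_smul_eq_iff]
    rw [h1, smul_eq_self_iff]
    constructor
    · intro h
      have hle : zpowers y ≤ ((g • P : Sylow p G) : Subgroup G) := by
        rw [zpowers_le]
        have := IsPGroup.inf_normalizer_sylow hzp (g • P)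
        exact (this ▸ ⟨mem_zpowers y, h⟩ : y ∈ zpowers y ⊓ ((g • P : Sylow p G) : Subgroup G)).2
      refine (Subgroup.eq_of_le_of_card_ge hle ?_).symm
      rw [hzc, (g • P).card_eq_multiplicity, ← P.card_eq_multiplicity, hP]
    · intro h
      exact Subgroup.le_normalizer (h ▸ mem_zpowers y)
  obtain ⟨Q, hQ⟩ := hzp.exists_le_sylow
  have hQeq : (Q : Subgroup G) = zpowers y := (Subgroup.eq_of_le_of_card_ge hQ (by
    rw [hzc, Q.card_eq_multiplicity, ← P.card_eq_multiplicity, hP])).symm
  obtain ⟨g, rfl⟩ := MulAction.exists_smul_eq G P Q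
  refine ⟨QuotientGroup.mk g, ?_, ?_⟩
  · ext c
    obtain ⟨a, rfl⟩ := QuotientGroup.mk_surjective c
    rw [hfix, Set.mem_singleton_iff, QuotientGroup.eq, ← smul_eq_self_iff,
      mul_smul, inv_smul_eq_iff, ← hQeq]
    exact ⟨fun h => (Sylow.ext h).symm, fun h => by rw [h]⟩
  · intro hyP
    have hPy : (P : Subgroup G) = zpowers y := (Subgroup.eq_of_le_of_card_ge
      (zpowers_le.2 hyP) (by rw [hzc, hP])).symm
    rw [QuotientGroup.eq, mul_one, inv_mem_iff, ← smul_eq_self_iff]
    exact Sylow.ext (hQeq.trans hPy.symm)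

/-- The orbits of `P` other than the base point are regular. -/
theorem orbit_injective (P : Sylow p G) (hP : Nat.card ↥(P : Subgroup G) = p)
    {c : G ⧸ normalizer ((P : Subgroup G) : Set G)} (hc : c ≠ QuotientGroup.mk (1 : G))
    {u : G} (hu : u ∈ (P : Subgroup G)) (h : u • c = c) : u = 1 := by
  by_contra hne
  have hord : orderOf u = p := by
    refine ((Nat.dvd_prime Fact.out).1 ?_).resolve_left (fun h1 => hne (orderOf_eq_one_iff.1 h1))
    exact hP ▸ Subgroup.orderOf_dvd_natCard _ hu
  obtain ⟨c₀, h1, h2⟩ := fixedBy_normalizer_eq P hP hord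
  have : c ∈ fixedBy (G ⧸ normalizer ((P : Subgroup G) : Set G)) u := h
  rw [h1, h2 hu] at this
  exact hc this

theorem card_orbits (P : Sylow p G) (hP : Nat.card ↥(P : Subgroup G) = p) :
    (Nat.card (orbitRel.Quotient ↥(P : Subgroup G)
      (G ⧸ normalizer ((P : Subgroup G) : Set G))) - 1) * p + 1 = Nat.card (Sylow p G) := by
  classical
  set Q := ↥(P : Subgroup G) with hQ
  set X := G ⧸ normalizer ((P : Subgroup G) : Set G) with hX
  have := Fintype.ofFinite (orbitRel.Quotient Q X)
  let x₀ : X := QuotientGroup.mk (1 : G)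
  let ω₀ : orbitRel.Quotient Q X := Quotient.mk'' x₀
  have hbase : ∀ u : Q, u • x₀ = x₀ := by
    intro u
    change (QuotientGroup.mk ((u : G) * 1) : X) = QuotientGroup.mk (1 : G)
    rw [QuotientGroup.eq, mul_one, mul_one]
    exact inv_mem (Subgroup.le_normalizer u.2)
  have hout : ω₀.out = x₀ := by
    obtain ⟨u, hu⟩ := MulAction.orbitRel_apply.1
      (Quotient.exact' (Quotient.out_eq' ω₀) : orbitRel Q X ω₀.out x₀)
    exact hu.symm.trans (hbase u)
  have hcard : ∀ ω : orbitRel.Quotient Q X, ω ≠ ω₀ → Nat.card (orbit Q ω.out) = p := by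
    intro ω hω
    have hne : ω.out ≠ x₀ := fun h => hω ((Quotient.out_eq' ω).symm.trans (congrArg Quotient.mk'' h))
    have hst : stabilizer Q ω.out = ⊥ := by
      rw [eq_bot_iff]
      intro u hu
      exact Subtype.ext (orbit_injective P hP hne u.2 (mem_stabilizer_iff.1 hu))
    rw [Nat.card_coe_set_eq, ← MulAction.index_stabilizer, hst, Subgroup.index_bot, hP]
  rw [Sylow.card_eq_card_quotient_normalizer P]
  change _ = Nat.card X
  rw [Nat.card_congr (selfEquivSigmaOrbits Q X), Nat.card_sigma,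
    ← Finset.add_sum_erase _ _ (Finset.mem_univ ω₀), Finset.sum_congr rfl
      (fun ω hω => hcard ω (Finset.mem_erase.1 hω).1), Finset.sum_const, smul_eq_mul,
    Finset.card_erase_of_mem (Finset.mem_univ ω₀), Finset.card_univ,
    Nat.card_eq_fintype_card, add_comm]
  congr 1
  rw [hout]
  have : orbit Q x₀ = {x₀} := Set.eq_singleton_iff_unique_mem.2
    ⟨mem_orbit_self x₀, fun y ⟨u, hu⟩ => hu.symm.trans (hbase u)⟩
  rw [this]
  simp

/-- An element normalising but not centralising `P` fixes at most one point of each orbit of `P`. -/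
theorem fixedBy_le_orbits (P : Sylow p G) (hP : Nat.card ↥(P : Subgroup G) = p) {x : G}
    (hx : x ∈ normalizer ((P : Subgroup G) : Set G))
    (hxC : x ∉ centralizer ((P : Subgroup G) : Set G)) :
    Nat.card (fixedBy (G ⧸ normalizer ((P : Subgroup G) : Set G)) x) ≤
      Nat.card (orbitRel.Quotient ↥(P : Subgroup G) (G ⧸ normalizer ((P : Subgroup G) : Set G))) := by
  refine Nat.card_le_card_of_injective (fun c => Quotient.mk'' c.1) ?_
  rintro ⟨c, hc⟩ ⟨d, hd⟩ hcd
  obtain ⟨⟨u, hu⟩, hud⟩ := MulAction.orbitRel_apply.1 (Quotient.exact' hcd)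
  change u • d = c at hud
  apply Subtype.ext
  by_cases hdb : d = QuotientGroup.mk (1 : G)
  · subst hdb
    change c = QuotientGroup.mk (1 : G)
    rw [← hud]
    change (QuotientGroup.mk (u * 1) : G ⧸ normalizer ((P : Subgroup G) : Set G)) = _
    rw [QuotientGroup.eq, mul_one, mul_one]
    exact inv_mem (Subgroup.le_normalizer hu)
  have hfix : (u⁻¹ * (x * u * x⁻¹)) • d = d := by
    have hd' : x⁻¹ • d = d := inv_smul_eq_iff.2 (mem_fixedBy.1 hd).symm
    rw [mul_smul, mul_smul, mul_smul, hd', hud, mem_fixedBy.1 hc, ← hud, inv_smul_smul]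
  have hxu : x * u * x⁻¹ ∈ (P : Subgroup G) := (Subgroup.mem_normalizer_iff.1 hx u).1 hu
  have h1 := orbit_injective P hP hdb (mul_mem (inv_mem hu) hxu) hfix
  have hcomm : x * u = u * x := by
    rw [inv_mul_eq_one] at h1
    conv_rhs => rw [h1]
    group
  change c = d
  rw [← hud]
  suffices u = 1 by rw [this, one_smul]
  by_contra hu1
  apply hxC
  refine Subgroup.mem_centralizer_iff.2 fun v hv => ?_
  have hz : zpowers u = (P : Subgroup G) := by
    refine Subgroup.eq_of_le_of_card_ge (zpowers_le.2 hu) ?_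
    rw [hP, Nat.card_zpowers]
    have := ((Nat.dvd_prime (Fact.out : p.Prime)).1 (hP ▸ Subgroup.orderOf_dvd_natCard _ hu)).resolve_left
      (fun h => hu1 (orderOf_eq_one_iff.1 h))
    rw [this]
  obtain ⟨i, rfl⟩ := (hz ▸ hv : v ∈ zpowers u)
  exact ((show Commute u x from hcomm.symm).zpow_left i).eq

/-- In a non-abelian simple group an involution fixes a number of points congruent to the degree
modulo 4. -/
theorem fixedBy_involution_mod_four [IsSimpleGroup G] (hG : ¬ IsMulCommutative G) (H : Subgroup G)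
    {x : G} (hx : x ^ 2 = 1) : Nat.card (fixedBy (G ⧸ H) x) % 4 = H.index % 4 := by
  classical
  have := Fintype.ofFinite (G ⧸ H)
  have hsq : (MulAction.toPermHom G (G ⧸ H) x) ^ 2 = 1 := by rw [← map_pow, hx, map_one]
  have hsign := sign_eq_one hG (MulAction.toPermHom G (G ⧸ H)) x
  rw [Equiv.Perm.sign_of_pow_two_eq_one hsq, neg_one_pow_eq_one_iff_even (by decide)] at hsign
  have htwo := Equiv.Perm.two_dvd_card_support hsq
  set s := (MulAction.toPermHom G (G ⧸ H) x).support with hs
  have hfix : Nat.card (fixedBy (G ⧸ H) x) = Fintype.card (G ⧸ H) - s.card := by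
    rw [Nat.card_eq_fintype_card, ← Finset.card_compl, ← Fintype.card_coe]
    refine Fintype.card_congr (Equiv.subtypeEquivRight fun c => ?_)
    simp [hs]
  have hle : s.card ≤ Fintype.card (G ⧸ H) := Finset.card_le_univ s
  rw [hfix, Subgroup.index, Nat.card_eq_fintype_card]
  obtain ⟨j, hj⟩ := hsign
  have hfx : Fintype.card (Function.fixedPoints (MulAction.toPermHom G (G ⧸ H) x)) =
      Fintype.card (G ⧸ H) - s.card := by
    rw [← Finset.card_compl, ← Fintype.card_coe]
    refine Fintype.card_congr (Equiv.subtypeEquivRight fun c => ?_)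
    simp [hs, Function.mem_fixedPoints, Function.IsFixedPt]
  omega

/-- An involution inverting a Sylow subgroup of prime order. -/
theorem involution_fixedBy [IsSimpleGroup G] (hG : ¬ IsMulCommutative G) (P : Sylow p G)
    (hP : Nat.card ↥(P : Subgroup G) = p) {x : G}
    (hx : x ∈ normalizer ((P : Subgroup G) : Set G))
    (hxC : x ∉ centralizer ((P : Subgroup G) : Set G)) (hx2 : x ^ 2 = 1) :
    ∃ k, 1 ≤ k ∧ k % 4 = Nat.card (Sylow p G) % 4 ∧ (k - 1) * p + 1 ≤ Nat.card (Sylow p G) := by
  refine ⟨Nat.card (fixedBy (G ⧸ normalizer ((P : Subgroup G) : Set G)) x), ?_, ?_, ?_⟩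
  · have : Nonempty (fixedBy (G ⧸ normalizer ((P : Subgroup G) : Set G)) x) :=
      ⟨⟨QuotientGroup.mk (1 : G), by
        rw [mem_fixedBy, Quotient.smul_mk, QuotientGroup.eq, smul_eq_mul, mul_one, mul_one]
        exact inv_mem hx⟩⟩
    exact Nat.card_pos
  · rw [P.card_eq_index_normalizer]
    exact fixedBy_involution_mod_four hG _ hx2
  · have h1 := fixedBy_le_orbits P hP hx hxC
    have h2 := card_orbits P hP
    calc _ ≤ (Nat.card (orbitRel.Quotient ↥(P : Subgroup G)
          (G ⧸ normalizer ((P : Subgroup G) : Set G))) - 1) * p + 1 :=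
          Nat.add_le_add_right (Nat.mul_le_mul_right _ (Nat.sub_le_sub_right h1 1)) 1
      _ = _ := h2

/-- If the normaliser of `P` has order `2 p`, it contains a non-centralising involution. -/
theorem exists_involution_of_two_mul [IsSimpleGroup G] (P : Sylow p G)
    (hP : Nat.card ↥(P : Subgroup G) = p) (hPT : (P : Subgroup G) ≠ ⊤) (hp2 : p ≠ 2)
    (hN : 2 ∣ Nat.card ↥(normalizer ((P : Subgroup G) : Set G)))
    (hN' : Nat.card ↥(centralizer ((P : Subgroup G) : Set G)) ∣ p ^ 2) :
    ∃ x : G, x ∈ normalizer ((P : Subgroup G) : Set G) ∧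
      x ∉ centralizer ((P : Subgroup G) : Set G) ∧ x ^ 2 = 1 := by
  have : Fact (Nat.Prime 2) := ⟨Nat.prime_two⟩
  obtain ⟨⟨x, hx⟩, hord⟩ := exists_prime_orderOf_dvd_card' 2 hN
  rw [Subgroup.orderOf_mk] at hord
  refine ⟨x, hx, fun hxC => ?_, by rw [← hord]; exact pow_orderOf_eq_one x⟩
  have h2 : 2 ∣ p ^ 2 := by
    have h := (Subgroup.orderOf_dvd_natCard _ hxC).trans hN'
    rw [hord] at h
    exact h
  exact hp2 ((Nat.prime_dvd_prime_iff_eq Nat.prime_two Fact.out).1
    (Nat.prime_two.dvd_of_dvd_pow h2)).symm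

end CfsgLib.SmallOrder
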