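import Cfsg.Agent.Lib.SmallOrder.Auto
import Cfsg.Agent.Lib.SmallOrder.CentralizerSplit
import Cfsg.Agent.Lib.SmallOrder.DegreeCheck
import Cfsg.Agent.Lib.SmallOrder.PrimeSylow

/-!
Excluding orders of simple groups by counting singular elements: for primes dividing the order
exactly once, the centralisers of Sylow subgroups are compared with one another and the sets of
singular elements are counted.
-/

set_option autoImplicit false
set_option linter.style.haveILetI false

namespace CfsgLib.SmallOrder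

open Subgroup MulAction

universe u

/-- possible pairs (number of Sylow subgroups, order of the `p'`-part of the centraliser) -/
def singOpts (N p : ℕ) : List (ℕ × ℕ) :=
  (sylowCands N p (N / p)).flatMap fun n =>
    ((List.range (N / p / n + 1)).filter fun c =>
      Nat.beq (N / p / n % c) 0 && (Nat.ble 2 (N / p / n / c) &&
        (Nat.beq ((p - 1) % (N / p / n / c)) 0 &&
          (List.range (c + 1)).all fun q =>
            !(Nat.blt ((n - 1) / p) q && (Nat.beq (c % q) 0 && isPrimeB q))))).map fun c => (n, c)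

/-- two primes with incompatible centraliser data -/
def singIncons (acc : List (ℕ × ℕ × ℕ)) : Bool :=
  acc.any fun x => acc.any fun y =>
    !(Nat.beq x.1 y.1) && (Nat.beq (x.2.2 % y.1) 0 && !(Nat.beq (y.2.2 % x.1) 0))

/-- enough independent singular elements -/
def singReach (N : ℕ) : List (ℕ × ℕ × ℕ) → List (ℕ × ℕ × ℕ) → ℕ → Bool
  | [], _, t => Nat.ble N t
  | x :: rest, chosen, t => Nat.ble N t ||
      ((chosen.all fun y => !(Nat.beq (x.2.2 % y.1) 0)) &&
          singReach N rest (x :: chosen) (t + x.2.1 * (x.1 - 1) * x.2.2)) ||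
        singReach N rest chosen t

/-- all assignments are contradictory -/
def singGo (N : ℕ) : List ℕ → List (ℕ × ℕ × ℕ) → Bool
  | [], acc => singIncons acc || singReach N acc [] 0
  | p :: ps, acc => (singOpts N p).all fun o => singGo N ps ((p, o) :: acc)

/-- the criterion for a list of primes -/
def singExcluded (N : ℕ) (ps : List ℕ) : Bool :=
  (ps.all fun p => isPrimeB p && (Nat.beq (N % p) 0 && (!(Nat.beq (N / p % p) 0) &&
    Nat.blt 1 (N / p)))) && (ps.Nodup && singGo N ps [])

variable {G : Type u} [Group G] [Finite G] {p : ℕ} [Fact p.Prime]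

omit [Finite G] [Fact p.Prime] in
theorem card_centralizer_smul (P : Sylow p G) (g : G) :
    Nat.card ↥(centralizer (((g • P : Sylow p G) : Subgroup G) : Set G)) =
      Nat.card ↥(centralizer ((P : Subgroup G) : Set G)) := by
  refine (Nat.card_congr ((MulAut.conj g).toEquiv.subtypeEquiv fun x => ?_)).symm
  simp only [MulEquiv.toEquiv_eq_coe, EquivLike.coe_coe, MulAut.conj_apply, mem_centralizer_iff]
  constructor
  · intro h y hy
    rw [SetLike.mem_coe, Sylow.coe_subgroup_smul, Subgroup.mem_pointwise_smul_iff_inv_smul_mem] at hy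
    rw [← map_inv, MulAut.smul_def, MulAut.conj_apply, inv_inv] at hy
    have h1 := h (g⁻¹ * y * g) hy
    calc y * (g * x * g⁻¹) = g * ((g⁻¹ * y * g) * x) * g⁻¹ := by group
      _ = _ := by rw [h1]; group
  · intro h y hy
    have h1 := h (g * y * g⁻¹) (by
      rw [SetLike.mem_coe, Sylow.coe_subgroup_smul, Subgroup.mem_pointwise_smul_iff_inv_smul_mem]
      rw [← map_inv, MulAut.smul_def, MulAut.conj_apply, inv_inv,
        show g⁻¹ * (g * y * g⁻¹) * g = y by group]
      exact hy)
    calc y * x = g⁻¹ * ((g * y * g⁻¹) * (g * x * g⁻¹)) * g := by group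
      _ = _ := by rw [h1]; group

theorem card_centralizer_eq (P Q : Sylow p G) :
    Nat.card ↥(centralizer ((Q : Subgroup G) : Set G)) =
      Nat.card ↥(centralizer ((P : Subgroup G) : Set G)) := by
  obtain ⟨g, rfl⟩ := MulAction.exists_smul_eq G P Q
  exact card_centralizer_smul P g

/-- The order of the `p'`-part of the centraliser of a Sylow subgroup. -/
noncomputable def cPart (p : ℕ) (G : Type u) [Group G] : ℕ :=
  Nat.card ↥(centralizer (((default : Sylow p G) : Subgroup G) : Set G)) / p

theorem card_centralizer_sylow (hdvd : p ∣ Nat.card G) (h2 : ¬ p ^ 2 ∣ Nat.card G) (P : Sylow p G) :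
    Nat.card ↥(P : Subgroup G) = p ∧
      Nat.card ↥(centralizer ((P : Subgroup G) : Set G)) = p * cPart p G ∧ ¬ p ∣ cPart p G := by
  have hp : p.Prime := Fact.out
  have hc : ∀ Q : Sylow p G, Nat.card ↥(Q : Subgroup G) = p := fun Q => by
    obtain ⟨m, hm⟩ := hdvd
    have := card_sylow_eq (e := 1) (m := m) (by rw [pow_one]; exact hm)
      (fun h => h2 (by rw [hm, pow_two]; exact mul_dvd_mul_left p h)) Q
    simpa using this
  obtain ⟨S⟩ := exists_csplit (default : Sylow p G) (hc _)
  have h1 := S.card_centralizer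
  have h3 : cPart p G = Nat.card S.V := by
    rw [cPart, h1, Nat.mul_div_cancel_left _ hp.pos]
  rw [card_centralizer_eq (default : Sylow p G) P, h1, h3]
  exact ⟨hc P, rfl, S.hcop⟩

/-- An element of order `q` commuting with one of order `p` makes `q` divide the centraliser part. -/
theorem dvd_cPart (hdvd : p ∣ Nat.card G) (h2 : ¬ p ^ 2 ∣ Nat.card G) {q : ℕ} (hq : q.Prime)
    (hqp : q ≠ p) {u v : G} (hu : orderOf u = p) (hv : orderOf v = q) (hc : Commute u v) :
    q ∣ cPart p G := by
  have hp : p.Prime := Fact.out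
  obtain ⟨P, hP⟩ := (IsPGroup.of_card (p := p) (n := 1) (G := ↥(zpowers u))
    (by rw [Nat.card_zpowers, hu, pow_one])).exists_le_sylow
  obtain ⟨h1, h3, -⟩ := card_centralizer_sylow hdvd h2 P
  have he : zpowers u = (P : Subgroup G) :=
    eq_of_le_of_card_ge hP (by rw [Nat.card_zpowers, hu, h1])
  have hv' : v ∈ centralizer ((P : Subgroup G) : Set G) := by
    refine mem_centralizer_iff.2 fun w hw => ?_
    rw [SetLike.mem_coe, ← he] at hw
    obtain ⟨i, rfl⟩ := mem_zpowers_iff.1 hw
    exact (hc.zpow_left i).eq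
  have h4 := Subgroup.orderOf_dvd_natCard _ hv'
  rw [hv, h3] at h4
  exact (hq.dvd_mul.1 h4).resolve_left fun h => hqp ((Nat.prime_dvd_prime_iff_eq hq hp).1 h)

theorem dvd_cPart_of_dvd_orderOf (hdvd : p ∣ Nat.card G) (h2 : ¬ p ^ 2 ∣ Nat.card G) {q : ℕ}
    (hq : q.Prime) (hqp : q ≠ p) {g : G} (hgp : p ∣ orderOf g) (hgq : q ∣ orderOf g) :
    q ∣ cPart p G :=
  dvd_cPart hdvd h2 hq hqp (orderOf_pow_orderOf_div (orderOf_pos g).ne' hgp)
    (orderOf_pow_orderOf_div (orderOf_pos g).ne' hgq) (Commute.pow_pow_self g _ _)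

theorem dvd_cPart_symm (hdvd : p ∣ Nat.card G) (h2 : ¬ p ^ 2 ∣ Nat.card G) {q : ℕ} [Fact q.Prime]
    (hqd : q ∣ Nat.card G) (hq2 : ¬ q ^ 2 ∣ Nat.card G) (hqp : q ≠ p) (h : q ∣ cPart p G) :
    p ∣ cPart q G := by
  obtain ⟨P⟩ := (inferInstance : Nonempty (Sylow p G))
  obtain ⟨h1, h3, -⟩ := card_centralizer_sylow hdvd h2 P
  obtain ⟨⟨v, hv⟩, hvo⟩ := exists_prime_orderOf_dvd_card'
    (G := ↥(centralizer ((P : Subgroup G) : Set G))) q (h3 ▸ Dvd.dvd.mul_left h p)
  obtain ⟨⟨u, hu⟩, huo⟩ := exists_prime_orderOf_dvd_card' (G := ↥(P : Subgroup G)) p (by rw [h1])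
  rw [Subgroup.orderOf_mk] at hvo huo
  exact dvd_cPart hqd hq2 Fact.out hqp.symm hvo huo (mem_centralizer_iff.1 hv u hu).symm

/-- Singular elements. -/
theorem card_singular_ge (hdvd : p ∣ Nat.card G) (h2 : ¬ p ^ 2 ∣ Nat.card G) :
    Nat.card (Sylow p G) * (p - 1) * cPart p G ≤ {g : G | p ∣ orderOf g}.ncard := by
  classical
  have hp : p.Prime := Fact.out
  obtain ⟨M, hM⟩ := hdvd
  have hpM : ¬ p ∣ M := fun h => h2 (by rw [hM, pow_two]; exact mul_dvd_mul_left p h)
  obtain ⟨a, ha1, ha2⟩ := Nat.chineseRemainder ((hp.coprime_iff_not_dvd).2 hpM) 1 0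
  have hall := card_centralizer_sylow (G := G) (hM ▸ dvd_mul_right p M) h2
  have hS : ∀ Q : Sylow p G, Nonempty (CSplit p Q) := fun Q => exists_csplit Q (hall Q).1
  let S := fun Q => (hS Q).some
  have hV : ∀ Q, Nat.card (S Q).V = cPart p G := fun Q => by
    have h1 := (S Q).card_centralizer
    rw [(hall Q).2.1] at h1
    exact (Nat.eq_of_mul_eq_mul_left hp.pos h1).symm
  have key : ∀ (Q : Sylow p G) (u v : G), u ∈ (Q : Subgroup G) → v ∈ (S Q).V →
      (u * v) ^ a = u ∧ Commute u v := by
    intro Q u v hu hv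
    have hc : Commute u v := mem_centralizer_iff.1 ((S Q).v_mem_centralizer hv) u hu
    have h1 : u ^ a = u := by
      have : orderOf u ∣ p := (hall Q).1 ▸ Subgroup.orderOf_dvd_natCard _ hu
      conv_rhs => rw [← pow_one u]
      exact pow_eq_pow_iff_modEq.2 (ha1.of_dvd this)
    have h3 : v ^ a = 1 := by
      have h4 : orderOf v ∣ M := by
        refine Nat.Coprime.dvd_of_dvd_mul_left ?_ (hM ▸ orderOf_dvd_natCard v)
        refine Nat.Coprime.coprime_dvd_left (Subgroup.orderOf_dvd_natCard _ hv) ?_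
        exact ((hp.coprime_iff_not_dvd).2 (S Q).hcop).symm
      exact orderOf_dvd_iff_pow_eq_one.1 (h4.trans (Nat.modEq_zero_iff_dvd.1 ha2))
    exact ⟨by rw [hc.mul_pow, h1, h3, mul_one], hc⟩
  let T := Σ Q : Sylow p G, {u : ↥(Q : Subgroup G) // u ≠ 1} × ↥(S Q).V
  let f : T → {g : G | p ∣ orderOf g} := fun t =>
    ⟨(t.2.1.1 : G) * (t.2.2 : G), by
      have hd : orderOf (t.2.1.1 : G) ∣ p :=
        (Subgroup.orderOf_dvd_natCard _ t.2.1.1.2).trans (dvd_of_eq (hall t.1).1)
      have hne : orderOf (t.2.1.1 : G) ≠ 1 := fun h =>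
        t.2.1.2 (Subtype.ext (orderOf_eq_one_iff.1 h))
      have h1 := orderOf_pow_dvd (x := (t.2.1.1 : G) * (t.2.2 : G)) a
      rw [(key _ _ _ t.2.1.1.2 t.2.2.2).1, ((Nat.dvd_prime hp).1 hd).resolve_left hne] at h1
      exact h1⟩
  have hf : Function.Injective f := by
    rintro ⟨Q, ⟨u, hu⟩, v⟩ ⟨R, ⟨u', hu'⟩, v'⟩ h
    have h1 : (u : G) * (v : G) = (u' : G) * (v' : G) := congrArg Subtype.val h
    have h3 : (u : G) = (u' : G) := by
      rw [← (key Q u v u.2 v.2).1, h1, (key R u' v' u'.2 v'.2).1]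
    have hQR : Q = R := by
      have hz : ∀ (X : Sylow p G) (w : ↥(X : Subgroup G)), w ≠ 1 →
          zpowers (w : G) = (X : Subgroup G) := by
        intro X w hw
        refine eq_of_le_of_card_ge (zpowers_le.2 w.2) ?_
        have hd : orderOf (w : G) ∣ p :=
          (Subgroup.orderOf_dvd_natCard _ w.2).trans (dvd_of_eq (hall X).1)
        rw [Nat.card_zpowers, (hall X).1, ((Nat.dvd_prime hp).1 hd).resolve_left
          fun h => hw (Subtype.ext (orderOf_eq_one_iff.1 h))]
      exact Sylow.ext (by rw [← hz Q u hu, ← hz R u' hu', h3])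
    subst hQR
    obtain rfl : u = u' := Subtype.ext h3
    obtain rfl : v = v' := Subtype.ext (mul_left_cancel h1)
    rfl
  have hle := Nat.card_le_card_of_injective f hf
  rw [Nat.card_coe_set_eq] at hle
  refine le_trans (le_of_eq ?_) hle
  have := Fintype.ofFinite (Sylow p G)
  have hone : ∀ Q : Sylow p G,
      Nat.card ({u : ↥(Q : Subgroup G) // u ≠ 1} × ↥(S Q).V) = (p - 1) * cPart p G := by
    intro Q
    have := Fintype.ofFinite ↥(Q : Subgroup G)
    rw [Nat.card_prod, hV Q, Nat.card_eq_fintype_card, Fintype.card_subtype_compl,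
      Fintype.card_subtype_eq, ← Nat.card_eq_fintype_card, (hall Q).1]
  rw [Nat.card_sigma, Finset.sum_congr rfl fun Q _ => hone Q, Finset.sum_const, smul_eq_mul,
    Finset.card_univ, Nat.card_eq_fintype_card, mul_assoc]

variable [IsSimpleGroup G]

/-- A prime dividing the centraliser of a Sylow subgroup is at most the number of moved orbits. -/
theorem le_orbits_of_dvd_cPart (hG : ¬ IsMulCommutative G) (hdvd : p ∣ Nat.card G)
    (h2 : ¬ p ^ 2 ∣ Nat.card G) {q : ℕ} (hq : q.Prime) (h : q ∣ cPart p G) :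
    q ≤ (Nat.card (Sylow p G) - 1) / p := by
  classical
  haveI := Fact.mk hq
  have hp : p.Prime := Fact.out
  obtain ⟨P⟩ := (inferInstance : Nonempty (Sylow p G))
  obtain ⟨h1, h3, h5⟩ := card_centralizer_sylow hdvd h2 P
  have hqp : q ≠ p := fun e => h5 (e ▸ h)
  obtain ⟨⟨x, hx⟩, hxo⟩ := exists_prime_orderOf_dvd_card'
    (G := ↥(centralizer ((P : Subgroup G) : Set G))) q (h3 ▸ Dvd.dvd.mul_left h p)
  rw [Subgroup.orderOf_mk] at hxo
  set N := normalizer ((P : Subgroup G) : Set G) with hN
  set X := G ⧸ N with hX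
  set Ω := orbitRel.Quotient ↥(P : Subgroup G) X with hΩ
  let ω₀ : Ω := Quotient.mk'' (QuotientGroup.mk (1 : G))
  have hcard : Nat.card Ω - 1 = (Nat.card (Sylow p G) - 1) / p := by
    rw [← card_orbits P h1, Nat.add_sub_cancel, Nat.mul_div_cancel _ hp.pos]
  rw [← hcard]
  by_contra hlt
  push Not at hlt
  have hxN : x ∈ N := centralizer_le_normalizer _ hx
  have hPbase : ∀ u ∈ (P : Subgroup G),
      u • (QuotientGroup.mk (1 : G) : X) = QuotientGroup.mk (1 : G) := fun u hu => by
    change (QuotientGroup.mk (u * 1) : X) = _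
    rw [QuotientGroup.eq, mul_one, mul_one]
    exact inv_mem (Subgroup.le_normalizer hu)
  have hxbase : ∀ i : ℕ, x ^ i • (QuotientGroup.mk (1 : G) : X) = QuotientGroup.mk (1 : G) :=
    fun i => by
      change (QuotientGroup.mk (x ^ i * 1) : X) = _
      rw [QuotientGroup.eq, mul_one, mul_one]
      exact inv_mem (pow_mem hxN i)
  -- `x` fixes every point
  have hfix : ∀ c : X, x • c = c := by
    intro c
    by_cases hc : c = QuotientGroup.mk (1 : G)
    · subst hc
      have h0 := hxbase 1
      rwa [pow_one] at h0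
    have hne : ∀ i : ℕ, (Quotient.mk'' (x ^ i • c) : Ω) ≠ ω₀ := by
      intro i hi
      obtain ⟨⟨u, hu⟩, hud⟩ := MulAction.orbitRel_apply.1 (Quotient.exact' hi)
      change u • (QuotientGroup.mk (1 : G) : X) = x ^ i • c at hud
      rw [hPbase u hu, ← hxbase i] at hud
      exact hc (smul_left_cancel _ hud).symm
    obtain ⟨i, hi, k, hk, hik, he⟩ : ∃ i, i < q ∧ ∃ k, k < q ∧ i < k ∧
        (Quotient.mk'' (x ^ i • c) : Ω) = Quotient.mk'' (x ^ k • c) := by
      haveI := Fintype.ofFinite Ω
      obtain ⟨i, k, hne', he⟩ := Fintype.exists_ne_map_eq_of_card_lt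
        (fun i : Fin q => (⟨Quotient.mk'' (x ^ (i : ℕ) • c), hne i⟩ : {ω : Ω // ω ≠ ω₀}))
        (by
          rw [Fintype.card_subtype_compl, Fintype.card_subtype_eq, Fintype.card_fin,
            ← Nat.card_eq_fintype_card]
          exact hlt)
      rcases lt_or_gt_of_ne (fun e => hne' (Fin.ext e) : (i : ℕ) ≠ k) with hik | hik
      · exact ⟨i, i.2, k, k.2, hik, congrArg Subtype.val he⟩
      · exact ⟨k, k.2, i, i.2, hik, (congrArg Subtype.val he).symm⟩
    obtain ⟨⟨u, hu⟩, hud⟩ := MulAction.orbitRel_apply.1 (Quotient.exact' he.symm)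
    change u • x ^ i • c = x ^ k • c at hud
    have hcomm : Commute u x := mem_centralizer_iff.1 hx u hu
    set y := x ^ (k - i) with hy
    have hyc : y • c = u • c := by
      rw [← mul_smul, (hcomm.pow_right i).eq, mul_smul,
        show x ^ k = x ^ i * y by rw [hy, ← pow_add, Nat.add_sub_cancel' hik.le], mul_smul] at hud
      exact (smul_left_cancel _ hud).symm
    have hpow : ∀ n : ℕ, y ^ n • c = u ^ n • c := by
      intro n
      induction n with
      | zero => simp
      | succ n ih => rw [pow_succ, mul_smul, hyc, ← mul_smul,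
          ((hcomm.pow_right (k - i)).symm.pow_left n).eq, mul_smul, ih, ← mul_smul, ← pow_succ']
    have hu1 : u = 1 := by
      have h6 := hpow q
      rw [show y ^ q = 1 by rw [hy, ← pow_mul, mul_comm, pow_mul, ← hxo, pow_orderOf_eq_one, one_pow],
        one_smul] at h6
      have h7 : u ^ q = 1 := orbit_injective P h1 hc (pow_mem hu q) h6.symm
      have h8 : orderOf u ∣ p := h1 ▸ Subgroup.orderOf_dvd_natCard _ hu
      exact orderOf_eq_one_iff.1 (Nat.eq_one_of_dvd_coprimes
        ((Nat.coprime_primes hp hq).2 hqp.symm) h8 (orderOf_dvd_iff_pow_eq_one.2 h7))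
    rw [hu1, one_smul] at hyc
    have hmem : x ∈ zpowers y := by
      have hz : zpowers y = zpowers x := by
        refine eq_of_le_of_card_ge (zpowers_le.2 (pow_mem (mem_zpowers x) _)) ?_
        rw [Nat.card_zpowers, Nat.card_zpowers, hy, orderOf_pow, hxo,
          Nat.Coprime.gcd_eq_one ((hq.coprime_iff_not_dvd).2 fun h =>
            absurd (Nat.le_of_dvd (by omega) h) (by omega)), Nat.div_one]
      exact hz ▸ mem_zpowers x
    obtain ⟨n, hn⟩ := (isOfFinOrder_of_finite y).mem_powers_iff_mem_zpowers.mpr hmem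
    have hall' : ∀ n : ℕ, y ^ n • c = c := fun n => by
      induction n with
      | zero => simp
      | succ n ih => rw [pow_succ, mul_smul, hyc, ih]
    rw [← hn]
    exact hall' n
  have hNtop : N ≠ ⊤ := by
    intro h0
    have hn := normal_eq_top (Subgroup.normalizer_eq_top_iff.1 h0) (P.ne_bot_of_dvd_card hdvd)
    have hpr : (Nat.card G).Prime := by
      rw [← Subgroup.card_top (G := G), ← hn, h1]; exact hp
    haveI := Fact.mk hpr
    have := isCyclic_of_prime_card (α := G) rfl
    exact hG ⟨⟨(IsCyclic.commGroup (α := G)).mul_comm⟩⟩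
  have hx1 : x = 1 := toPermHom_injective hNtop (by
    ext c
    simpa using hfix c)
  rw [hx1, orderOf_one] at hxo
  exact hq.ne_one hxo.symm

theorem mem_singOpts (hG : ¬ IsMulCommutative G) {N : ℕ} (hN : Nat.card G = N)
    (hdvd : p ∣ N) (hm : ¬ p ∣ N / p) (hm1 : 1 < N / p) :
    (Nat.card (Sylow p G), cPart p G) ∈ singOpts N p := by
  have hp : p.Prime := Fact.out
  have hmul : N = p * (N / p) := (Nat.mul_div_cancel' hdvd).symm
  have h2 : ¬ p ^ 2 ∣ Nat.card G := by
    rw [hN, pow_two]
    exact fun h => hm (Nat.dvd_div_of_mul_dvd h)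
  have hd : p ∣ Nat.card G := hN ▸ hdvd
  obtain ⟨P⟩ := (inferInstance : Nonempty (Sylow p G))
  obtain ⟨h1, h3, -⟩ := card_centralizer_sylow hd h2 P
  have hn := card_sylow_mem_sylowCands (p := p) (e := 1) (m := N / p) hN
    (by rw [pow_one]; exact hmul) hm one_pos hm1
  obtain ⟨c, e, t, hC, hNP, -, he, het, -⟩ := exists_degreeSolution hG P h1
  have hc : c = cPart p G := Nat.eq_of_mul_eq_mul_left hp.pos (hC.symm.trans h3)
  subst hc
  have h4 := card_normalizer_mul P
  rw [hNP, hN, mul_assoc, mul_assoc] at h4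
  have hk : cPart p G * (e * Nat.card (Sylow p G)) = N / p :=
    Nat.eq_of_mul_eq_mul_left hp.pos (h4.trans hmul)
  have hdiv : N / p / Nat.card (Sylow p G) = cPart p G * e := by
    rw [← hk, ← mul_assoc, Nat.mul_div_cancel _ Nat.card_pos]
  have hc0 : 0 < cPart p G := by
    rcases Nat.eq_zero_or_pos (cPart p G) with h0 | h0
    · rw [h0, zero_mul] at hk; omega
    · exact h0
  simp only [singOpts, List.mem_flatMap, List.mem_map, List.mem_filter, List.mem_range]
  refine ⟨_, hn, cPart p G, ⟨?_, ?_⟩, rfl⟩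
  · rw [hdiv]
    have : cPart p G * 1 ≤ cPart p G * e := Nat.mul_le_mul_left _ (by omega)
    omega
  · simp only [hdiv, Nat.mul_mod_right, Nat.mul_div_cancel_left _ hc0, Bool.and_eq_true, Nat.beq_eq,
      Nat.ble_eq, List.all_eq_true, List.mem_range, Bool.not_eq_true', Bool.and_eq_false_iff]
    refine ⟨trivial, he, by rw [← het]; exact Nat.mul_mod_right e t, fun q _ => ?_⟩
    rw [← Bool.and_eq_false_iff, ← Bool.and_eq_false_iff, Bool.eq_false_iff]
    intro h
    simp only [Bool.and_eq_true, Nat.blt_eq, Nat.beq_eq] at h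
    have := le_orbits_of_dvd_cPart hG hd h2 (prime_of_isPrimeB h.2.2)
      (Nat.dvd_of_mod_eq_zero h.2.1)
    omega

omit [Fact p.Prime] in
/-- The criterion is sound. -/
theorem card_ne_of_singExcluded (hG : ¬ IsMulCommutative G) {N : ℕ} {ps : List ℕ}
    (h : singExcluded N ps = true) : Nat.card G ≠ N := by
  intro hN
  simp only [singExcluded, Bool.and_eq_true, List.all_eq_true, Nat.beq_eq, Bool.not_eq_true',
    Nat.blt_eq, decide_eq_true_eq] at h
  obtain ⟨hps, hnd, hgo⟩ := h
  let Good : ℕ × ℕ × ℕ → Prop := fun x => x.1.Prime ∧ x.1 ∣ Nat.card G ∧ ¬ x.1 ^ 2 ∣ Nat.card G ∧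
    x.2.1 = Nat.card (Sylow x.1 G) ∧ x.2.2 = cPart x.1 G
  have main : ∀ (l : List ℕ) (acc : List (ℕ × ℕ × ℕ)), (∀ p ∈ l, p ∈ ps) → l.Nodup →
      (∀ x ∈ acc, Good x ∧ x.1 ∉ l) → acc.Pairwise (fun x y => x.1 ≠ y.1) →
      singGo N l acc = true → False := by
    intro l
    induction l with
    | nil =>
      intro acc _ _ hgood hpw hgo
      simp only [singGo, Bool.or_eq_true] at hgo
      rcases hgo with hi | hr
      · simp only [singIncons, List.any_eq_true, Bool.and_eq_true, Bool.not_eq_true',
          Nat.beq_eq] at hi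
        obtain ⟨x, hx, y, hy, hxy, h1, h2⟩ := hi
        obtain ⟨⟨hxp, hxd, hx2, -, hxc⟩, -⟩ := hgood x hx
        obtain ⟨⟨hyp, hyd, hy2, -, hyc⟩, -⟩ := hgood y hy
        haveI := Fact.mk hxp
        haveI := Fact.mk hyp
        have hne : x.1 ≠ y.1 := fun e => by
          rw [e, Nat.beq_refl] at hxy; exact Bool.noConfusion hxy
        have hd := dvd_cPart_symm (G := G) hxd hx2 hyd hy2 hne.symm
          (hxc ▸ Nat.dvd_of_mod_eq_zero h1)
        rw [← hyc] at hd
        rw [Nat.mod_eq_zero_of_dvd hd] at h2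
        exact Bool.noConfusion h2
      · have key : ∀ (rest chosen : List (ℕ × ℕ × ℕ)) (t : ℕ), (∀ x ∈ rest, Good x) →
            (∀ x ∈ chosen, Good x) → (rest ++ chosen).Pairwise (fun x y => x.1 ≠ y.1) →
            (∃ S : Set G, t ≤ S.ncard ∧ ∀ g ∈ S, ∃ y ∈ chosen, y.1 ∣ orderOf g) →
            singReach N rest chosen t = true → False := by
          have hfull : ∀ (chosen : List (ℕ × ℕ × ℕ)) (t : ℕ), (∀ x ∈ chosen, Good x) →
              (∃ S : Set G, t ≤ S.ncard ∧ ∀ g ∈ S, ∃ y ∈ chosen, y.1 ∣ orderOf g) → ¬ N ≤ t := by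
            rintro chosen t hc ⟨S, hS, hS'⟩ hle
            have h1 : (1 : G) ∉ S := fun hm => by
              obtain ⟨y, hy, hd⟩ := hS' 1 hm
              rw [orderOf_one] at hd
              exact (hc y hy).1.ne_one (Nat.dvd_one.1 hd)
            have h2 : S.ncard < Nat.card G := by
              rw [← Set.ncard_univ]
              exact Set.ncard_lt_ncard (Set.ssubset_univ_iff.2 fun e => h1 (e ▸ Set.mem_univ _))
            omega
          intro rest
          induction rest with
          | nil =>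
            intro chosen t _ hc _ hS hr
            simp only [singReach, Nat.ble_eq] at hr
            exact hfull chosen t hc hS hr
          | cons x rest ih =>
            intro chosen t hr0 hc hpw' hS hr
            simp only [singReach, Bool.or_eq_true, Bool.and_eq_true, List.all_eq_true,
              Bool.not_eq_true', Nat.ble_eq] at hr
            rw [List.forall_mem_cons] at hr0
            rcases hr with (hle | ⟨hind, hr⟩) | hr
            · exact hfull chosen t hc hS hle
            · refine ih (x :: chosen) _ hr0.2 (List.forall_mem_cons.2 ⟨hr0.1, hc⟩)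
                ((List.pairwise_middle (R := fun a b : ℕ × ℕ × ℕ => a.1 ≠ b.1) (fun {a b} h => Ne.symm h)).2 hpw') ?_ hr
              obtain ⟨S, hSc, hS'⟩ := hS
              obtain ⟨hxp, hxd, hx2, hxn, hxc⟩ := hr0.1
              haveI := Fact.mk hxp
              refine ⟨S ∪ {g : G | x.1 ∣ orderOf g}, ?_, ?_⟩
              · rw [Set.ncard_union_eq]
                · have := card_singular_ge (G := G) hxd hx2
                  rw [← hxn, ← hxc] at this
                  omega
                · rw [Set.disjoint_left]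
                  intro g hg hgx
                  obtain ⟨y, hy, hyd⟩ := hS' g hg
                  have hne : y.1 ≠ x.1 := by
                    rw [List.pairwise_append] at hpw'
                    exact (hpw'.2.2 x List.mem_cons_self y hy).symm
                  have hd := dvd_cPart_of_dvd_orderOf (G := G) hxd hx2 (hc y hy).1 hne hgx hyd
                  rw [← hxc] at hd
                  have := hind y hy
                  rw [Nat.mod_eq_zero_of_dvd hd] at this
                  exact Bool.noConfusion this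
              · rintro g (hg | hg)
                · obtain ⟨y, hy, hyd⟩ := hS' g hg
                  exact ⟨y, List.mem_cons_of_mem _ hy, hyd⟩
                · exact ⟨x, List.mem_cons_self, hg⟩
            · exact ih chosen t hr0.2 hc
                (hpw'.sublist (List.sublist_cons_self x _)) hS hr
        exact key acc [] 0 (fun x hx => (hgood x hx).1) (by simp) (by simpa using hpw)
          ⟨∅, by simp, by simp⟩ hr
    | cons p l ih =>
      intro acc hl hnd hgood hpw hgo
      simp only [singGo, List.all_eq_true] at hgo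
      obtain ⟨hpB, hpN, hpm, hm1⟩ := hps p (hl p List.mem_cons_self)
      have hp := prime_of_isPrimeB hpB
      haveI := Fact.mk hp
      have hdvd : p ∣ N := Nat.dvd_of_mod_eq_zero hpN
      have hm : ¬ p ∣ N / p := fun hd => by
        rw [Nat.mod_eq_zero_of_dvd hd] at hpm; exact Bool.noConfusion hpm
      have h2 : ¬ p ^ 2 ∣ Nat.card G := by
        rw [hN, pow_two]; exact fun h => hm (Nat.dvd_div_of_mul_dvd h)
      rw [List.nodup_cons] at hnd
      refine ih ((p, Nat.card (Sylow p G), cPart p G) :: acc)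
        (fun q hq => hl q (List.mem_cons_of_mem _ hq)) hnd.2 ?_ ?_
        (hgo _ (mem_singOpts hG hN hdvd hm hm1))
      · rw [List.forall_mem_cons]
        exact ⟨⟨⟨hp, hN ▸ hdvd, h2, rfl, rfl⟩, hnd.1⟩, fun x hx =>
          ⟨(hgood x hx).1, fun h => (hgood x hx).2 (List.mem_cons_of_mem _ h)⟩⟩
      · rw [List.pairwise_cons]
        exact ⟨fun x hx e => (hgood x hx).2 (by rw [show x.1 = p from e.symm]; exact List.mem_cons_self),
          hpw⟩
  exact main ps [] (fun p hp => hp) hnd (by simp) List.Pairwise.nil hgo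

end CfsgLib.SmallOrder
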