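import Cfsg.Agent.Lib.SmallOrder.PrincipalCongr

/-!
The values of the characters of non-zero weight on the `p'`-part `V` of the centraliser of a Sylow subgroup
of prime order, and the resulting lower bounds for their degrees.
-/

set_option autoImplicit false

namespace CfsgLib.SmallOrder

open Subgroup

universe u

/-- The lower bound for the degrees, as a function of the order `c` of `V`. -/
def degBound (p c : ℕ) : ℕ :=
  if c % 2 == 0 then 2 * p + 1 else if c % 3 == 0 && p % 3 == 2 then 2 * p else
    if Nat.blt 1 c then p else 0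

variable {G : Type u} [Group G]

/-- Eigenvalues of a non-trivial element in a non-principal irreducible character of a simple group. -/
theorem exists_eigen_data [Fintype G] [IsSimpleGroup G] (hG : ¬ IsMulCommutative G)
    {χ : Cfsg.IrrCharacter G} (hχ : χ ≠ Char.principalIrr) {g : G} (hg : g ≠ 1) {r : ℕ}
    (hr : g ^ r = 1) :
    ∃ μ : Fin (Char.degree χ.1) → ℂ, (∀ i, μ i ^ r = 1) ∧
      (∀ k : ℕ, χ.1 (g ^ k) = ∑ i, μ i ^ k) ∧ ∏ i, μ i = 1 ∧ ¬ ∃ ω, ∀ i, μ i = ω := by
  classical
  obtain ⟨n, ρ, hρ, hχρ⟩ := χ.2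
  have hdeg : Char.degree χ.1 = Module.finrank ℂ (Fin n → ℂ) := by
    rw [← hχρ, Char.degree_character]
  obtain ⟨b, μ, hμ, hb⟩ := Char.exists_eigenbasis ρ g
  have hpow : ∀ (k : ℕ) i, ρ (g ^ k) (b i) = μ i ^ k • b i := by
    intro k i
    induction k with
    | zero => simp
    | succ k ih => rw [pow_succ', map_mul, Module.End.mul_apply, ih, map_smul, hb, smul_smul, pow_succ]
  have hker : MonoidHom.ker ρ = ⊥ := by
    refine (MonoidHom.normal_ker ρ).eq_bot_or_eq_top.resolve_right fun h => hχ ?_
    have htriv : ∀ x, ρ x = 1 := fun x => MonoidHom.mem_ker.1 (h ▸ mem_top x)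
    apply Subtype.ext
    funext x
    rw [Char.principalIrr_apply, ← hχρ]
    change LinearMap.trace ℂ (Fin n → ℂ) (ρ x) = 1
    rw [htriv x, LinearMap.trace_one, CharKernel.finrank_eq_one_of_trivial ρ htriv, Nat.cast_one]
  rw [hdeg]
  refine ⟨μ, fun i => ?_, fun k => ?_, ?_, ?_⟩
  · have h := hpow r i
    rw [hr, map_one, Module.End.one_apply] at h
    have h2 : (1 : ℂ) • b i = μ i ^ r • b i := by simpa using h
    exact (smul_left_injective ℂ (b.ne_zero i) h2).symm
  · rw [← hχρ]
    exact Char.trace_eq_sum_of_eigenbasis _ b _ (hpow k)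
  · let δ : G →* ℂˣ := MonoidHom.toHomUnits ((LinearMap.det).comp ρ)
    have hδ : δ = 1 := by
      refine (injective_or_eq_one δ).resolve_left fun hinj => hG ?_
      exact ⟨⟨fun x y => hinj (by rw [map_mul, map_mul, mul_comm])⟩⟩
    have hd : LinearMap.det (ρ g) = 1 := by
      have h := congrArg Units.val (DFunLike.congr_fun hδ g)
      simpa [δ] using h
    have hm : LinearMap.toMatrix b b (ρ g) = Matrix.diagonal μ := by
      ext i j
      rw [LinearMap.toMatrix_apply, hb, Matrix.diagonal_apply]
      by_cases hij : i = j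
      · subst hij; simp
      · simp [hij, Ne.symm hij]
    rw [← Matrix.det_diagonal, ← hm, LinearMap.det_toMatrix, hd]
  · rintro ⟨ω, hω⟩
    have hc : g ∈ Subgroup.center G := by
      refine Subgroup.mem_center_iff.2 fun x => ?_
      have hs : ρ g = ω • (LinearMap.id : (Fin n → ℂ) →ₗ[ℂ] (Fin n → ℂ)) :=
        b.ext fun i => by rw [hb, hω]; simp
      have h1 : ρ (x * g * (g * x)⁻¹) = 1 := by
        have : ρ (x * g) = ρ (g * x) := by
          rw [map_mul, map_mul, hs]
          exact LinearMap.ext fun w => by simp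
        rw [map_mul, this, ← map_mul, mul_inv_cancel, map_one]
      have h2 : x * g * (g * x)⁻¹ ∈ MonoidHom.ker ρ := MonoidHom.mem_ker.2 h1
      rw [hker, Subgroup.mem_bot, mul_inv_eq_one] at h2
      exact h2
    rw [center_eq_bot_of_not_comm hG, Subgroup.mem_bot] at hc
    exact hg hc

/-- The value of a non-principal character at an involution. -/
theorem exists_involution_value [Fintype G] [IsSimpleGroup G] (hG : ¬ IsMulCommutative G)
    {χ : Cfsg.IrrCharacter G} (hχ : χ ≠ Char.principalIrr) {g : G} (hg : g ≠ 1) (hg2 : g ^ 2 = 1) :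
    ∃ m : ℕ, Even m ∧ 0 < m ∧ m < Char.degree χ.1 ∧
      χ.1 g = (((Char.degree χ.1 : ℤ) - 2 * m : ℤ) : ℂ) := by
  classical
  obtain ⟨μ, hμ, hval, hprod, hns⟩ := exists_eigen_data hG hχ hg hg2
  set F := Finset.univ.filter fun i => μ i ≠ 1 with hF
  have hcase : ∀ i, μ i = 1 ∨ μ i = -1 := fun i => sq_eq_one_iff.1 (hμ i)
  have hm1 : ∀ i ∈ F, μ i = -1 := fun i hi => (hcase i).resolve_left (Finset.mem_filter.1 hi).2
  refine ⟨F.card, ?_, ?_, ?_, ?_⟩
  · have h : ∏ i, μ i = (-1 : ℂ) ^ F.card := by
      rw [← Finset.prod_filter_mul_prod_filter_not Finset.univ (fun i => μ i ≠ 1),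
        Finset.prod_congr rfl hm1, Finset.prod_const,
        Finset.prod_eq_one (s := Finset.univ.filter fun i => ¬ μ i ≠ 1) (fun i hi => by
          simpa using (Finset.mem_filter.1 hi).2), mul_one]
    rw [hprod] at h
    exact (neg_one_pow_eq_one_iff_even (by norm_num)).1 h.symm
  · refine Nat.pos_of_ne_zero fun h0 => hns ⟨1, fun i => ?_⟩
    by_contra hi
    rw [Finset.card_eq_zero] at h0
    have : i ∈ F := Finset.mem_filter.2 ⟨Finset.mem_univ i, hi⟩
    simp [h0] at this
  · refine lt_of_le_of_ne ((Finset.card_le_univ F).trans_eq (Fintype.card_fin _)) fun h0 => ?_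
    refine hns ⟨-1, fun i => hm1 i ?_⟩
    rw [Finset.eq_univ_of_card F (h0.trans (Fintype.card_fin _).symm)]
    exact Finset.mem_univ i
  · have h := hval 1
    simp only [pow_one] at h
    rw [h, Finset.sum_congr rfl (g := fun i => (1 : ℂ) - if μ i ≠ 1 then 2 else 0) (fun i _ => by
      rcases hcase i with h1 | h1 <;> rw [h1] <;> norm_num)]
    rw [Finset.sum_sub_distrib, ← Finset.sum_filter, Finset.sum_const, Finset.sum_const,
      Finset.card_univ, Fintype.card_fin, ← hF]
    push_cast
    simp [mul_comm]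

namespace CSplit

variable [Fintype G] [IsSimpleGroup G] {p : ℕ} [Fact p.Prime] {P : Sylow p G} (S : CSplit p P)

/-- Lower bound for the degree of a non-principal character of weight prime to `p`. -/
theorem degBound_le (hG : ¬ IsMulCommutative G) {χ : Cfsg.IrrCharacter G}
    (hχ : χ ≠ Char.principalIrr) (hM : ¬ p ∣ S.tmult χ) :
    degBound p (Nat.card S.V) ≤ Char.degree χ.1 := by
  classical
  have hp : p.Prime := Fact.out
  obtain ⟨M, hM'⟩ := Char.exists_pModular hp
  have hmax := Blocks.isMaximal_of_isPModular hM'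
  have hchar : CharP (Blocks.ResField M) p :=
    Blocks.charP_resField hp (Blocks.natCast_mem_of_isPModular hM')
  let red : Cfsg.AlgInt →+* Blocks.ResField M := Ideal.Quotient.mk M
  have key : ∀ r : ℕ, r.Prime → r ∣ Nat.card S.V →
      ∃ μ : Fin (Char.degree χ.1) → ℂ, (∀ i, μ i ^ r = 1) ∧ ∏ i, μ i = 1 ∧
        (¬ ∃ ω, ∀ i, μ i = ω) ∧ ∃ y : Fin (Char.degree χ.1) → Blocks.ResField M,
          (∀ i, y i ^ r = 1) ∧ (∀ i, y i = 1 ↔ μ i = 1) ∧
          (∀ i, ∀ z : Cfsg.AlgInt, (z : ℂ) = μ i → red z = y i) ∧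
          ∀ k : ℕ, ∑ i, y i ^ k = (Char.degree χ.1 : Blocks.ResField M) := by
    intro r hr hrc
    have : Fact r.Prime := ⟨hr⟩
    obtain ⟨⟨v, hv⟩, hord⟩ := exists_prime_orderOf_dvd_card' r hrc
    rw [Subgroup.orderOf_mk] at hord
    have hv1 : v ≠ 1 := fun h => hr.ne_one (by rw [← hord, h, orderOf_one])
    obtain ⟨μ, hμ, hval, hprod, hns⟩ := exists_eigen_data hG hχ hv1 (hord ▸ pow_orderOf_eq_one v)
    have hint : ∀ i, IsIntegral ℤ (μ i) := fun i =>
      ⟨Polynomial.X ^ r - 1, Polynomial.monic_X_pow_sub_C 1 hr.ne_zero, by simp [hμ i]⟩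
    let x : Fin (Char.degree χ.1) → Cfsg.AlgInt := fun i => ⟨μ i, hint i⟩
    have hxr : ∀ i, x i ^ r = 1 := fun i => Subtype.ext (by simp [x, hμ i])
    refine ⟨μ, hμ, hprod, hns, fun i => red (x i), fun i => by rw [← map_pow, hxr, map_one],
      fun i => ⟨fun (h : red (x i) = 1) => ?_, fun h => ?_⟩, fun i z hz => by
        rw [show z = x i from Subtype.ext hz], fun k => ?_⟩
    · by_contra hne
      have h0 : ∑ j ∈ Finset.range r, x i ^ j = 0 := by
        apply Subtype.ext
        push_cast
        simp only [x]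
        rw [geom_sum_eq hne, hμ, sub_self, zero_div]
      have h1 := congrArg red h0
      rw [map_sum, map_zero, Finset.sum_congr rfl (g := fun _ => (1 : Blocks.ResField M))
        (fun j _ => by rw [map_pow, h, one_pow]), Finset.sum_const, Finset.card_range, nsmul_one,
        CharP.cast_eq_zero_iff _ p] at h1
      exact S.hcop (h1.trans hrc)
    · change red (x i) = 1
      rw [show x i = 1 from Subtype.ext (by simp [x, h]), map_one]
    · have hT : ∀ k : ℕ, ∑ i, red (x i) ^ k = (S.tmult χ : Blocks.ResField M) := by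
        intro k
        rw [← S.red_value χ hM hM' (pow_mem hv k) (∑ i, x i ^ k) (by
          push_cast
          simp only [x]
          exact (hval k).symm), map_sum]
        exact Finset.sum_congr rfl fun i _ => (map_pow _ _ _).symm
      rw [hT k, ← hT 0]
      simp
  -- the number of eigenvalues different from `1` is a positive multiple of `p`
  have hone : ∀ r : ℕ, r.Prime → r ∣ Nat.card S.V →
      ∀ (μ : Fin (Char.degree χ.1) → ℂ) (y : Fin (Char.degree χ.1) → Blocks.ResField M),
        (∀ i, y i ^ r = 1) → (∀ i, y i = 1 ↔ μ i = 1) →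
        (∀ k : ℕ, ∑ i, y i ^ k = (Char.degree χ.1 : Blocks.ResField M)) →
        p ∣ (Finset.univ.filter fun i => μ i ≠ 1).card := by
    intro r hr hrc μ y hy hy1 hsum
    have h : ∑ i, ∑ k ∈ Finset.range r, y i ^ k =
        (r : Blocks.ResField M) * (Char.degree χ.1 : Blocks.ResField M) := by
      rw [Finset.sum_comm, Finset.sum_congr rfl (fun k _ => hsum k), Finset.sum_const,
        Finset.card_range, nsmul_eq_mul]
    have h' : ∑ i, ∑ k ∈ Finset.range r, y i ^ k =
        ∑ i, ((r : Blocks.ResField M) - if μ i ≠ 1 then (r : Blocks.ResField M) else 0) := by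
      refine Finset.sum_congr rfl fun i _ => ?_
      by_cases hi : μ i = 1
      · simp [hi, (hy1 i).2 hi]
      · rw [geom_sum_eq (fun h0 => hi ((hy1 i).1 h0)), hy, sub_self, zero_div, if_pos hi, sub_self]
    rw [h', Finset.sum_sub_distrib, ← Finset.sum_filter, Finset.sum_const, Finset.sum_const,
      Finset.card_univ, Fintype.card_fin, nsmul_eq_mul, nsmul_eq_mul, sub_eq_iff_eq_add,
      mul_comm (r : Blocks.ResField M)] at h
    have h0 : ((Finset.univ.filter fun i => μ i ≠ 1).card : Blocks.ResField M) * r = 0 :=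
      left_eq_add.1 h
    rw [← Nat.cast_mul, CharP.cast_eq_zero_iff _ p] at h0
    exact (hp.dvd_mul.1 h0).resolve_right fun hpr => S.hcop (hpr.trans hrc)
  unfold degBound
  simp only [beq_iff_eq, Bool.and_eq_true, Nat.blt_eq]
  split_ifs with h2 h3 h1
  · obtain ⟨μ, hμ, hprod, hns, y, hy, hy1, -, hsum⟩ := key 2 Nat.prime_two (Nat.dvd_of_mod_eq_zero h2)
    have hd := hone 2 Nat.prime_two (Nat.dvd_of_mod_eq_zero h2) μ y hy hy1 hsum
    set F := Finset.univ.filter fun i => μ i ≠ 1 with hF
    have hm1 : ∀ i ∈ F, μ i = -1 := fun i hi =>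
      (sq_eq_one_iff.1 (hμ i)).resolve_left (Finset.mem_filter.1 hi).2
    have heven : Even F.card := by
      have h : ∏ i, μ i = (-1 : ℂ) ^ F.card := by
        rw [← Finset.prod_filter_mul_prod_filter_not Finset.univ (fun i => μ i ≠ 1),
          Finset.prod_congr rfl hm1, Finset.prod_const,
          Finset.prod_eq_one (s := Finset.univ.filter fun i => ¬ μ i ≠ 1) (fun i hi => by
            simpa using (Finset.mem_filter.1 hi).2), mul_one]
      rw [hprod] at h
      exact (neg_one_pow_eq_one_iff_even (by norm_num)).1 h.symm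
    have hp2 : ¬ p ∣ 2 := fun h => S.hcop (h.trans (Nat.dvd_of_mod_eq_zero h2))
    obtain ⟨a, ha⟩ := hd
    have hae : Even a := by
      have hev := ha ▸ heven
      exact (Nat.even_mul.1 hev).resolve_left fun hpe =>
        hp2 (by rw [← (Nat.prime_dvd_prime_iff_eq Nat.prime_two hp).1 hpe.two_dvd])
    have ha0 : a ≠ 0 := fun h0 => hns ⟨1, fun i => by
      by_contra hi
      have hmem : i ∈ F := Finset.mem_filter.2 ⟨Finset.mem_univ i, hi⟩
      rw [Finset.card_eq_zero.1 (show F.card = 0 by rw [ha, h0, mul_zero])] at hmem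
      simp at hmem⟩
    have hlt : F.card < Char.degree χ.1 := by
      refine lt_of_le_of_ne ((Finset.card_le_univ F).trans_eq (Fintype.card_fin _)) fun h0 => ?_
      refine hns ⟨-1, fun i => hm1 i ?_⟩
      rw [Finset.eq_univ_of_card F (h0.trans (Fintype.card_fin _).symm)]
      exact Finset.mem_univ i
    obtain ⟨a', rfl⟩ := hae
    have : p * 2 ≤ p * (a' + a') := Nat.mul_le_mul_left p (by omega)
    omega
  · obtain ⟨hc3, hp3⟩ := h3
    obtain ⟨μ, hμ, hprod, hns, y, hy, hy1, hyz, hsum⟩ :=
      key 3 Nat.prime_three (Nat.dvd_of_mod_eq_zero hc3)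
    obtain ⟨ω, hω⟩ := HasEnoughRootsOfUnity.exists_primitiveRoot ℂ 3
    have hω3 : ω ^ 3 = 1 := hω.pow_eq_one
    have hω1 : ω ≠ 1 := hω.ne_one (by norm_num)
    have hω2 : ω ^ 2 ≠ 1 := hω.pow_ne_one_of_pos_of_lt (by norm_num) (by norm_num)
    have hcase : ∀ i, μ i = 1 ∨ μ i = ω ∨ μ i = ω ^ 2 := by
      intro i
      obtain ⟨j, hj, hji⟩ := hω.eq_pow_of_pow_eq_one (hμ i)
      interval_cases j <;> simp [← hji]
    set F1 := Finset.univ.filter fun i => μ i = ω with hF1
    set F2 := Finset.univ.filter fun i => μ i = ω ^ 2 with hF2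
    let wz : Cfsg.AlgInt := ⟨ω,
      ⟨Polynomial.X ^ 3 - 1, Polynomial.monic_X_pow_sub_C 1 (by norm_num), by simp [hω3]⟩⟩
    let w := red wz
    have hw3 : w ^ 3 = 1 := by
      rw [← map_pow, show wz ^ 3 = 1 from Subtype.ext (by simp [wz, hω3]), map_one]
    have hyF : ∀ i, y i = if μ i = ω then w else if μ i = ω ^ 2 then w ^ 2 else 1 := by
      intro i
      rcases hcase i with h | h | h
      · rw [if_neg (by rw [h]; exact Ne.symm hω1), if_neg (by rw [h]; exact Ne.symm hω2), (hy1 i).2 h]
      · rw [if_pos h, ← hyz i wz h.symm]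
      · have hne : μ i ≠ ω := by
          rw [h]
          intro h'
          apply hω1
          rw [pow_two] at h'
          exact (mul_eq_left₀ (hω.ne_zero (by norm_num))).1 h'
        rw [if_neg hne, if_pos h, ← hyz i (wz ^ 2) (by push_cast; exact h.symm), map_pow]
    have hwne : F1.Nonempty ∨ F2.Nonempty → w ≠ 1 ∧ w ^ 2 ≠ 1 := by
      intro hF
      have hw1 : w ≠ 1 := by
        intro hw
        rcases hF with ⟨i, hi⟩ | ⟨i, hi⟩
        · have hi' := (Finset.mem_filter.1 hi).2
          exact hω1 (hi' ▸ (hy1 i).1 (by rw [hyF, if_pos hi', hw]))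
        · have hi' := (Finset.mem_filter.1 hi).2
          refine hω2 (hi' ▸ (hy1 i).1 ?_)
          rw [hyF, if_pos hi', hw]
          split_ifs <;> simp
      refine ⟨hw1, fun h => hw1 ?_⟩
      calc w = w ^ 2 * w := by rw [h, one_mul]
        _ = 1 := by rw [← pow_succ, hw3]
    have hne12 : F1.Nonempty ∨ F2.Nonempty := by
      by_contra hcon
      push Not at hcon
      refine hns ⟨1, fun i => ?_⟩
      rcases hcase i with h | h | h
      · exact h
      · exact absurd (show i ∈ F1 from Finset.mem_filter.2 ⟨Finset.mem_univ i, h⟩) (by simp [hcon.1])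
      · exact absurd (show i ∈ F2 from Finset.mem_filter.2 ⟨Finset.mem_univ i, h⟩) (by simp [hcon.2])
    obtain ⟨hw1, hw2⟩ := hwne hne12
    have hlin : (F1.card : Blocks.ResField M) * (w - 1) + (F2.card : Blocks.ResField M) * (w ^ 2 - 1) =
        0 := by
      have h := hsum 1
      simp only [pow_one] at h
      rw [Finset.sum_congr rfl (g := fun i => (1 : Blocks.ResField M) +
        ((if μ i = ω then w - 1 else 0) + if μ i = ω ^ 2 then w ^ 2 - 1 else 0)) (fun i _ => by
          rw [hyF]
          rcases hcase i with h | h | h <;> rw [h]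
          · simp [Ne.symm hω1, Ne.symm hω2]
          · have : ω ≠ ω ^ 2 := fun h' => hω1 (by
              rw [pow_two] at h'
              exact (mul_eq_left₀ (hω.ne_zero (by norm_num))).1 h'.symm)
            simp [this]
          · have : ω ^ 2 ≠ ω := fun h' => hω1 (by
              rw [pow_two] at h'
              exact (mul_eq_left₀ (hω.ne_zero (by norm_num))).1 h')
            simp [this]), Finset.sum_add_distrib, Finset.sum_add_distrib, ← Finset.sum_filter,
        ← Finset.sum_filter, ← hF1, ← hF2, Finset.sum_const, Finset.sum_const, Finset.sum_const,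
        Finset.card_univ, Fintype.card_fin, nsmul_one, nsmul_eq_mul, nsmul_eq_mul] at h
      exact add_eq_left.1 h
    have hrel : (F1.card : Blocks.ResField M) = (F2.card : Blocks.ResField M) * w ^ 2 := by
      have h1 : (w - 1) * (1 + w + w ^ 2) = 0 := by
        linear_combination hw3
      have h2 : (1 + w + w ^ 2 : Blocks.ResField M) = 0 :=
        (mul_eq_zero.1 h1).resolve_left (sub_ne_zero.2 hw1)
      apply mul_right_cancel₀ (sub_ne_zero.2 hw1)
      linear_combination hlin - (F2.card : Blocks.ResField M) * (w - 1) * h2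
    have hcube : (F1.card : ZMod p) ^ 3 = (F2.card : ZMod p) ^ 3 := by
      have h : ((F1.card ^ 3 : ℕ) : Blocks.ResField M) = ((F2.card ^ 3 : ℕ) : Blocks.ResField M) := by
        push_cast
        rw [hrel, mul_pow, ← pow_mul, show w ^ (2 * 3) = (w ^ 3) ^ 2 by ring, hw3, one_pow, mul_one]
      rw [CharP.natCast_eq_natCast _ p] at h
      have := (ZMod.natCast_eq_natCast_iff _ _ _).2 h
      push_cast at this
      exact this
    have hroot : ∀ a : ZMod p, a = (a ^ 3) ^ ((2 * p - 1) / 3) := by
      intro a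
      have he : 3 * ((2 * p - 1) / 3) = p + (p - 1) := by
        have := hp.two_le
        omega
      rw [← pow_mul, he, pow_add, ZMod.pow_card, ← pow_succ', Nat.sub_add_cancel hp.one_le,
        ZMod.pow_card]
    have heq : (F1.card : Blocks.ResField M) = (F2.card : Blocks.ResField M) := by
      have h : (F1.card : ZMod p) = (F2.card : ZMod p) := by
        rw [hroot (F1.card : ZMod p), hcube, ← hroot]
      rw [CharP.natCast_eq_natCast _ p]
      exact (ZMod.natCast_eq_natCast_iff _ _ _).1 h
    have hz2 : (F2.card : Blocks.ResField M) = 0 := by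
      rw [heq] at hrel
      by_contra h0
      exact hw2 ((mul_eq_left₀ h0).1 hrel.symm)
    obtain ⟨a2, ha2⟩ := (CharP.cast_eq_zero_iff _ p _).1 hz2
    obtain ⟨a1, ha1⟩ := (CharP.cast_eq_zero_iff _ p _).1 (heq.trans hz2)
    have hdvd : 3 ∣ F1.card + 2 * F2.card := by
      rw [← hω.pow_eq_one_iff_dvd, ← hprod, pow_add, pow_mul]
      rw [Finset.prod_congr rfl (g := fun i => (if μ i = ω then ω else 1) *
        if μ i = ω ^ 2 then ω ^ 2 else 1) (fun i _ => by
          rcases hcase i with h | h | h <;> rw [h]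
          · simp [Ne.symm hω1, Ne.symm hω2]
          · have : ω ≠ ω ^ 2 := fun h' => hω1 (by
              rw [pow_two] at h'
              exact (mul_eq_left₀ (hω.ne_zero (by norm_num))).1 h'.symm)
            simp [this]
          · have : ω ^ 2 ≠ ω := fun h' => hω1 (by
              rw [pow_two] at h'
              exact (mul_eq_left₀ (hω.ne_zero (by norm_num))).1 h')
            simp [this]), Finset.prod_mul_distrib, ← Finset.prod_filter, ← Finset.prod_filter,
        ← hF1, ← hF2, Finset.prod_const, Finset.prod_const]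
    have hle : F1.card + F2.card ≤ Char.degree χ.1 := by
      rw [← Finset.card_union_of_disjoint]
      · exact (Finset.card_le_univ _).trans_eq (Fintype.card_fin _)
      · rw [Finset.disjoint_left]
        intro i hi hi'
        apply hω1
        have h := (Finset.mem_filter.1 hi).2.symm.trans (Finset.mem_filter.1 hi').2
        rw [pow_two] at h
        exact (mul_eq_left₀ (hω.ne_zero (by norm_num))).1 h.symm
    have hnd : ¬ 3 ∣ p := by omega
    have hpos : 0 < F1.card + F2.card := by
      rcases hne12 with h | h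
      · exact Nat.add_pos_left h.card_pos _
      · exact Nat.add_pos_right _ h.card_pos
    rw [ha1, ha2] at hdvd hle hpos
    have hd' : 3 ∣ a1 + 2 * a2 := by
      rw [show p * a1 + 2 * (p * a2) = p * (a1 + 2 * a2) by ring] at hdvd
      exact ((Nat.Prime.coprime_iff_not_dvd Nat.prime_three).2 hnd).dvd_of_dvd_mul_left hdvd
    rw [← mul_add] at hle hpos
    have h2le : 2 ≤ a1 + a2 := by
      have := Nat.pos_of_mul_pos_left hpos
      omega
    have := Nat.mul_le_mul_left p h2le
    omega
  · obtain ⟨r, hr, hrc⟩ := Nat.exists_prime_and_dvd (n := Nat.card S.V) (by omega)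
    obtain ⟨μ, hμ, hprod, hns, y, hy, hy1, -, hsum⟩ := key r hr hrc
    have hd := hone r hr hrc μ y hy hy1 hsum
    have hpos : 0 < (Finset.univ.filter fun i => μ i ≠ 1).card := by
      refine Nat.pos_of_ne_zero fun h0 => hns ⟨1, fun i => ?_⟩
      by_contra hi
      have hmem : i ∈ Finset.univ.filter fun i => μ i ≠ 1 :=
        Finset.mem_filter.2 ⟨Finset.mem_univ i, hi⟩
      rw [Finset.card_eq_zero.1 h0] at hmem
      simp at hmem
    exact (Nat.le_of_dvd hpos hd).trans ((Finset.card_le_univ _).trans_eq (Fintype.card_fin _))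
  · omega

end CSplit

end CfsgLib.SmallOrder
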