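import Cfsg.Agent.Lib.SmallOrder.DegreeCheck
import Mathlib.NumberTheory.Divisors
import Mathlib.Tactic.NormNum.Prime

/-!
Exclusion of orders of simple groups by one prime dividing the order exactly once.
-/

set_option autoImplicit false

namespace CfsgLib.SmallOrder

open Subgroup

/-- factorial by structural recursion, for kernel evaluation -/
def fct : ℕ → ℕ
  | 0 => 1
  | n + 1 => (n + 1) * fct n

theorem fct_eq : ∀ n, fct n = n.factorial
  | 0 => rfl
  | n + 1 => by rw [fct, fct_eq n, Nat.factorial_succ]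

/-- admissible numbers of Sylow `p`-subgroups for a simple group of order `N = p ^ _ * m` -/
def sylowCands (N p m : ℕ) : List ℕ :=
  (List.range (m + 1)).filter fun n =>
    Nat.beq (m % n) 0 && Nat.beq (n % p) 1 && Nat.blt 1 n &&
      (Nat.blt 20 n || Nat.beq (fct n % (2 * N)) 0)

theorem card_sylow_mem_sylowCands {G : Type*} [Group G] [Finite G] [IsSimpleGroup G] {p : ℕ}
    [Fact p.Prime] {e m N : ℕ} (hN : Nat.card G = N) (hG : N = p ^ e * m) (hm : ¬ p ∣ m) (he : 0 < e)
    (hm1 : 1 < m) : Nat.card (Sylow p G) ∈ sylowCands N p m := by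
  obtain ⟨h1, h2, h3, h4⟩ := card_sylow_facts (hN.trans hG) hm he hm1
  rw [hN] at h4
  refine List.mem_filter.2 ⟨List.mem_range.2 (Nat.lt_succ_of_le (Nat.le_of_dvd (by omega) h1)), ?_⟩
  simp [Nat.mod_eq_zero_of_dvd h1, h2, h3, fct_eq, Nat.mod_eq_zero_of_dvd h4, Nat.blt_eq]

/-- no structure of the normaliser of a Sylow `p`-subgroup admits a solution of the degree equation -/
def blockExcluded (N p m R : ℕ) : Bool :=
  (sylowCands N p m).all fun n =>
    (List.range (m / n + 1)).all fun c =>
      !(Nat.beq (m / n % c) 0 && Nat.ble 2 (m / n / c) && Nat.beq ((p - 1) % (m / n / c)) 0) ||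
        noDegree N p (m / n / c) ((p - 1) / (m / n / c)) R

/-- the orders excluded by `blockExcluded` -/
theorem card_ne_of_blockExcluded {G : Type*} [Group G] [Finite G] [IsSimpleGroup G] {N : ℕ} (p m R : ℕ)
    (hp : p.Prime) (hN : N = p * m) (hm : ¬ p ∣ m) (hm1 : 1 < m)
    (h : blockExcluded N p m R = true) : Nat.card G ≠ N := by
  intro hcard
  have : Fact p.Prime := ⟨hp⟩
  have hG : ¬ IsMulCommutative G :=
    not_comm_of_not_prime (by rw [hcard, hN]; exact Nat.not_prime_mul hp.ne_one (by omega))
  obtain ⟨P⟩ := (inferInstance : Nonempty (Sylow p G))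
  have hP : Nat.card ↥(P : Subgroup G) = p := by
    simpa using card_sylow_eq (e := 1) (m := m) (by rw [hcard, hN, pow_one]) hm P
  have hn := card_sylow_mem_sylowCands (p := p) (e := 1) (m := m) hcard (by rw [hN, pow_one]) hm
    one_pos hm1
  obtain ⟨c, e, t, hC, hNP, -, he, het, hsol⟩ := exists_degreeSolution hG P hP
  have hmul := card_normalizer_mul P
  rw [hNP, hcard, hN, mul_assoc, mul_assoc] at hmul
  have hk : c * (e * Nat.card (Sylow p G)) = m := Nat.eq_of_mul_eq_mul_left hp.pos hmul
  have hdiv : m / Nat.card (Sylow p G) = c * e := by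
    rw [← hk, ← mul_assoc, Nat.mul_div_cancel _ Nat.card_pos]
  have hc0 : 0 < c := by
    rcases Nat.eq_zero_or_pos c with h0 | h0
    · rw [h0, zero_mul] at hk; omega
    · exact h0
  have hrange : c ∈ List.range (m / Nat.card (Sylow p G) + 1) := by
    rw [hdiv, List.mem_range]
    have : c * 1 ≤ c * e := Nat.mul_le_mul_left c (by omega)
    omega
  have hall := List.all_eq_true.1 (List.all_eq_true.1 h _ hn) c hrange
  have hep : (p - 1) % e = 0 := by rw [← het]; exact Nat.mul_mod_right e t
  have ht : (p - 1) / e = t := by rw [← het, Nat.mul_div_cancel_left _ (by omega)]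
  rw [hdiv, Nat.mul_div_cancel_left _ hc0, Nat.mul_mod_right, hep, ht] at hall
  have hb : Nat.ble 2 e = true := Nat.ble_eq.mpr he
  simp [hb] at hall
  have ht1 : 1 ≤ t := by
    rcases Nat.eq_zero_or_pos t with h0 | h0
    · rw [h0, mul_zero] at het
      have := hp.two_le
      omega
    · exact h0
  exact (isEmpty_degreeSolution (R := R) ht1 he hall).false (hcard ▸ hsol.some)

end CfsgLib.SmallOrder
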