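import Cfsg.Agent.Lib.SmallOrder.InvolutionCount

/-!
For `C(P) = P`: an involution inverting `P` has trace on the fixed space of `P` only.
-/

set_option autoImplicit false

namespace CfsgLib.SmallOrder.CSplit

open Subgroup

universe u

variable {G : Type u} [Group G] [Fintype G] {p : ℕ} [Fact p.Prime] {P : Sylow p G} (S : CSplit p P)

theorem sum_rmult (χ : Cfsg.IrrCharacter G) :
    ∑ j : ZMod p, S.rmult χ j = (Nat.card S.act.range : ℤ) * ∑ᶠ o : S.Orb, S.vec χ o := by
  classical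
  have := Fintype.ofFinite S.Orb
  have h2 : ∑ j : ZMod p, S.rmult χ j = ∑ u : (ZMod p)ˣ, S.rmult χ (u : ZMod p) := by
    rw [← Finset.add_sum_erase _ _ (Finset.mem_univ (0 : ZMod p))]
    have h0 : S.rmult χ 0 = 0 := by simp [rmult]
    rw [h0, zero_add]
    refine Finset.sum_bij' (fun j hj => Units.mk0 j (Finset.mem_erase.1 hj).1)
      (fun u _ => (u : ZMod p)) (fun j hj => Finset.mem_univ _)
      (fun u _ => Finset.mem_erase.2 ⟨Units.ne_zero u, Finset.mem_univ _⟩)
      (fun j hj => rfl) (fun u _ => Units.ext rfl) (fun j hj => rfl)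
  rw [h2, finsum_eq_sum_of_fintype]
  simp only [S.rmult_eq_vec]
  rw [Fintype.sum_equiv (Subgroup.groupEquivQuotientProdSubgroup (s := S.act.range))
    (fun u => S.vec χ (QuotientGroup.mk u)) (fun x => S.vec χ x.1) (fun u => rfl),
    Fintype.sum_prod_type, Finset.mul_sum]
  simp [Nat.card_eq_fintype_card]

theorem abs_value_le (hV : Nat.card S.V = 1) (hp2 : p ≠ 2) {t : G} (ht : t ^ 2 = 1)
    (hinv : t * S.z * t⁻¹ = zpw S.z (-1 : ZMod p)) (χ : Cfsg.IrrCharacter G) {b : ℤ}
    (hb : χ.1 t = (b : ℂ)) :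
    (p : ℤ) * |b| ≤ (Char.degree χ.1 : ℤ) - (Nat.card S.act.range : ℤ) * ∑ᶠ o : S.Orb, S.vec χ o := by
  classical
  have hp : p.Prime := Fact.out
  have : Fintype S.V := Fintype.ofFinite _
  have : Subsingleton S.V := (Nat.card_eq_one_iff_unique.1 hV).1
  have hS : ∀ i : ZMod p, S.Ssum χ.1 i = χ.1 (zpw S.z i) := fun i => by
    rw [Ssum, finsum_eq_sum_of_fintype, Fintype.sum_subsingleton _ (1 : S.V), OneMemClass.coe_one, mul_one]
  have hdeg : (Char.degree χ.1 : ℤ) - (Nat.card S.act.range : ℤ) * ∑ᶠ o : S.Orb, S.vec χ o =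
      (p : ℤ) * S.mult χ 0 := by
    rw [← S.sum_rmult]
    simp only [rmult, Finset.sum_sub_distrib, Finset.sum_const, Finset.card_univ, ZMod.card,
      nsmul_eq_mul]
    have h := S.sum_mult χ
    rw [hV, Nat.cast_one, one_mul, hS, zpw_zero,
      ← Char.IsCharacter.degree_cast (Char.IsIrrCharacter.isCharacter χ.2)] at h
    rw [← Nat.cast_sum, Nat.cast_injective h]
    ring
  rw [hdeg]
  suffices |b| ≤ (S.mult χ 0 : ℤ) from mul_le_mul_of_nonneg_left this (by positivity)
  obtain ⟨n, ρ, hρ, hχρ⟩ := χ.2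
  let A : Module.End ℂ (Fin n → ℂ) := ∑ i : ZMod p, ρ (zpw S.z i)
  have hp0 : (p : ℂ) ≠ 0 := Nat.cast_ne_zero.2 hp.ne_zero
  have hAA : A * A = (p : ℂ) • A := by
    simp only [A, Finset.sum_mul, Finset.mul_sum, ← map_mul, ← zpw_add S.hz]
    refine (Finset.sum_congr rfl (g := fun _ => ∑ i : ZMod p, ρ (zpw S.z i)) (fun i _ =>
      Fintype.sum_equiv (Equiv.addRight i) _ _ (fun j => rfl))).trans ?_
    rw [Finset.sum_const, Finset.card_univ,
      ZMod.card, Nat.cast_smul_eq_nsmul]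
  have hconj : ∀ i : ZMod p, t * zpw S.z i * t⁻¹ = zpw S.z (-i) := fun i => by
    rw [S.conj_zpw hinv i, neg_one_mul]
  have hTA : ρ t * A = A * ρ t := by
    simp only [A, Finset.sum_mul, Finset.mul_sum, ← map_mul]
    refine Fintype.sum_equiv (Equiv.neg (ZMod p)) _ _ fun i => ?_
    rw [Equiv.neg_apply, ← hconj i]
    simp [mul_assoc]
  have htt : ρ t * ρ t = 1 := by rw [← map_mul, ← pow_two, ht, map_one]
  have htrA : LinearMap.trace ℂ _ A = (p : ℂ) * S.mult χ 0 := by
    have h := S.mult_spec χ 0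
    simp only [hV, Nat.cast_one, mul_one, hS, zero_mul, neg_zero, AddChar.map_zero_eq_one] at h
    rw [h]
    simp only [A, map_sum, ← hχρ]
    rfl
  have htrT : LinearMap.trace ℂ _ (ρ t * A) = (p : ℂ) * (b : ℂ) := by
    simp only [A, Finset.mul_sum, ← map_mul, map_sum]
    rw [Finset.sum_congr rfl (g := fun _ => (b : ℂ)) (fun i _ => ?_), Finset.sum_const,
      Finset.card_univ, ZMod.card, nsmul_eq_mul]
    change ρ.character (t * zpw S.z i) = (b : ℂ)
    have h2 : (2 : ZMod p) ≠ 0 := by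
      intro h
      apply hp2
      exact (Nat.prime_dvd_prime_iff_eq hp Nat.prime_two).1
        ((ZMod.natCast_eq_zero_iff 2 p).1 (by exact_mod_cast h))
    set j : ZMod p := -i / 2 with hj
    have hcj : zpw S.z j * t * (zpw S.z j)⁻¹ = t * zpw S.z i := by
      have h1 : t * zpw S.z (-j) * t⁻¹ = zpw S.z j := by rw [hconj, neg_neg]
      have h3 : (zpw S.z j)⁻¹ = zpw S.z (-j) := inv_eq_of_mul_eq_one_right (by
        rw [← zpw_add S.hz, add_neg_cancel, zpw_zero])
      conv_lhs => rw [← h1]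
      rw [show t * zpw S.z (-j) * t⁻¹ * t * (t * zpw S.z (-j) * t⁻¹)⁻¹ =
        t * zpw S.z (-j) * (t * (zpw S.z (-j))⁻¹ * t⁻¹) by group, show t * (zpw S.z (-j))⁻¹ * t⁻¹ =
          zpw S.z (-j) by
        rw [inv_eq_of_mul_eq_one_right (show zpw S.z (-j) * zpw S.z j = 1 by
          rw [← zpw_add S.hz, neg_add_cancel, zpw_zero]), hconj], mul_assoc, ← zpw_add S.hz]
      congr 2
      rw [hj]
      field_simp
      ring
    rw [← hcj, ρ.char_conj, ← hb, ← hχρ]
  have key : ∀ s : ℂ, s * s = 1 → ∃ r : ℕ, (S.mult χ 0 : ℂ) + s * (b : ℂ) = 2 * r := by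
    intro s hs
    let Q : Module.End ℂ (Fin n → ℂ) := (1 / (2 * (p : ℂ))) • (A + s • (ρ t * A))
    have hQ : IsIdempotentElem Q := by
      have e1 : ρ t * A * A = (p : ℂ) • (ρ t * A) := by rw [mul_assoc, hAA, mul_smul_comm]
      have e2 : A * (ρ t * A) = (p : ℂ) • (ρ t * A) := by rw [← mul_assoc, ← hTA, e1]
      have e3 : ρ t * A * (ρ t * A) = (p : ℂ) • A := by
        calc ρ t * A * (ρ t * A) = ρ t * (A * ρ t) * A := by simp only [mul_assoc]
          _ = ρ t * (ρ t * A) * A := by rw [hTA]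
          _ = _ := by rw [← mul_assoc, htt, one_mul, hAA]
      unfold IsIdempotentElem
      simp only [Q, smul_mul_assoc, mul_smul_comm, add_mul, mul_add, hAA, e1, e2, e3, smul_add, smul_smul]
      match_scalars
      · field_simp
        linear_combination hs
      · field_simp
        ring
    refine ⟨Module.finrank ℂ (LinearMap.range Q), ?_⟩
    have h := (LinearMap.IsIdempotentElem.isProj_range Q hQ).trace
    simp only [Q, map_smul, map_add, htrA, htrT, smul_eq_mul] at h
    rw [← h]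
    field_simp
  obtain ⟨r1, hr1⟩ := key 1 (one_mul 1)
  obtain ⟨r2, hr2⟩ := key (-1) (by ring)
  have e1 : (S.mult χ 0 : ℤ) + b = 2 * r1 := by
    apply Int.cast_injective (α := ℂ)
    push_cast
    linear_combination hr1
  have e2 : (S.mult χ 0 : ℤ) - b = 2 * r2 := by
    apply Int.cast_injective (α := ℂ)
    push_cast
    linear_combination hr2
  rw [abs_le]
  omega

end CfsgLib.SmallOrder.CSplit
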