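import Cfsg.Agent.Lib.SmallOrder.RefinedCheck
import Cfsg.Agent.Lib.SmallOrder.InvolutionBound
import Cfsg.Agent.Lib.SmallOrder.Exclude

/-!
The refined exclusion of orders by one prime dividing the order exactly once.
-/

set_option autoImplicit false

namespace CfsgLib.SmallOrder

open Subgroup

universe u

variable {G : Type u} [Group G]

namespace CSplit

variable [Finite G] {p : ℕ} [Fact p.Prime] {P : Sylow p G} (S : CSplit p P)

/-- `V` permutes the regular orbits of `P` faithfully. -/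
theorem card_dvd_factorial_orbits [IsSimpleGroup G] (hP : Nat.card ↥(P : Subgroup G) = p)
    (hN : normalizer ((P : Subgroup G) : Set G) ≠ ⊤) :
    Nat.card S.V ∣ (((Nat.card (Sylow p G)) - 1) / p).factorial := by
  classical
  set Q := ↥(P : Subgroup G) with hQ
  set X := G ⧸ normalizer ((P : Subgroup G) : Set G) with hX
  have := Fintype.ofFinite (MulAction.orbitRel.Quotient Q X)
  let x₀ : X := QuotientGroup.mk (1 : G)
  let ω₀ : MulAction.orbitRel.Quotient Q X := Quotient.mk'' x₀
  have hcomm : ∀ (v : S.V) (u : Q), (v : G) * (u : G) = (u : G) * (v : G) := fun v u =>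
    (Subgroup.mem_centralizer_iff.1 (S.v_mem_centralizer v.2) u u.2).symm
  let act : S.V → MulAction.orbitRel.Quotient Q X → MulAction.orbitRel.Quotient Q X := fun v =>
    Quotient.map' (fun c => (v : G) • c) (by
      intro a b hab
      obtain ⟨u, hu⟩ := MulAction.orbitRel_apply.1 hab
      refine MulAction.orbitRel_apply.2 ⟨u, ?_⟩
      change (u : G) • b = a at hu
      change (u : G) • (v : G) • b = (v : G) • a
      rw [← hu, ← mul_smul, ← mul_smul, hcomm])
  let inst : MulAction S.V (MulAction.orbitRel.Quotient Q X) :=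
    { smul := act
      one_smul := fun ω => by
        induction ω using Quotient.inductionOn' with
        | h c => exact congrArg Quotient.mk'' (one_smul G c)
      mul_smul := fun v w ω => by
        induction ω using Quotient.inductionOn' with
        | h c => exact congrArg Quotient.mk'' (mul_smul (v : G) (w : G) c) }
  have hsmul : ∀ (v : S.V) (c : X),
      (v • (Quotient.mk'' c : MulAction.orbitRel.Quotient Q X)) = Quotient.mk'' ((v : G) • c) :=
    fun v c => rfl
  have hbase : ∀ v : S.V, v • ω₀ = ω₀ := by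
    intro v
    change Quotient.mk'' ((v : G) • x₀) = Quotient.mk'' x₀
    congr 1
    change (QuotientGroup.mk ((v : G) * 1) : X) = QuotientGroup.mk (1 : G)
    rw [QuotientGroup.eq, mul_one, mul_one]
    exact inv_mem (centralizer_le_normalizer _ (S.v_mem_centralizer v.2))
  have hinj : Function.Injective
      (MulAction.toPermHom S.V (MulAction.orbitRel.Quotient Q X)) := by
    refine (injective_iff_map_eq_one _).2 fun v hv => ?_
    have hv' : ∀ c : X, ∃ u : Q, (u : G) • c = (v : G) • c := by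
      intro c
      have h := Equiv.ext_iff.1 hv (Quotient.mk'' c)
      change v • (Quotient.mk'' c : MulAction.orbitRel.Quotient Q X) = Quotient.mk'' c at h
      rw [hsmul] at h
      obtain ⟨u, hu⟩ := MulAction.orbitRel_apply.1 (Quotient.exact' h)
      exact ⟨u, hu⟩
    have hfix : ∀ c : X, ((v : G) ^ p) • c = c := by
      intro c
      obtain ⟨u, hu⟩ := hv' c
      have hk : ∀ k : ℕ, ((v : G) ^ k) • c = ((u : G) ^ k) • c := by
        intro k
        induction k with
        | zero => simp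
        | succ k ih =>
          rw [pow_succ, mul_smul, ← hu, ← mul_smul,
            (show Commute (v : G) (u : G) from hcomm v u).pow_left k |>.eq, mul_smul, ih,
            ← mul_smul, ← pow_succ']
      rw [hk, show (u : G) ^ p = 1 from
        orderOf_dvd_iff_pow_eq_one.1 ((Subgroup.orderOf_dvd_natCard _ u.2).trans (dvd_of_eq hP)), one_smul]
    have hvp : (v : G) ^ p = 1 := by
      have h : MulAction.toPermHom G X ((v : G) ^ p) = MulAction.toPermHom G X 1 := by
        rw [map_one]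
        exact Equiv.ext hfix
      exact toPermHom_injective hN h
    apply Subtype.ext
    apply orderOf_eq_one_iff.1
    exact Nat.eq_one_of_dvd_coprimes S.coprime (orderOf_dvd_of_pow_eq_one hvp)
      (Subgroup.orderOf_dvd_natCard _ v.2)
  let Ω := {ω : MulAction.orbitRel.Quotient Q X // ω ≠ ω₀}
  let f : S.V →* Equiv.Perm Ω := MonoidHom.mk'
    (fun v => (MulAction.toPermHom S.V (MulAction.orbitRel.Quotient Q X) v).subtypePerm fun ω => by
      change v • ω ≠ ω₀ ↔ ω ≠ ω₀
      constructor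
      · intro h h'; exact h (by rw [h', hbase])
      · intro h h'
        apply h
        rw [← hbase v] at h'
        exact MulAction.injective v h')
    (fun v w => Equiv.ext fun ω => Subtype.ext (mul_smul v w ω.1))
  have hf : Function.Injective f := by
    refine (injective_iff_map_eq_one f).2 fun v hv => hinj ?_
    rw [map_one]
    refine Equiv.ext fun ω => ?_
    by_cases h : ω = ω₀
    · subst h; exact hbase v
    · exact congrArg Subtype.val (Equiv.ext_iff.1 hv ⟨ω, h⟩)
  have hcard : Nat.card Ω = (Nat.card (Sylow p G) - 1) / p := by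
    have h : (Nat.card (MulAction.orbitRel.Quotient Q X) - 1) * p + 1 = Nat.card (Sylow p G) :=
      card_orbits P hP
    rw [← h, Nat.add_sub_cancel, Nat.mul_div_cancel _ (Fact.out : p.Prime).pos]
    have h2 : Nat.card Ω + 1 = Nat.card (MulAction.orbitRel.Quotient Q X) := by
      rw [Nat.card_eq_fintype_card, Nat.card_eq_fintype_card]
      change Fintype.card {ω : MulAction.orbitRel.Quotient Q X // ω ≠ ω₀} + 1 = _
      have hpos : 0 < Fintype.card (MulAction.orbitRel.Quotient Q X) := Fintype.card_pos_iff.2 ⟨ω₀⟩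
      rw [Fintype.card_subtype_compl, Fintype.card_subtype_eq]
      omega
    omega
  rw [← hcard, ← Nat.card_perm]
  exact Subgroup.card_dvd_of_injective f hf

/-- Two relations give a successful search. -/
theorem search_of_relations [Fintype G] [IsSimpleGroup G] (hG : ¬ IsMulCommutative G) {t : ℕ}
    (B : S.BlockSolution t) {y : G} (hy1 : y ≠ 1) (hy2 : y ^ 2 = 1) (T : ℕ)
    (hlin : ∀ o : S.Orb, ∑ χ : Cfsg.IrrCharacter G, χ.1 y * (S.vec χ o : ℂ) = 0)
    (hquad : ∀ o : S.Orb, ∑ χ : Cfsg.IrrCharacter G, χ.1 y ^ 2 / χ.1 1 * (S.vec χ o : ℂ) =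
      -((T : ℂ) / (Nat.card G : ℂ)))
    (g0 : ℤ → Bool) (g : ℤ × ℕ → ℤ → Bool)
    (hg0 : ∀ z : ℤ, B.χ0.1 y = (z : ℂ) → g0 z = true)
    (hg : ∀ x ∈ B.χs, ∀ z : ℤ, x.2.1 y = (z : ℂ) → g (x.1, Char.degree x.2.1) z = true)
    (ok : ℤ → Bool) (hok : ok (-(T : ℤ)) = true) :
    ((bVals B.sol.f0).any fun b => g0 b && valSearch (Nat.card G) g B.sol.l
      (-1 + ((t : ℤ) * B.sol.k + B.sol.ε) * b)
      (-(Nat.card G : ℤ) + ((t : ℤ) * B.sol.k + B.sol.ε) * b * b * ((Nat.card G / B.sol.f0 : ℕ) : ℤ))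
      ok) = true := by
  classical
  have hval : ∀ χ : Cfsg.IrrCharacter G, ∃ b : ℤ, χ ≠ Char.principalIrr →
      b ∈ bVals (Char.degree χ.1) ∧ χ.1 y = (b : ℂ) := by
    intro χ
    by_cases hχ : χ = Char.principalIrr
    · exact ⟨0, fun h => absurd hχ h⟩
    · obtain ⟨m, hm, hm0, hmlt, hv⟩ := exists_involution_value hG hχ hy1 hy2
      exact ⟨_, fun _ => ⟨mem_bVals hm hm0 hmlt, hv⟩⟩
  choose b hb using hval
  have hb0 := hb B.χ0 (B.good _ (Or.inl rfl)).1
  have hbl : ∀ x ∈ B.χs, b x.2 ∈ bVals (Char.degree x.2.1) ∧ x.2.1 y = (b x.2 : ℂ) := fun x hx =>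
    hb x.2 (B.good x.2 (Or.inr (List.mem_map.2 ⟨x, hx, rfl⟩))).1
  let tr : List ((ℤ × ℕ) × ℤ) := B.χs.map fun x => ((x.1, Char.degree x.2.1), b x.2)
  have htr : tr.map Prod.fst = B.sol.l := by
    simp [tr, B.hl, List.map_map, Function.comp_def]
  simp only [List.any_eq_true, Bool.and_eq_true]
  refine ⟨b B.χ0, B.hf0.symm ▸ hb0.1, hg0 _ hb0.2, ?_⟩
  rw [← htr]
  refine valSearch_spec _ _ _ tr _ _ ?_ ?_ ?_
  · intro x hx
    obtain ⟨w, hw, rfl⟩ := List.mem_map.1 hx
    exact ⟨(hbl w hw).1, hg w hw _ (hbl w hw).2⟩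
  · have h := B.linear (fun χ => χ.1 y) 0 hlin
    have hone : (Char.principalIrr : Cfsg.IrrCharacter G).1 y = 1 := Char.principalIrr_apply y
    rw [hone, hb0.2, List.map_congr_left (g := fun x : ℤ × Cfsg.IrrCharacter G => ((x.1 * b x.2 : ℤ) : ℂ))
      (fun x hx => by rw [(hbl x hx).2]; push_cast; rfl)] at h
    rw [show (B.χs.map fun x => ((x.1 * b x.2 : ℤ) : ℂ)) = (B.χs.map fun x => x.1 * b x.2).map
      (fun z : ℤ => (z : ℂ)) by rw [List.map_map]; rfl, ← Int.cast_list_sum] at h
    simp only [tr, List.map_map, Function.comp_def]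
    have h' : ((-1 + (B.χs.map fun x => x.1 * b x.2).sum + ((t : ℤ) * B.sol.k + B.sol.ε) * b B.χ0 : ℤ) : ℂ)
        = ((0 : ℤ) : ℂ) := by push_cast at h ⊢; exact h
    have := Int.cast_injective h'
    linarith
  · set N := Nat.card G with hN
    have h := B.linear (fun χ => χ.1 y ^ 2 / χ.1 1) _ hquad
    have hone : ∀ x : G, (Char.principalIrr : Cfsg.IrrCharacter G).1 x = 1 := fun x =>
      Char.principalIrr_apply x
    have hterm : ∀ (χ : Cfsg.IrrCharacter G) (z : ℤ) (w : ℂ), χ.1 y = (z : ℂ) →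
        (N : ℂ) * (w * (χ.1 y ^ 2 / χ.1 1)) =
          w * ((z : ℂ) * (z : ℂ) * ((N / Char.degree χ.1 : ℕ) : ℂ)) := by
      intro χ z w hz
      have hd := Char.IsIrrCharacter.degree_pos χ.2
      rw [← Char.IsCharacter.degree_cast (Char.IsIrrCharacter.isCharacter χ.2), hz,
        hN, Nat.cast_div (degree_dvd_card χ) (Nat.cast_ne_zero.2 hd.ne')]
      field_simp
    have h' := congrArg (fun z : ℂ => (N : ℂ) * z) h
    simp only [mul_add, hone, one_pow, div_one, mul_neg, mul_one] at h'
    rw [hterm B.χ0 (b B.χ0) _ hb0.2, ← List.sum_map_mul_left,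
      List.map_congr_left (g := fun x : ℤ × Cfsg.IrrCharacter G =>
        (((x.1 * b x.2 * b x.2 * ((N / Char.degree x.2.1 : ℕ) : ℤ)) : ℤ) : ℂ))
      (fun x hx => by
        rw [hterm x.2 (b x.2) _ (hbl x hx).2]
        simp only [Int.cast_mul, Int.cast_natCast]
        ring)] at h'
    rw [show (B.χs.map fun x => (((x.1 * b x.2 * b x.2 * ((N / Char.degree x.2.1 : ℕ) : ℤ)) : ℤ) : ℂ))
      = (B.χs.map fun x => x.1 * b x.2 * b x.2 * ((N / Char.degree x.2.1 : ℕ) : ℤ)).map
      (fun z : ℤ => (z : ℂ)) by rw [List.map_map]; rfl, ← Int.cast_list_sum] at h'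
    have hN0 : (N : ℂ) ≠ 0 := Nat.cast_ne_zero.2 Nat.card_pos.ne'
    rw [mul_div_cancel₀ _ hN0] at h'
    refine Eq.trans (congrArg ok ?_) hok
    simp only [tr, List.map_map, Function.comp_def]
    rw [B.hf0]
    apply Int.cast_injective (α := ℂ)
    simp only [Int.cast_add, Int.cast_mul, Int.cast_neg, Int.cast_natCast] at h' ⊢
    linear_combination h'

end CSplit

/-- The solution found by the block theory passes the refined test. -/
theorem exists_refined [Finite G] [IsSimpleGroup G] (hG : ¬ IsMulCommutative G) {p : ℕ} [Fact p.Prime]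
    (P : Sylow p G) (hP : Nat.card ↥(P : Subgroup G) = p) :
    ∃ c e, Nat.card ↥(centralizer ((P : Subgroup G) : Set G)) = p * c ∧
      Nat.card ↥(normalizer ((P : Subgroup G) : Set G)) = p * c * e ∧ 2 ≤ e ∧ (p - 1) % e = 0 ∧
      c ∣ ((Nat.card (Sylow p G) - 1) / p).factorial ∧
      ∀ R : ℕ, noSolution (Nat.card G) p c e ((p - 1) / e) (Nat.card (Sylow p G)) R = false := by
  classical
  cases nonempty_fintype G
  have hp : p.Prime := Fact.out
  obtain ⟨c₀, e₀, t₀, hC₀, hN₀, -, he₀, het₀, -⟩ := exists_degreeSolution hG P hP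
  obtain ⟨S⟩ := exists_csplit P hP
  have hc₀ : Nat.card S.V = c₀ := by
    have := S.card_centralizer
    rw [hC₀] at this
    exact (Nat.eq_of_mul_eq_mul_left hp.pos this).symm
  subst hc₀
  have he₁ : Nat.card S.act.range = e₀ := by
    have := S.card_normalizer
    rw [hN₀] at this
    exact (Nat.eq_of_mul_eq_mul_left (Nat.mul_pos hp.pos Nat.card_pos) this).symm
  subst he₁
  have hNtop : normalizer ((P : Subgroup G) : Set G) ≠ ⊤ := by
    refine normalizer_ne_top (hP ▸ Subgroup.card_subgroup_dvd_card _) (fun Q hQ => ?_) P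
    have hQc : Nat.card ↥(Q : Subgroup G) = p := by
      rw [Q.card_eq_multiplicity, ← P.card_eq_multiplicity, hP]
    rw [hQ, Subgroup.card_top] at hQc
    have := isCyclic_of_prime_card hQc
    exact hG ⟨⟨(IsCyclic.commGroup (α := G)).mul_comm⟩⟩
  refine ⟨Nat.card S.V, Nat.card S.act.range, hC₀, hN₀, he₀, ?_,
    S.card_dvd_factorial_orbits hP hNtop, fun R => ?_⟩
  · rw [← het₀]; exact Nat.mul_mod_right _ _
  have ht : (p - 1) / Nat.card S.act.range = t₀ := by
    rw [← het₀, Nat.mul_div_cancel_left _ Nat.card_pos]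
  rw [ht]
  have ht1 : 1 ≤ t₀ := by
    rcases Nat.eq_zero_or_pos t₀ with h | h
    · rw [h, mul_zero] at het₀
      have := hp.two_le
      omega
    · exact h
  obtain ⟨B⟩ := S.exists_blockSolution het₀ he₀
  rw [Bool.eq_false_iff]
  intro h
  refine noSolution_false B.sol ht1 he₀ ?_ ?_ B.hone ?_ h
  · exact max_le B.sol.f0_le (B.hf0 ▸
      S.degBound_le hG (B.good _ (Or.inl rfl)).1 (B.good _ (Or.inl rfl)).2)
  · intro x hx
    refine max_le (B.sol.others x hx).2.1 ?_
    rw [B.hl, List.mem_map] at hx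
    obtain ⟨y, hy, rfl⟩ := hx
    have hg := B.good y.2 (Or.inr (List.mem_map.2 ⟨y, hy, rfl⟩))
    exact S.degBound_le hG hg.1 hg.2
  by_cases hpar : Nat.card S.V % 2 = 0 ∨ Nat.card S.act.range % 2 = 1
  · unfold solTest
    simp only [Bool.or_eq_true, Nat.beq_eq]
    exact Or.inl hpar
  push Not at hpar
  obtain ⟨t, ht1', ht2, htz, hall, k, hDk, hk1, hk4, hkb, hlin, hquad⟩ := S.exists_involution_relations hG
    hP (by omega) (Nat.dvd_of_mod_eq_zero (by omega))
  have hp2 : p ≠ 2 := by
    intro h2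
    have := Nat.le_mul_of_pos_right (Nat.card S.act.range) (Nat.lt_of_lt_of_le Nat.one_pos ht1)
    omega
  set N := Nat.card G with hN
  set n := Nat.card (Sylow p G) with hn
  set c := Nat.card S.V with hc
  set e := Nat.card S.act.range with he
  have hn0 : (n : ℂ) ≠ 0 := Nat.cast_ne_zero.2 Nat.card_pos.ne'
  have hNn : N = p * c * e * n := by
    rw [hN, hn, hc, he, ← S.card_normalizer]; exact (card_normalizer_mul P).symm
  have hquad' : ∀ o : S.Orb, ∑ χ : Cfsg.IrrCharacter G, χ.1 t ^ 2 / χ.1 1 * (S.vec χ o : ℂ) =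
      -(((p * c * e * e * k * k : ℕ) : ℂ) / (N : ℂ)) := by
    intro o
    rw [hquad o, hNn]
    congr 1
    have hp0 : (p : ℂ) ≠ 0 := Nat.cast_ne_zero.2 hp.ne_zero
    have hc0 : (c : ℂ) ≠ 0 := Nat.cast_ne_zero.2 Nat.card_pos.ne'
    have he0 : (e : ℂ) ≠ 0 := Nat.cast_ne_zero.2 Nat.card_pos.ne'
    push_cast
    field_simp
  have hbound : ∀ (χ : Cfsg.IrrCharacter G) (W z : ℤ), (∑ᶠ o : S.Orb, S.vec χ o) = W → χ.1 t = (z : ℂ) →
      boundOK p c e W (Char.degree χ.1) z = true := by
    intro χ W z hW hχt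
    by_cases hc1 : c = 1
    · have h := S.abs_value_le hc1 hp2 ht2 htz χ hχt
      rw [hW] at h
      simp only [boundOK, Bool.or_eq_true, decide_eq_true_eq]
      right
      push_cast
      exact h
    · simp only [boundOK, Bool.or_eq_true, Bool.not_eq_true']
      left
      rw [Bool.eq_false_iff]
      intro h
      exact hc1 (Nat.beq_eq.mp h)
  have hk : k < (n - 1) / p + 2 ∧ Nat.blt 0 k = true ∧ Nat.beq (k % 4) (n % 4) = true := by
    have h1 : k - 1 ≤ (n - 1) / p := (Nat.le_div_iff_mul_le hp.pos).2 (by omega)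
    exact ⟨by omega, by simp [Nat.blt_eq]; omega, by simp [hk4]⟩
  have hsearch : ∀ ok : ℤ → Bool, ok (-((p * c * e * e * k * k : ℕ) : ℤ)) = true →
      tSearch N p c e n t₀ ((t₀ : ℤ) * B.sol.k + B.sol.ε) B.sol.f0 B.sol.l ok = true := fun ok hok =>
    S.search_of_relations hG B ht1' ht2 _ hlin hquad' _ _
      (fun z hz => B.hf0.symm ▸ hbound B.χ0 _ z B.hsum0 hz)
      (fun x hx z hz => hbound x.2 _ z (B.hsum x hx) hz) ok hok
  unfold solTest
  simp only [Bool.or_eq_true]
  by_cases hcl : ∀ y : G, y ≠ 1 → y ^ 2 = 1 → IsConj t y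
  · refine Or.inr (Or.inl (hsearch _ ?_))
    simp only [invTargetStrict, List.any_eq_true, List.mem_range, Bool.and_eq_true, decide_eq_true_eq]
    refine ⟨k, hk.1, ⟨⟨hk.2.1, hk.2.2⟩, Nat.beq_eq.mpr (Nat.mod_eq_zero_of_dvd ?_)⟩, rfl⟩
    obtain ⟨j, -, hj⟩ := (Nat.dvd_prime_pow Nat.prime_two).1 (Nat.gcd_dvd_right N (2 ^ 64))
    rw [hj]
    have hdN : 2 ^ j ∣ N := hj ▸ Nat.gcd_dvd_left N (2 ^ 64)
    rcases Nat.eq_zero_or_pos j with rfl | hj0
    · simp
    have : Fact (Nat.Prime 2) := ⟨Nat.prime_two⟩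
    obtain ⟨T⟩ := (inferInstance : Nonempty (Sylow 2 G))
    have hTd : 2 ^ j ∣ Nat.card ↥(T : Subgroup G) := T.pow_dvd_card_of_pow_dvd_card hdN
    have hTnt : Nontrivial ↥(T : Subgroup G) := (Subgroup.nontrivial_iff_ne_bot _).2
      (T.ne_bot_of_dvd_card ((dvd_pow_self 2 hj0.ne').trans hdN))
    have hcn := T.2.center_nontrivial
    obtain ⟨z, hz⟩ := exists_prime_orderOf_dvd_card' (G := Subgroup.center ↥(T : Subgroup G)) 2 (by
      obtain ⟨i, hi⟩ := IsPGroup.iff_card.1 (T.2.to_subgroup (Subgroup.center ↥(T : Subgroup G)))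
      rcases Nat.eq_zero_or_pos i with rfl | hi0
      · rw [pow_zero] at hi
        exact absurd hi Finite.one_lt_card.ne'
      · rw [hi]; exact dvd_pow_self 2 hi0.ne')
    set z' : G := ((z : ↥(T : Subgroup G)) : G) with hz'
    have hz'o : orderOf z' = 2 := by rw [hz', Subgroup.orderOf_coe, Subgroup.orderOf_coe, hz]
    obtain ⟨a, ha⟩ := isConj_iff.1 (hcl z' (fun h => by rw [h, orderOf_one] at hz'o; omega)
      (hz'o ▸ pow_orderOf_eq_one z'))
    have hle : (T : Subgroup G) ≤ centralizer ({z'} : Set G) := fun x hx =>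
      Subgroup.mem_centralizer_singleton_iff.2
        (congrArg Subtype.val (Subgroup.mem_center_iff.1 z.2 ⟨x, hx⟩))
    have hcard : Nat.card ↥(centralizer ({z'} : Set G)) = Nat.card ↥(centralizer ({t} : Set G)) := by
      rw [← ha]
      refine (Nat.card_congr ((MulAut.conj a).toEquiv.subtypeEquiv fun u => ?_)).symm
      simp only [Subgroup.mem_centralizer_singleton_iff, MulEquiv.toEquiv_eq_coe, MulEquiv.coe_toEquiv]
      exact (Commute.conj_iff a).symm
    have h2 : 2 ^ j ∣ k * e * c := by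
      refine hTd.trans ((Subgroup.card_dvd_of_le hle).trans ?_)
      rw [hcard]
      exact hDk.trans (dvd_of_eq (by ring))
    exact ((Nat.Coprime.pow_left j ((Nat.Prime.coprime_iff_not_dvd Nat.prime_two).2 (by omega))).dvd_of_dvd_mul_right h2)
  · push Not at hcl
    obtain ⟨y, hy1, hy2, hyt⟩ := hcl
    have hrel := fun o => S.other_involution_relations hp2 hy1 hy2 (fun s hs hsy => hyt (by
      obtain ⟨a, ha⟩ := isConj_iff.1 hsy
      refine (hall s hs ?_ ?_).trans hsy.symm
      · rw [← ha, Ne, conj_eq_one_iff]; exact hy1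
      · rw [← ha, conj_pow, hy2]; group)) o
    refine Or.inr (Or.inr (Bool.and_eq_true_iff.2 ⟨?_, hsearch _ ?_⟩))
    · exact S.search_of_relations hG B hy1 hy2 0 (fun o => (hrel o).1)
        (fun o => by rw [(hrel o).2]; simp) (fun _ => true) (fun _ _ => true)
        (fun _ _ => rfl) (fun _ _ _ _ => rfl) (fun q => decide (q = 0)) (by simp)
    · simp only [invTarget, List.any_eq_true, List.mem_range, Bool.and_eq_true, decide_eq_true_eq]
      exact ⟨k, hk.1, ⟨hk.2.1, hk.2.2⟩, rfl⟩

/-- the refined exclusion of an order by the prime `p` -/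
def refExcluded (N p m R : ℕ) : Bool :=
  (sylowCands N p m).all fun n =>
    (List.range (m / n + 1)).all fun c =>
      !(Nat.beq (m / n % c) 0 && Nat.ble 2 (m / n / c) && Nat.beq ((p - 1) % (m / n / c)) 0 &&
          (Nat.blt 20 ((n - 1) / p) || Nat.beq (fct ((n - 1) / p) % c) 0)) ||
        noSolution N p c (m / n / c) ((p - 1) / (m / n / c)) n R

/-- the orders excluded by `refExcluded` -/
theorem card_ne_of_refExcluded [Finite G] [IsSimpleGroup G] {N : ℕ} (p m R : ℕ)
    (hp : p.Prime) (hN : N = p * m) (hm : ¬ p ∣ m) (hm1 : 1 < m)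
    (h : refExcluded N p m R = true) : Nat.card G ≠ N := by
  intro hcard
  have : Fact p.Prime := ⟨hp⟩
  have hG : ¬ IsMulCommutative G :=
    not_comm_of_not_prime (by rw [hcard, hN]; exact Nat.not_prime_mul hp.ne_one (by omega))
  obtain ⟨P⟩ := (inferInstance : Nonempty (Sylow p G))
  have hP : Nat.card ↥(P : Subgroup G) = p := by
    simpa using card_sylow_eq (e := 1) (m := m) (by rw [hcard, hN, pow_one]) hm P
  have hn := card_sylow_mem_sylowCands (p := p) (e := 1) (m := m) hcard (by rw [hN, pow_one]) hm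
    one_pos hm1
  obtain ⟨c, e, hC, hNP, he, hep, hcr, hsol⟩ := exists_refined hG P hP
  have hmul := card_normalizer_mul P
  rw [hNP, hcard, hN, mul_assoc, mul_assoc] at hmul
  have hk : c * (e * Nat.card (Sylow p G)) = m := Nat.eq_of_mul_eq_mul_left hp.pos hmul
  have hdiv : m / Nat.card (Sylow p G) = c * e := by
    rw [← hk, ← mul_assoc, Nat.mul_div_cancel _ Nat.card_pos]
  have hc0 : 0 < c := by
    rcases Nat.eq_zero_or_pos c with h0 | h0
    · rw [h0, zero_mul] at hk; omega
    · exact h0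
  have hrange : c ∈ List.range (m / Nat.card (Sylow p G) + 1) := by
    rw [hdiv, List.mem_range]
    have : c * 1 ≤ c * e := Nat.mul_le_mul_left c (by omega)
    omega
  have hall := List.all_eq_true.1 (List.all_eq_true.1 h _ hn) c hrange
  have hs := hsol R
  rw [hcard] at hs
  rw [hdiv, Nat.mul_div_cancel_left _ hc0, Nat.mul_mod_right, hep, hs] at hall
  have hb : Nat.ble 2 e = true := Nat.ble_eq.mpr he
  have horb : Nat.beq (fct ((Nat.card (Sylow p G) - 1) / p) % c) 0 = true := by
    rw [fct_eq, Nat.mod_eq_zero_of_dvd hcr]; rfl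
  simp [hb, horb] at hall

end CfsgLib.SmallOrder
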