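import Cfsg.Agent.Lib.SmallOrder.Auto

/-!
The automatic criterion, trying the largest prime divisor first.
-/

set_option autoImplicit false

namespace CfsgLib.SmallOrder

/-- `orderExcluded`, with the primes in decreasing order -/
def orderExcludedRev (N : ℕ) : Bool :=
  Nat.ble N 1 || (isPrimeB N || (twoKill N (facs N) ||
    ((facs N).reverse.any (fun x => sylowKill N x.1 x.2) ||
      (facs N).reverse.any (fun x => blockKill N x.1 x.2))))

theorem orderExcludedRev_eq (N : ℕ) : orderExcludedRev N = orderExcluded N := by
  simp [orderExcludedRev, orderExcluded]

/-- `rangeExcluded`, with the primes in decreasing order -/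
def rangeExcludedRev (a len : ℕ) (exc : List ℕ) : Bool :=
  (List.range len).all fun i => exc.any (fun x => Nat.beq x (a + i)) || orderExcludedRev (a + i)

theorem rangeExcluded_of_rev {a len : ℕ} {exc : List ℕ} (h : rangeExcludedRev a len exc = true) :
    rangeExcluded a len exc = true := by
  simpa [rangeExcludedRev, rangeExcluded, orderExcludedRev_eq] using h

end CfsgLib.SmallOrder
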