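import Cfsg.Agent.Lib.SmallOrder.SmallElements
import Cfsg.Agent.Lib.ConjFunctor.Transfer
import Cfsg.Agent.Lib.Solvable.Core
import Cfsg.Agent.Lib.PLocal.HallHigman

/-!
# The Frobenius criterion for normal `p`-complements, in small-element form
-/

set_option autoImplicit false

namespace CfsgLib.SmallOrder

open CfsgLib.ConjFunctor

universe u

variable {p : ℕ} [Fact p.Prime]

/-- Every element of order prime to `p` normalizing a `p`-subgroup centralizes it. -/
def CoprimeTrivial (p : ℕ) (G : Type*) [Group G] : Prop :=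
  ∀ Q : Subgroup G, IsPGroup p ↥Q → ∀ x ∈ Subgroup.normalizer (Q : Set G),
    (orderOf x).Coprime p → ∀ q ∈ Q, Commute x q

theorem coprimeTrivial_subgroup {G : Type*} [Group G] (h : CoprimeTrivial p G) (M : Subgroup G) :
    CoprimeTrivial p ↥M := by
  intro Q hQ x hx hxo q hq
  have hn : (x : G) ∈ Subgroup.normalizer ((Q.map M.subtype : Subgroup G) : Set G) :=
    Subgroup.le_normalizer_map (f := M.subtype) ⟨x, hx, rfl⟩
  exact Subtype.ext (h _ (hQ.map _) (x : G) hn (by rwa [Subgroup.orderOf_coe]) (q : G)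
    ⟨q, hq, rfl⟩).eq

/-- Fusion inside a Sylow subgroup is inner to it. -/
theorem agree_in_sylow {G : Type*} [Group G] [Finite G] (h : CoprimeTrivial p G) (S : Sylow p G) :
    ∀ (D : Subgroup G) (g : G), D ≤ (S : Subgroup G) → cj g D ≤ (S : Subgroup G) →
      ∀ a ∈ D, a⁻¹ * (g * a * g⁻¹) ∈ ⁅(S : Subgroup G), (S : Subgroup G)⁆ := by
  refine alperin_induction S _ (exists_rep_fullyNorm S)
    (fun D g => DiffIn ⁅(S : Subgroup G), (S : Subgroup G)⁆ D g)
    (fun _ _ _ hle _ _ h a ha => h a (hle ha)) (fun _ _ _ _ _ _ => DiffIn.comp)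
    (fun _ _ _ _ => DiffIn.symm) (fun U _ hfn D n hD hn a ha => ?_)
  set N := Subgroup.normalizer (U : Set G) with hN
  set C := (Subgroup.centralizer (U : Set G)).subgroupOf N with hC
  have hU : IsPGroup p ↥U := S.isPGroup'.to_le hfn.1
  -- `N / C` is a `p`-group
  have hquot : IsPGroup p (↥N ⧸ C) := by
    refine IsPGroup.of_card (n := (Nat.card (↥N ⧸ C)).primeFactorsList.length) ?_
    refine Nat.eq_prime_pow_of_unique_prime_dvd Nat.card_pos.ne' fun {q} hq hqd => ?_
    haveI : Fact q.Prime := ⟨hq⟩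
    by_contra hne
    obtain ⟨x, hx⟩ := exists_prime_orderOf_dvd_card' q hqd
    obtain ⟨y, rfl⟩ := QuotientGroup.mk_surjective x
    obtain ⟨i, j, hco, hij⟩ : ∃ i j : ℕ, (orderOf (y : G) / p ^ i).Coprime p ∧
        p ^ i ∣ orderOf (y : G) ∧ j = i :=
      ⟨_, _, ((Nat.Prime.coprime_iff_not_dvd Fact.out).2
        (Nat.not_dvd_ordCompl Fact.out (orderOf_pos _).ne')).symm, Nat.ordProj_dvd _ _, rfl⟩
    have hz : (orderOf ((y : G) ^ p ^ i)).Coprime p := by
      rw [orderOf_pow_of_dvd (pow_ne_zero _ (Fact.out : p.Prime).ne_zero) hij.1]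
      exact hco
    have hzc : y ^ p ^ i ∈ C := by
      rw [hC, Subgroup.mem_subgroupOf, Subgroup.mem_centralizer_iff]
      exact fun u hu => (h U hU _ (pow_mem y.2 _) hz u hu).eq.symm
    have h1 : (QuotientGroup.mk y : ↥N ⧸ C) ^ p ^ i = 1 := by
      rw [← QuotientGroup.mk_pow]; exact (QuotientGroup.eq_one_iff _).2 hzc
    have h2 := orderOf_dvd_of_pow_eq_one h1
    rw [hx] at h2
    exact hne ((Nat.prime_dvd_prime_iff_eq hq Fact.out).1 (hq.dvd_of_dvd_pow h2))
  -- the Sylow `N_S(U)` covers it
  set R := (S : Subgroup G) ⊓ N with hR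
  have hRN : R ≤ N := inf_le_right
  have hcover : (R.subgroupOf N).map (QuotientGroup.mk' C) = ⊤ := by
    rw [← Subgroup.index_eq_one]
    obtain ⟨k, hk⟩ := IsPGroup.iff_card.1 hquot
    obtain ⟨i, -, hi⟩ := (Nat.dvd_prime_pow Fact.out).1 (hk ▸ Subgroup.index_dvd_card _)
    rcases Nat.eq_zero_or_pos i with rfl | hpos
    · simpa using hi
    · exfalso
      refine hfn.2.not_dvd ((dvd_pow_self p hpos.ne').trans ?_)
      rw [← hi]
      exact Subgroup.index_map_dvd _ (QuotientGroup.mk'_surjective C)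
  obtain ⟨r, hr, hrn⟩ : (QuotientGroup.mk' C) ⟨n, hn⟩ ∈ (R.subgroupOf N).map (QuotientGroup.mk' C) := by
    rw [hcover]; trivial
  have hc : (r⁻¹ * ⟨n, hn⟩ : ↥N) ∈ C := QuotientGroup.eq.1 hrn
  rw [hC, Subgroup.mem_subgroupOf, Subgroup.mem_centralizer_iff] at hc
  have h3 : n * a * n⁻¹ = (r : G) * a * (r : G)⁻¹ := by
    have := hc a (hD ha)
    simp only [Subgroup.coe_mul, Subgroup.coe_inv] at this
    calc n * a * n⁻¹ = (r : G) * ((r : G)⁻¹ * n * a) * n⁻¹ := by simp [mul_assoc]
      _ = (r : G) * (a * ((r : G)⁻¹ * n)) * n⁻¹ := by rw [this]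
      _ = (r : G) * a * (r : G)⁻¹ := by simp [mul_assoc]
  rw [h3]
  have := Subgroup.commutator_mem_commutator (inv_mem (hfn.1 (hD ha))) hr.1 (H₂ := (S : Subgroup G))
  simpa [commutatorElement_def, mul_assoc] using this

/-- A nontrivial nilpotent subgroup is not contained in its commutator subgroup. -/
theorem not_le_commutator_self {G : Type*} [Group G] (S : Subgroup G) [Nontrivial ↥S]
    [Group.IsNilpotent ↥S] : ¬ S ≤ ⁅S, S⁆ := by
  intro h
  have hle : ∀ n, S ≤ S.lowerCentralSeries n := by
    intro n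
    induction n with
    | zero => exact le_rfl
    | succ n ih => exact h.trans (Subgroup.commutator_mono ih le_rfl)
  obtain ⟨n, hn⟩ := (Subgroup.isNilpotent_iff_lowerCentralSeries S).1 inferInstance
  exact (Subgroup.nontrivial_iff_ne_bot S).1 inferInstance (le_bot_iff.1 ((hle n).trans hn.le))

theorem hasNormalPComplement_of_normal {G : Type u} [Group G] [Finite G] (K : Subgroup G)
    (hK : K.Normal) (hcop : (Nat.card K).Coprime p) (hidx : ∃ j, K.index = p ^ j) :
    Cfsg.HasNormalPComplement p G := by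
  obtain ⟨j, hj⟩ := hidx
  obtain ⟨P⟩ : Nonempty (Sylow p G) := Sylow.nonempty
  refine ⟨P, K, hK, Subgroup.isComplement'_of_coprime ?_ ?_⟩
  · rw [← K.card_mul_index, hj, P.card_eq_multiplicity, ← K.card_mul_index, hj,
      Nat.factorization_mul Nat.card_pos.ne' (pow_ne_zero _ (Fact.out : p.Prime).ne_zero)]
    simp [Nat.factorization_eq_zero_of_not_dvd
      ((Nat.Prime.coprime_iff_not_dvd Fact.out).1 hcop.symm), (Fact.out : p.Prime).factorization_pow]
  · obtain ⟨k, hk⟩ := IsPGroup.iff_card.1 P.isPGroup'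
    rw [hk]; exact hcop.pow_right k

theorem exists_normal_complement_aux : ∀ (m : ℕ) (G : Type u) [Group G] [Finite G],
    Nat.card G ≤ m → CoprimeTrivial p G →
    ∃ K : Subgroup G, K.Characteristic ∧ (Nat.card K).Coprime p ∧ ∃ j, K.index = p ^ j := by
  intro m
  induction m with
  | zero => intro G _ _ hm; exact absurd hm (by have := Nat.card_pos (α := G); omega)
  | succ m ih =>
    intro G _ _ hm h
    obtain ⟨S⟩ : Nonempty (Sylow p G) := Sylow.nonempty
    have hchar := CfsgLib.Solvable.pPrimeCore_characteristic p G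
    by_cases hS : (S : Subgroup G) = ⊥
    · refine ⟨⊤, inferInstance, ?_, 0, by simp⟩
      have := S.not_dvd_index
      rw [hS, Subgroup.index_bot] at this
      rw [Subgroup.card_top]
      exact ((Nat.Prime.coprime_iff_not_dvd Fact.out).2 this).symm
    -- a proper normal subgroup of `p`-power index
    have hlt : (S : Subgroup G) ⊓ ⁅(⊤ : Subgroup G), ⊤⁆ < S := by
      refine lt_of_le_of_ne inf_le_left fun heq => hS ?_
      have h1 := inf_commutator_le S _ (agree_in_sylow h S)
      rw [heq] at h1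
      by_contra hne
      haveI : Nontrivial ↥(S : Subgroup G) := (Subgroup.nontrivial_iff_ne_bot _).2 hne
      haveI : Group.IsNilpotent ↥(S : Subgroup G) := S.isPGroup'.isNilpotent
      exact absurd h1 (not_le_commutator_self _)
    let A := Abelianization G
    set M := (Cfsg.pPrimeCore p A).comap Abelianization.of with hM
    have hMchar : M.Characteristic := by
      rw [Subgroup.characteristic_iff_comap_eq]
      intro φ
      rw [hM, Subgroup.comap_comap]
      have h2 := (Subgroup.characteristic_iff_comap_eq.1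
        (CfsgLib.Solvable.pPrimeCore_characteristic p A)) φ.abelianizationCongr
      conv_rhs => rw [← h2, Subgroup.comap_comap]
      congr 1
    have hMidx : ∃ j, M.index = p ^ j := by
      rw [hM, Subgroup.index_comap_of_surjective _ QuotientGroup.mk_surjective]
      refine ⟨(Cfsg.pPrimeCore p A).index.primeFactorsList.length, ?_⟩
      refine Nat.eq_prime_pow_of_unique_prime_dvd Subgroup.index_ne_zero_of_finite fun {r} hr hrd => ?_
      haveI : Fact r.Prime := ⟨hr⟩
      by_contra hne
      haveI hn := CfsgLib.Solvable.pPrimeCore_normal p A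
      rw [Subgroup.index] at hrd
      obtain ⟨x, hx⟩ := exists_prime_orderOf_dvd_card' r hrd
      obtain ⟨y, rfl⟩ := QuotientGroup.mk_surjective x
      have hycard : ∃ z : A, (orderOf z).Coprime p ∧ (QuotientGroup.mk z : A ⧸ Cfsg.pPrimeCore p A) ≠ 1 := by
        refine ⟨y ^ p ^ (orderOf y).factorization p, ?_, fun h1 => ?_⟩
        · rw [orderOf_pow_of_dvd (pow_ne_zero _ (Fact.out : p.Prime).ne_zero) (Nat.ordProj_dvd _ _)]
          exact ((Nat.Prime.coprime_iff_not_dvd Fact.out).2
            (Nat.not_dvd_ordCompl Fact.out (orderOf_pos _).ne')).symm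
        · rw [QuotientGroup.mk_pow] at h1
          have h2 := orderOf_dvd_of_pow_eq_one h1
          rw [hx] at h2
          exact hne ((Nat.prime_dvd_prime_iff_eq hr Fact.out).1 (hr.dvd_of_dvd_pow h2))
      obtain ⟨z, hz, hz1⟩ := hycard
      refine hz1 ((QuotientGroup.eq_one_iff z).2 ?_)
      exact CfsgLib.Solvable.le_pPrimeCore inferInstance (by rwa [Nat.card_zpowers])
        (Subgroup.mem_zpowers z)
    have hMne : M ≠ ⊤ := by
      intro htop
      obtain ⟨s, hs, hs'⟩ := SetLike.exists_of_lt hlt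
      refine hs' ⟨hs, ?_⟩
      have h2 : s ∈ M := htop ▸ Subgroup.mem_top s
      obtain ⟨k, hk⟩ := S.isPGroup' ⟨s, hs⟩
      have h3 : orderOf (Abelianization.of s) ∣ p ^ k := orderOf_dvd_of_pow_eq_one
        (by rw [← map_pow, show s ^ p ^ k = 1 from congrArg Subtype.val hk, map_one])
      have h4 : orderOf (Abelianization.of s) ∣ Nat.card (Cfsg.pPrimeCore p A) :=
        Subgroup.orderOf_dvd_natCard _ h2
      have h5 := Nat.eq_one_of_dvd_coprimes
        ((CfsgLib.Solvable.pPrimeCore_card_coprime p A).pow_right k) h4 h3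
      rw [orderOf_eq_one_iff] at h5
      rw [← commutator_def]
      exact Abelianization.ker_of G ▸ (MonoidHom.mem_ker.2 h5)
    have hcard : Nat.card M ≤ m := by
      have h6 := M.card_mul_index
      have h7 : 2 ≤ M.index := by
        have := Subgroup.index_ne_zero_of_finite (H := M)
        have : M.index ≠ 1 := fun h => hMne (Subgroup.index_eq_one.1 h)
        omega
      have h8 := Nat.card_pos (α := M)
      nlinarith
    obtain ⟨K, hKc, hKcop, j, hj⟩ := ih ↥M hcard (coprimeTrivial_subgroup h M)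
    refine ⟨K.map M.subtype, ?_, ?_, ?_⟩
    · rw [Subgroup.characteristic_iff_map_eq]
      intro φ
      have hφM : M.map φ.toMonoidHom = M := Subgroup.characteristic_iff_map_eq.1 hMchar φ
      let ψ : ↥M ≃* ↥M := (φ.subgroupMap M).trans (MulEquiv.subgroupCongr hφM)
      have h9 := Subgroup.characteristic_iff_map_eq.1 hKc ψ
      conv_rhs => rw [← h9]
      rw [Subgroup.map_map, Subgroup.map_map]
      congr 1
    · rw [Subgroup.card_map_of_injective M.subtype_injective]; exact hKcop
    · obtain ⟨i, hi⟩ := hMidx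
      exact ⟨j + i, by rw [Subgroup.index_map_subtype, hj, hi, pow_add]⟩

/-- Frobenius's criterion. -/
theorem hasNormalPComplement_of_coprimeTrivial {G : Type u} [Group G] [Finite G]
    (h : CoprimeTrivial p G) : Cfsg.HasNormalPComplement p G := by
  obtain ⟨K, hKc, hcop, hidx⟩ := exists_normal_complement_aux _ G le_rfl h
  haveI := hKc
  exact hasNormalPComplement_of_normal K inferInstance hcop hidx

/-- A coprime element which moves each small element of a `p`-subgroup into the next term of a
chain ending trivially centralizes the subgroup. -/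
theorem commute_of_chain {G : Type*} [Group G] [Finite G] {Q : Subgroup G} (hQ : IsPGroup p ↥Q)
    {x : G} (hx : (orderOf x).Coprime p) (hxQ : x ∈ Subgroup.normalizer (Q : Set G))
    (L : ℕ → Subgroup G) (n : ℕ) (htop : ∀ d ∈ Q, Small p d → d ∈ L 0)
    (hbot : L n = ⊥)
    (hmove : ∀ i < n, ∀ d ∈ Q, Small p d → d ∈ L i → x * d * x⁻¹ * d⁻¹ ∈ L (i + 1)) :
    ∀ q ∈ Q, Commute x q := by
  by_contra hc
  obtain ⟨D, hDQ, hxD, hsmall, hmv⟩ := exists_small_moved Q hQ hx hxQ hc
  have key : ∀ k i, i + k = n → ∀ d ∈ D, d ∈ L i → Commute x d := by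
    intro k
    induction k with
    | zero =>
      intro i hi d _ hdL
      obtain rfl : i = n := by omega
      rw [hbot, Subgroup.mem_bot] at hdL
      subst hdL
      exact Commute.one_right x
    | succ k ih =>
      intro i hi d hd hdL
      have h1 : x * d * x⁻¹ * d⁻¹ ∈ D :=
        mul_mem ((Subgroup.mem_normalizer_iff.1 hxD d).1 hd) (inv_mem hd)
      exact CfsgLib.OddOrder.commute_of_conj_mem
        (ih (i + 1) (by omega) _ h1 (hmove i (by omega) d (hDQ hd) (hsmall d hd) hdL))
        (coprime_of_mem (hQ.to_le hDQ) hx h1)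
  exact hmv fun d hd => key n 0 (Nat.zero_add n) d hd (htop d (hDQ hd) (hsmall d hd))

end CfsgLib.SmallOrder
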