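import Cfsg.Agent.Lib.SmallOrder.Basic
import Cfsg.Agent.Lib.StdForm.OrderEight
import Cfsg.Agent.Lib.Invol.Counting
import Mathlib.GroupTheory.SpecificGroups.Dihedral
import Mathlib.GroupTheory.SpecificGroups.Quaternion
import Mathlib.GroupTheory.SpecificGroups.KleinFour
import Mathlib.GroupTheory.IndexNormal
import Mathlib.Tactic

/-!
The simple groups of order 168 by Sylow counting: Sylow numbers, element orders, classes, subgroups.
-/

set_option autoImplicit false

namespace CfsgLib.Order168

open Subgroup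

/-- Elements with a property lying in exactly one Sylow subgroup each, counted. -/
theorem card_of_unique_sylow {G : Type*} [Group G] [Finite G] {p : ℕ} [Fact p.Prime] (Q : G → Prop) (k : ℕ)
    (hex : ∀ x, Q x → ∃ P : Sylow p G, x ∈ (P : Subgroup G))
    (huniq : ∀ x, Q x → ∀ P P' : Sylow p G, x ∈ (P : Subgroup G) → x ∈ (P' : Subgroup G) → P = P')
    (hk : ∀ P : Sylow p G, Nat.card {x : ↥(P : Subgroup G) // Q x} = k) :
    Nat.card {x : G // Q x} = Nat.card (Sylow p G) * k := by
  classical
  let φ : (Σ P : Sylow p G, {x : ↥(P : Subgroup G) // Q x}) → {x : G // Q x} := fun z => ⟨_, z.2.2⟩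
  have hφ : Function.Bijective φ := by
    refine ⟨fun ⟨P, x, hx⟩ ⟨P', x', hx'⟩ he => ?_, fun ⟨x, hx⟩ => ?_⟩
    · have he' : (x : G) = x' := congrArg Subtype.val he
      obtain rfl : P = P' := huniq _ hx P P' x.2 (he' ▸ x'.2)
      obtain rfl : x = x' := Subtype.ext he'
      rfl
    · obtain ⟨P, hP⟩ := hex x hx
      exact ⟨⟨P, ⟨x, hP⟩, hx⟩, rfl⟩
  have := Fintype.ofFinite (Sylow p G)
  rw [← Nat.card_eq_of_bijective φ hφ, Nat.card_sigma, Finset.sum_congr rfl (fun P _ => hk P),
    Finset.sum_const, Finset.card_univ, Nat.card_eq_fintype_card, smul_eq_mul]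

theorem commute_of_mem_centralizer_singleton {G : Type*} [Group G] {x g : G}
    (hg : g ∈ centralizer ({x} : Set G)) : g * x = x * g :=
  mem_centralizer_singleton_iff.1 hg

/-! ### facts about the dihedral group of order eight, by evaluation -/

open DihedralGroup in
theorem d4_center : ∀ z : DihedralGroup 4, z ≠ 1 → (∀ t, t * z = z * t) → z = r 2 := by decide

open DihedralGroup in
theorem d4_sq : ∀ x : DihedralGroup 4, x ^ 2 ≠ 1 → x ^ 2 = r 2 ∧ (x = r 1 ∨ x = r 3) := by decide

open DihedralGroup in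
theorem d4_conj : ∀ a b : DihedralGroup 4, a ^ 2 ≠ 1 → b ^ 2 ≠ 1 → ∃ t, t * a * t⁻¹ = b := by decide

open DihedralGroup in
theorem d4_klein : ∀ x : DihedralGroup 4, x ≠ 1 → x ^ 2 = 1 → x ≠ r 2 →
    (∀ y, y * x = x * y ↔ y * sr 0 = sr 0 * y) ∨ (∀ y, y * x = x * y ↔ y * sr 1 = sr 1 * y) := by decide

open DihedralGroup in
theorem d4_two_sets : ∀ i : ZMod 4,
    (Finset.univ.filter fun y : DihedralGroup 4 => y * sr i = sr i * y).card = 4 ∧
      ∀ y, y * sr i = sr i * y → y ^ 2 = 1 := by decide

open DihedralGroup in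
theorem d4_sets_ne : ∃ y : DihedralGroup 4, y * sr 0 = sr 0 * y ∧ y * sr 1 ≠ sr 1 * y := by decide

variable {G : Type*} [Group G] [Finite G] [IsSimpleGroup G]

section
variable (h : Nat.card G = 168)
include h

theorem noncomm : ¬ IsMulCommutative G :=
  SmallOrder.not_comm_of_not_prime (by rw [h]; norm_num)

theorem card_le_of_ne_top {H : Subgroup G} (hH : H ≠ ⊤) : Nat.card H ≤ 24 := by
  have h1 := SmallOrder.two_mul_card_dvd_factorial (noncomm h) hH
  have h2 := H.card_mul_index
  rw [h] at h1 h2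
  by_contra h3
  have hi : H.index < 7 := by nlinarith
  generalize H.index = i at h1 h2 hi
  interval_cases i <;> first | omega | (norm_num [Nat.factorial] at h1)

theorem card_seven (P : Sylow 7 G) [Fact (Nat.Prime 7)] : Nat.card ↥(P : Subgroup G) = 7 := by
  simpa using SmallOrder.card_sylow_eq (e := 1) (m := 24) (by rw [h]; norm_num) (by norm_num) P

theorem card_three (P : Sylow 3 G) [Fact (Nat.Prime 3)] : Nat.card ↥(P : Subgroup G) = 3 := by
  simpa using SmallOrder.card_sylow_eq (e := 1) (m := 56) (by rw [h]; norm_num) (by norm_num) P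

theorem card_two (T : Sylow 2 G) : Nat.card ↥(T : Subgroup G) = 8 := by
  simpa using SmallOrder.card_sylow_eq (e := 3) (m := 21) (by rw [h]; norm_num) (by norm_num) T

theorem n_seven [Fact (Nat.Prime 7)] : Nat.card (Sylow 7 G) = 8 := by
  obtain ⟨h1, h2, h3, -⟩ := SmallOrder.card_sylow_facts (G := G) (p := 7) (e := 1) (m := 24)
    (by rw [h]; norm_num) (by norm_num) one_pos (by norm_num)
  have h4 := Nat.le_of_dvd (by norm_num) h1
  generalize Nat.card (Sylow 7 G) = n at *
  interval_cases n <;> omega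

theorem card_normalizer_seven [Fact (Nat.Prime 7)] (P : Sylow 7 G) :
    Nat.card ↥(normalizer ((P : Subgroup G) : Set G)) = 21 := by
  have := SmallOrder.card_normalizer_mul P
  rw [h, n_seven h] at this
  omega

/-- The centraliser of an element of order 7, in subgroup form. -/
theorem centralizer_seven [Fact (Nat.Prime 7)] (P : Sylow 7 G) :
    centralizer ((P : Subgroup G) : Set G) = P := by
  have hP := card_seven h P
  have hcyc : IsCyclic ↥(P : Subgroup G) := isCyclic_of_prime_card hP
  have hle : (P : Subgroup G) ≤ centralizer ((P : Subgroup G) : Set G) := fun x hx =>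
    mem_centralizer_iff.2 fun y hy =>
      congrArg Subtype.val ((IsCyclic.commGroup (α := ↥(P : Subgroup G))).mul_comm ⟨y, hy⟩ ⟨x, hx⟩)
  refine (eq_of_le_of_card_ge hle ?_).symm
  have h1 := card_dvd_of_le (centralizer_le_normalizer ((P : Subgroup G) : Set G))
  have h2 := card_dvd_of_le hle
  rw [card_normalizer_seven h P] at h1
  rw [hP] at h2 ⊢
  have hne : Nat.card ↥(centralizer ((P : Subgroup G) : Set G)) ≠ 21 := fun he =>
    SmallOrder.not_normalizer_le_centralizer (by rw [h]; norm_num) P
      (fun ht => by rw [ht, card_top, h] at hP; omega)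
      (eq_of_le_of_card_ge (centralizer_le_normalizer _) (by rw [card_normalizer_seven h P, he])).ge
  have h3 := Nat.le_of_dvd (by norm_num) h1
  generalize Nat.card ↥(centralizer ((P : Subgroup G) : Set G)) = c at *
  interval_cases c <;> omega

theorem n_three [Fact (Nat.Prime 3)] : Nat.card (Sylow 3 G) = 28 := by
  obtain ⟨h1, h2, h3, h4⟩ := SmallOrder.card_sylow_facts (G := G) (p := 3) (e := 1) (m := 56)
    (by rw [h]; norm_num) (by norm_num) one_pos (by norm_num)
  have hn : Nat.card (Sylow 3 G) ≠ 7 := by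
    intro hn
    have : Fact (Nat.Prime 7) := ⟨by norm_num⟩
    obtain ⟨R⟩ := (inferInstance : Nonempty (Sylow 7 G))
    set L := normalizer ((R : Subgroup G) : Set G)
    have hL : Nat.card L = 21 := card_normalizer_seven h R
    obtain ⟨Q⟩ := (inferInstance : Nonempty (Sylow 3 L))
    have hQ : Nat.card ↥(Q : Subgroup L) = 3 := by
      simpa using SmallOrder.card_sylow_eq (e := 1) (m := 7) (by rw [hL]; norm_num) (by norm_num) Q
    have hinL : ∀ P : Sylow 3 G, (P : Subgroup G) ≤ L := by
      have hn1 : Nat.card (Sylow 3 L) = 7 := by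
        have hd : Nat.card (Sylow 3 L) ∣ 7 := by
          have := Q.card_dvd_index
          rwa [show (Q : Subgroup L).index = 7 by
            have := (Q : Subgroup L).card_mul_index; rw [hQ, hL] at this; omega] at this
        rcases (Nat.dvd_prime (by norm_num : Nat.Prime 7)).1 hd with h1 | h7
        · exfalso
          have hN := Q.card_eq_index_normalizer
          rw [h1, eq_comm, index_eq_one] at hN
          have hnorm : (Q : Subgroup L).Normal := normalizer_eq_top_iff.1 hN
          obtain ⟨P, hP⟩ := (Q.2.map L.subtype).exists_le_sylow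
          have he : (Q : Subgroup L).map L.subtype = P := eq_of_le_of_card_ge hP (by
            rw [card_three h P, card_map_of_injective L.subtype_injective, hQ])
          have hLN : L ≤ normalizer ((P : Subgroup G) : Set G) := by
            intro l hl
            rw [mem_normalizer_iff]
            intro x
            rw [← he]
            constructor
            · rintro ⟨q, hq, rfl⟩
              exact ⟨⟨l, hl⟩ * q * ⟨l, hl⟩⁻¹, hnorm.conj_mem q hq _, rfl⟩
            · rintro ⟨q, hq, hqx⟩
              refine ⟨⟨l, hl⟩⁻¹ * q * ⟨l, hl⟩, hnorm.conj_mem' q hq ⟨l, hl⟩, ?_⟩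
              simp only [map_mul, map_inv, hqx, subtype_apply]
              group
          have h5 := card_dvd_of_le hLN
          have h6 := SmallOrder.card_normalizer_mul P
          rw [hn, h] at h6
          rw [hL] at h5
          generalize Nat.card ↥(normalizer ((P : Subgroup G) : Set G)) = c at h5 h6
          obtain ⟨d, rfl⟩ := h5
          omega
        · exact h7
      let ψ : Sylow 3 L → Sylow 3 G := fun S => (S.2.map L.subtype).exists_le_sylow.choose
      have hψ : ∀ S : Sylow 3 L, (S : Subgroup L).map L.subtype = ψ S := fun S =>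
        eq_of_le_of_card_ge (S.2.map L.subtype).exists_le_sylow.choose_spec (by
          rw [card_three h, card_map_of_injective L.subtype_injective,
            S.card_eq_multiplicity, ← Q.card_eq_multiplicity, hQ])
      have hinj : Function.Injective ψ := fun S S' he => Sylow.ext
        (map_injective L.subtype_injective ((hψ S).trans ((congrArg Sylow.toSubgroup he).trans (hψ S').symm)))
      intro P
      obtain ⟨S, rfl⟩ := ((Nat.bijective_iff_injective_and_card ψ).2 ⟨hinj, by rw [hn, hn1]⟩).2 P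
      rw [← hψ S]
      exact map_subtype_le _
    obtain ⟨P⟩ := (inferInstance : Nonempty (Sylow 3 G))
    obtain ⟨⟨x, hxP⟩, hx⟩ := exists_prime_orderOf_dvd_card' 3 (G := ↥(P : Subgroup G)) (by rw [card_three h P])
    have hle : normalClosure ({x} : Set G) ≤ L := by
      rw [normalClosure, closure_le]
      intro y hy
      obtain ⟨z, hz, hzy⟩ := Group.mem_conjugatesOfSet_iff.1 hy
      rw [Set.mem_singleton_iff] at hz
      obtain ⟨g, hg⟩ := isConj_iff.1 (hz ▸ hzy)
      have : g * x * g⁻¹ ∈ ((g • P : Sylow 3 G) : Subgroup G) := by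
        rw [Sylow.coe_subgroup_smul, Subgroup.mem_pointwise_smul_iff_inv_smul_mem]
        simpa [MulAut.smul_def, mul_assoc] using hxP
      exact hg ▸ hinL _ this
    have hne : normalClosure ({x} : Set G) ≠ ⊥ := fun hb => by
      have hx1 : x = 1 := by
        have := subset_normalClosure (Set.mem_singleton x)
        rwa [SetLike.mem_coe, hb, mem_bot] at this
      rw [orderOf_mk, hx1, orderOf_one] at hx
      omega
    have := card_le_of_le (normalClosure_normal.eq_bot_or_eq_top.resolve_left hne ▸ hle : ⊤ ≤ L)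
    rw [card_top, h, hL] at this
    omega
  have h5 := Nat.le_of_dvd (by norm_num) h1
  generalize Nat.card (Sylow 3 G) = n at *
  interval_cases n <;> first | omega | (norm_num [Nat.factorial, h] at h4)

theorem card_normalizer_three [Fact (Nat.Prime 3)] (P : Sylow 3 G) :
    Nat.card ↥(normalizer ((P : Subgroup G) : Set G)) = 6 := by
  have := SmallOrder.card_normalizer_mul P
  rw [h, n_three h] at this
  omega

theorem centralizer_three [Fact (Nat.Prime 3)] (P : Sylow 3 G) :
    centralizer ((P : Subgroup G) : Set G) = P := by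
  have hP := card_three h P
  have hcyc : IsCyclic ↥(P : Subgroup G) := isCyclic_of_prime_card hP
  have hle : (P : Subgroup G) ≤ centralizer ((P : Subgroup G) : Set G) := fun x hx =>
    mem_centralizer_iff.2 fun y hy =>
      congrArg Subtype.val ((IsCyclic.commGroup (α := ↥(P : Subgroup G))).mul_comm ⟨y, hy⟩ ⟨x, hx⟩)
  refine (eq_of_le_of_card_ge hle ?_).symm
  have h1 := card_dvd_of_le (centralizer_le_normalizer ((P : Subgroup G) : Set G))
  have h2 := card_dvd_of_le hle
  rw [card_normalizer_three h P] at h1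
  rw [hP] at h2 ⊢
  have hne : Nat.card ↥(centralizer ((P : Subgroup G) : Set G)) ≠ 6 := fun he =>
    SmallOrder.not_normalizer_le_centralizer (by rw [h]; norm_num) P
      (fun ht => by rw [ht, card_top, h] at hP; omega)
      (eq_of_le_of_card_ge (centralizer_le_normalizer _) (by rw [card_normalizer_three h P, he])).ge
  have h3 := Nat.le_of_dvd (by norm_num) h1
  generalize Nat.card ↥(centralizer ((P : Subgroup G) : Set G)) = c at *
  interval_cases c <;> omega

/-- An element commuting with one of order 3 or 7 is a power of it. -/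
theorem mem_zpowers_of_commute {x g : G} (hx : orderOf x = 3 ∨ orderOf x = 7) (hg : g * x = x * g) :
    g ∈ zpowers x := by
  have key : ∀ (p : ℕ) [Fact p.Prime] (P : Sylow p G), (zpowers x = (P : Subgroup G)) →
      centralizer ((P : Subgroup G) : Set G) = P → g ∈ zpowers x := by
    intro p _ P he hc
    rw [he, ← hc, ← he, mem_centralizer_iff]
    rintro y ⟨n, rfl⟩
    exact (((Commute.symm hg : Commute x g)).zpow_left n).eq
  rcases hx with hx | hx
  · have : Fact (Nat.Prime 3) := ⟨Nat.prime_three⟩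
    obtain ⟨P, hP⟩ := (IsPGroup.of_card (n := 1) (by rw [Nat.card_zpowers, hx, pow_one]) : IsPGroup 3 ↥(zpowers x)).exists_le_sylow
    have he := eq_of_le_of_card_ge hP (by rw [card_three h P, Nat.card_zpowers, hx])
    exact key 3 P he (centralizer_three h P)
  · have : Fact (Nat.Prime 7) := ⟨by norm_num⟩
    obtain ⟨P, hP⟩ := (IsPGroup.of_card (n := 1) (by rw [Nat.card_zpowers, hx, pow_one]) : IsPGroup 7 ↥(zpowers x)).exists_le_sylow
    have he := eq_of_le_of_card_ge hP (by rw [card_seven h P, Nat.card_zpowers, hx])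
    exact key 7 P he (centralizer_seven h P)

theorem not_commute_two {x g : G} (hx : orderOf x = 3 ∨ orderOf x = 7) {k : ℕ} (hg : g ^ 2 ^ k = 1)
    (hg1 : g ≠ 1) : g * x ≠ x * g := by
  intro hc
  have h1 : orderOf g ∣ orderOf x :=
    Nat.card_zpowers x ▸ Subgroup.orderOf_dvd_natCard _ (mem_zpowers_of_commute h hx hc)
  have h2 := orderOf_dvd_of_pow_eq_one hg
  have hcop : Nat.Coprime (orderOf x) (2 ^ k) := Nat.Coprime.pow_right _ (by rcases hx with hx | hx <;> rw [hx] <;> norm_num)
  exact hg1 (orderOf_eq_one_iff.1 (Nat.eq_one_of_dvd_coprimes hcop h1 h2))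

theorem n_two : Nat.card (Sylow 2 G) = 21 := by
  obtain ⟨h1, h2, h3, h4⟩ := SmallOrder.card_sylow_facts (G := G) (p := 2) (e := 3) (m := 21)
    (by rw [h]; norm_num) (by norm_num) (by norm_num) (by norm_num)
  have hn : Nat.card (Sylow 2 G) ≠ 7 := by
    intro hn
    have : Fact (Nat.Prime 3) := ⟨Nat.prime_three⟩
    obtain ⟨T⟩ := (inferInstance : Nonempty (Sylow 2 G))
    set L := normalizer ((T : Subgroup G) : Set G)
    have hL : Nat.card L = 24 := by
      have := SmallOrder.card_normalizer_mul T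
      rw [h, hn] at this
      change Nat.card L * 7 = 168 at this
      omega
    obtain ⟨⟨x, hxL⟩, hx⟩ := exists_prime_orderOf_dvd_card' 3 (G := L) (by rw [hL]; norm_num)
    rw [orderOf_mk] at hx
    -- some element of T other than 1 normalises the group of x
    set M := normalizer ((zpowers x : Subgroup G) : Set G)
    obtain ⟨P, hP⟩ := (IsPGroup.of_card (n := 1) (by rw [Nat.card_zpowers, hx, pow_one]) : IsPGroup 3 ↥(zpowers x)).exists_le_sylow
    have he := eq_of_le_of_card_ge hP (by rw [card_three h P, Nat.card_zpowers, hx])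
    have hxin : zpowers x ≤ L := zpowers_le.2 hxL
    set PL : Sylow 3 L := P.subtype (he ▸ hxin)
    have hPL : Nat.card ↥(PL : Subgroup L) = 3 :=
      (Nat.card_congr (subgroupOfEquivOfLe (he ▸ hxin)).toEquiv).trans (card_three h P)
    have hd := PL.card_dvd_index
    have hi : (PL : Subgroup L).index = 8 := by
      have := (PL : Subgroup L).card_mul_index; rw [hPL, hL] at this; omega
    rw [hi] at hd
    have hm := card_sylow_modEq_one 3 L
    have hnm := SmallOrder.card_normalizer_mul PL
    rw [hL] at hnm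
    have heven : 2 ∣ Nat.card ↥(normalizer ((PL : Subgroup L) : Set L)) := by
      have hle := Nat.le_of_dvd (by norm_num) hd
      unfold Nat.ModEq at hm
      generalize Nat.card (Sylow 3 L) = n at hd hm hnm hle
      interval_cases n <;> omega
    obtain ⟨⟨u, huN⟩, hu⟩ := exists_prime_orderOf_dvd_card' 2 heven
    rw [orderOf_mk] at hu
    -- u lies in T
    have hu2 : (u : G) ^ 2 = 1 := by
      have := pow_orderOf_eq_one u
      rw [hu] at this
      exact congrArg Subtype.val this
    have hu1 : (u : G) ≠ 1 := fun he1 => by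
      have : u = 1 := Subtype.ext he1
      rw [this, orderOf_one] at hu; omega
    have hzu : IsPGroup 2 ↥(zpowers (u : G)) := by
      obtain ⟨i, -, hi⟩ := (Nat.dvd_prime_pow Nat.prime_two).1 (orderOf_dvd_of_pow_eq_one (show (u : G) ^ 2 ^ 1 = 1 by simpa using hu2))
      exact IsPGroup.of_card (n := i) (by rw [Nat.card_zpowers, hi])
    have huT : (u : G) ∈ (T : Subgroup G) :=
      ((IsPGroup.inf_normalizer_sylow hzu T).le ⟨mem_zpowers _, u.2⟩).2
    have hxc : (u : G) * x * (u : G)⁻¹ * x⁻¹ ∈ (P : Subgroup G) ⊓ (T : Subgroup G) := by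
      rw [mem_inf]
      refine ⟨mul_mem ?_ (inv_mem (show x ∈ (P : Subgroup G) from he ▸ mem_zpowers x)), ?_⟩
      · exact (mem_normalizer_iff.1 huN ⟨x, hxL⟩).1 (show x ∈ (P : Subgroup G) from he ▸ mem_zpowers x)
      · have h1 : x * (u : G)⁻¹ * x⁻¹ ∈ (T : Subgroup G) := (mem_normalizer_iff.1 hxL _).1 (inv_mem huT)
        simpa [mul_assoc] using mul_mem huT h1
    rw [disjoint_iff.1 (IsPGroup.disjoint_of_ne 3 2 (by norm_num) _ _ P.2 T.2), mem_bot] at hxc
    refine not_commute_two h (k := 1) (Or.inl hx) (by simpa using hu2) hu1 ?_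
    exact mul_inv_eq_iff_eq_mul.1 (mul_inv_eq_one.1 hxc)
  have h5 := Nat.le_of_dvd (by norm_num) h1
  generalize Nat.card (Sylow 2 G) = n at *
  interval_cases n <;> first | omega | (norm_num [Nat.factorial, h] at h4)

theorem normalizer_two (T : Sylow 2 G) : normalizer ((T : Subgroup G) : Set G) = T := by
  have := SmallOrder.card_normalizer_mul T
  rw [h, n_two h] at this
  exact (eq_of_le_of_card_ge le_normalizer (by rw [card_two h]; omega)).symm

theorem pow_eight_of_mem (T : Sylow 2 G) {g : G} (hg : g ∈ (T : Subgroup G)) : g ^ 2 ^ 3 = 1 :=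
  orderOf_dvd_iff_pow_eq_one.1 ((Subgroup.orderOf_dvd_natCard _ hg).trans (card_two h T).dvd)

/-- A central element of a Sylow 2-subgroup has that subgroup as centraliser. -/
theorem centralizer_central (T : Sylow 2 G) {z : G} (hz : z ∈ (T : Subgroup G)) (hz1 : z ≠ 1)
    (hc : ∀ t ∈ (T : Subgroup G), t * z = z * t) : centralizer ({z} : Set G) = T := by
  set C := centralizer ({z} : Set G)
  have hle : (T : Subgroup G) ≤ C := fun t ht => mem_centralizer_singleton_iff.2 (hc t ht)
  refine (eq_of_le_of_card_ge hle ?_).symm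
  have hz8 := pow_eight_of_mem h T hz
  have h1 : ∀ p, (p = 3 ∨ p = 7) → ¬ p ∣ Nat.card C := by
    intro p hp hd
    have : Fact p.Prime := ⟨by rcases hp with rfl | rfl <;> norm_num⟩
    obtain ⟨⟨x, hxC⟩, hx⟩ := exists_prime_orderOf_dvd_card' p hd
    rw [orderOf_mk] at hx
    exact not_commute_two h (by rw [hx]; exact hp) hz8 hz1 (mem_centralizer_singleton_iff.1 hxC).symm
  have h2 : Nat.card C ∣ 168 := h ▸ card_subgroup_dvd_card C
  have h7 := h1 7 (Or.inr rfl)
  have h3 := h1 3 (Or.inl rfl)
  rw [card_two h]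
  have : Nat.card C ∈ Nat.divisors 168 := Nat.mem_divisors.2 ⟨h2, by norm_num⟩
  generalize Nat.card C = c at this h7 h3
  have key : ∀ c ∈ Nat.divisors 168, ¬ 3 ∣ c → ¬ 7 ∣ c → c ≤ 8 := by decide +kernel
  exact key c this h3 h7

theorem sylow_not_comm (T : Sylow 2 G) : ¬ IsMulCommutative ↥(T : Subgroup G) := by
  intro hab
  refine SmallOrder.not_normalizer_le_centralizer (by rw [h]; norm_num) T
    (fun ht => by have := card_two h T; rw [ht, card_top, h] at this; omega) ?_
  rw [normalizer_two h T]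
  exact fun x hx => mem_centralizer_iff.2 fun y hy =>
    congrArg Subtype.val (hab.is_comm.comm ⟨y, hy⟩ ⟨x, hx⟩)

/-- The orders of elements. -/
theorem orderOf_cases (g : G) :
    orderOf g = 1 ∨ orderOf g = 2 ∨ orderOf g = 3 ∨ orderOf g = 4 ∨ orderOf g = 7 := by
  have hd : orderOf g ∣ 168 := h ▸ orderOf_dvd_natCard g
  have hp : ∀ p, (p = 3 ∨ p = 7) → p ∣ orderOf g → orderOf g = p := by
    intro p hp hpd
    have hx : orderOf (g ^ (orderOf g / p)) = p := orderOf_pow_orderOf_div (orderOf_pos g).ne' hpd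
    have hm := mem_zpowers_of_commute h (x := g ^ (orderOf g / p)) (g := g) (by rw [hx]; exact hp)
      (Commute.self_pow g _).eq
    exact Nat.dvd_antisymm (by simpa [hx, Nat.card_zpowers] using Subgroup.orderOf_dvd_natCard _ hm) hpd
  by_cases h3 : 3 ∣ orderOf g
  · exact Or.inr (Or.inr (Or.inl (hp 3 (Or.inl rfl) h3)))
  by_cases h7 : 7 ∣ orderOf g
  · exact Or.inr (Or.inr (Or.inr (Or.inr (hp 7 (Or.inr rfl) h7))))
  have hne : orderOf g ≠ 8 := by
    intro h8
    obtain ⟨T, hT⟩ := (IsPGroup.of_card (n := 3) (by rw [Nat.card_zpowers, h8]; norm_num) : IsPGroup 2 ↥(zpowers g)).exists_le_sylow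
    have he := eq_of_le_of_card_ge hT (by rw [card_two h T, Nat.card_zpowers, h8])
    exact sylow_not_comm h T (he ▸ inferInstance)
  have hmem : orderOf g ∈ Nat.divisors 168 := Nat.mem_divisors.2 ⟨hd, by norm_num⟩
  have key : ∀ c ∈ Nat.divisors 168, ¬ 3 ∣ c → ¬ 7 ∣ c → c ≠ 8 → c = 1 ∨ c = 2 ∨ c = 3 ∨ c = 4 ∨ c = 7 := by decide +kernel
  exact key _ hmem h3 h7 hne

theorem card_order_prime {p : ℕ} [Fact p.Prime] (hP : ∀ P : Sylow p G, Nat.card ↥(P : Subgroup G) = p) :
    Nat.card {x : G // orderOf x = p} = Nat.card (Sylow p G) * (p - 1) := by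
  classical
  have _ := h
  have hp : p.Prime := Fact.out
  refine card_of_unique_sylow _ _ (fun x hx => ?_) (fun x hx P P' h1 h2 => ?_) (fun P => ?_)
  · obtain ⟨Q, hQ⟩ := (IsPGroup.of_card (n := 1) (by rw [Nat.card_zpowers, hx, pow_one]) : IsPGroup p ↥(zpowers x)).exists_le_sylow
    exact ⟨Q, hQ (mem_zpowers x)⟩
  · apply Sylow.ext
    rw [← eq_of_le_of_card_ge (zpowers_le.2 h1) (by rw [Nat.card_zpowers, hx, hP P]),
      ← eq_of_le_of_card_ge (zpowers_le.2 h2) (by rw [Nat.card_zpowers, hx, hP P'])]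
  · have := Fintype.ofFinite ↥(P : Subgroup G)
    rw [Nat.card_congr (Equiv.subtypeEquivRight (q := fun x : ↥(P : Subgroup G) => x ≠ 1) fun x => ?_),
      Nat.card_eq_fintype_card, Fintype.card_subtype_compl, ← Nat.card_eq_fintype_card, hP P,
      Fintype.card_subtype_eq]
    rw [orderOf_coe]
    constructor
    · rintro hx rfl
      rw [orderOf_one] at hx
      exact hp.one_lt.ne hx
    · intro hx
      exact (hp.eq_one_or_self_of_dvd _ ((orderOf_dvd_natCard x).trans (hP P).dvd)).resolve_left (by simpa using hx)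

theorem card_order_three : Nat.card {x : G // orderOf x = 3} = 56 := by
  have : Fact (Nat.Prime 3) := ⟨Nat.prime_three⟩
  rw [card_order_prime h (fun P => card_three h P), n_three h]

theorem card_order_seven : Nat.card {x : G // orderOf x = 7} = 48 := by
  have : Fact (Nat.Prime 7) := ⟨by norm_num⟩
  rw [card_order_prime h (fun P => card_seven h P), n_seven h]

theorem card_sum : 1 + Nat.card {x : G // orderOf x = 2} + Nat.card {x : G // orderOf x = 3} +
    Nat.card {x : G // orderOf x = 4} + Nat.card {x : G // orderOf x = 7} = 168 := by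
  classical
  have := Fintype.ofFinite G
  have hone : (Finset.univ.filter fun x : G => orderOf x = 1) = {1} := by
    ext x
    simp [orderOf_eq_one_iff]
  have hs := Finset.card_eq_sum_card_fiberwise (f := fun x : G => orderOf x) (s := Finset.univ)
    (t := ({1, 2, 3, 4, 7} : Finset ℕ)) (fun x _ => by simpa using orderOf_cases h x)
  rw [Finset.card_univ, ← Nat.card_eq_fintype_card, h, Finset.sum_insert (by decide), Finset.sum_insert (by decide),
    Finset.sum_insert (by decide), Finset.sum_insert (by decide), Finset.sum_singleton, hone,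
    Finset.card_singleton] at hs
  simp only [Nat.card_eq_fintype_card, Fintype.card_subtype]
  omega

theorem dihedral (T : Sylow 2 G) : Nonempty (↥(T : Subgroup G) ≃* DihedralGroup 4) := by
  classical
  have hTq : ∀ T : Sylow 2 G, ∃ g k : ↥(T : Subgroup G), g * k ≠ k * g := fun T => by
    by_contra hcon
    push Not at hcon
    exact sylow_not_comm h T ⟨⟨hcon⟩⟩
  obtain ⟨g, k, hgk⟩ := hTq T
  refine (StdForm.dihedral_or_quaternion_of_card_eight (card_two h T) hgk).resolve_right fun ⟨e⟩ => ?_
  -- the quaternion case has too many elements of order four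
  have eq : ∀ T' : Sylow 2 G, Nonempty (↥(T' : Subgroup G) ≃* QuaternionGroup 2) := fun T' => ⟨(Sylow.equiv T' T).trans e⟩
  have q1 : ∀ x : QuaternionGroup 2, x ^ 2 ≠ 1 → x ^ 4 = 1 ∧ (∀ t, t * x ^ 2 = x ^ 2 * t) := by decide
  have q2 : (Finset.univ.filter fun x : QuaternionGroup 2 => x ^ 2 ≠ 1).card = 6 := by decide
  have q3 : ∀ x : QuaternionGroup 2, x ^ 2 = 1 ∨ x ^ 4 = 1 := by decide
  have hcount : Nat.card {x : G // orderOf x = 4} = 21 * 6 := by
    rw [← n_two h]
    refine card_of_unique_sylow _ _ (fun x hx => ?_) (fun x hx P P' h1 h2 => ?_) (fun P => ?_)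
    · obtain ⟨Q, hQ⟩ := (IsPGroup.of_card (n := 2) (by rw [Nat.card_zpowers, hx]; norm_num) : IsPGroup 2 ↥(zpowers x)).exists_le_sylow
      exact ⟨Q, hQ (mem_zpowers x)⟩
    · have key : ∀ (Q : Sylow 2 G), x ∈ (Q : Subgroup G) → centralizer ({x ^ 2} : Set G) = Q := by
        intro Q hQ
        obtain ⟨e'⟩ := eq Q
        have hx2 : x ^ 2 ≠ 1 := fun hh => by
          have := orderOf_dvd_of_pow_eq_one hh; rw [hx] at this; omega
        refine centralizer_central h Q (pow_mem hQ 2) hx2 fun t ht => ?_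
        have hne : (e' ⟨x, hQ⟩) ^ 2 ≠ 1 := fun hh => hx2 (by
          rw [← map_pow, map_eq_one_iff _ e'.injective] at hh
          exact congrArg Subtype.val hh)
        have := (q1 _ hne).2 (e' ⟨t, ht⟩)
        rw [← map_pow, ← map_mul, ← map_mul] at this
        exact congrArg Subtype.val (e'.injective this)
      exact Sylow.ext ((key P h1).symm.trans (key P' h2))
    · obtain ⟨e'⟩ := eq P
      rw [Nat.card_congr (Equiv.subtypeEquiv (q := fun y : QuaternionGroup 2 => y ^ 2 ≠ 1) e'.toEquiv fun x => ?_),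
        Nat.card_eq_fintype_card, Fintype.card_subtype, q2]
      show orderOf (x : G) = 4 ↔ (e' x) ^ 2 ≠ 1
      rw [orderOf_coe, ← MulEquiv.orderOf_eq e' x]
      constructor
      · intro hx hh
        have := orderOf_dvd_of_pow_eq_one hh; rw [hx] at this; omega
      · intro hx
        exact orderOf_eq_prime_pow (p := 2) (n := 1) (by simpa using hx) (by simpa using (q1 _ hx).1)
  have := card_sum h
  rw [card_order_three h, card_order_seven h, hcount] at this
  omega

/-- The central involution of a Sylow 2-subgroup. -/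
theorem exists_central (T : Sylow 2 G) : ∃ z : G, z ∈ (T : Subgroup G) ∧ orderOf z = 2 ∧
    centralizer ({z} : Set G) = T ∧
    (∀ w ∈ (T : Subgroup G), w ≠ 1 → (∀ t ∈ (T : Subgroup G), t * w = w * t) → w = z) ∧
    ∀ x ∈ (T : Subgroup G), x ^ 2 ≠ 1 → x ^ 2 = z := by
  obtain ⟨e⟩ := dihedral h T
  set z : ↥(T : Subgroup G) := e.symm (DihedralGroup.r 2) with hz
  have hzz : ∀ t : DihedralGroup 4, t * DihedralGroup.r 2 = DihedralGroup.r 2 * t := by decide
  have ho : orderOf z = 2 := by
    rw [hz, MulEquiv.orderOf_eq]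
    exact orderOf_eq_prime (by decide) (by decide)
  have hone : (z : G) ≠ 1 := fun h1 => by
    have : z = 1 := Subtype.ext h1
    rw [this, orderOf_one] at ho; omega
  refine ⟨z, z.2, by rw [orderOf_coe, ho], centralizer_central h T z.2 hone fun t ht => ?_, ?_, ?_⟩
  · have := congrArg e.symm (hzz (e ⟨t, ht⟩))
    rw [map_mul, map_mul, e.symm_apply_apply] at this
    exact congrArg Subtype.val this
  · intro w hw hw1 hwc
    have h1 : e ⟨w, hw⟩ = DihedralGroup.r 2 := d4_center _
      (fun hh => hw1 (congrArg Subtype.val ((map_eq_one_iff _ e.injective).1 hh))) fun t => by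
        obtain ⟨t, rfl⟩ := e.surjective t
        rw [← map_mul, ← map_mul]
        exact congrArg e (Subtype.ext (hwc t t.2))
    exact congrArg Subtype.val (show (⟨w, hw⟩ : ↥(T : Subgroup G)) = z by rw [hz, ← h1, e.symm_apply_apply])
  · intro x hx hx2
    have h1 := (d4_sq (e ⟨x, hx⟩) (fun hh => hx2 (by
      rw [← map_pow, map_eq_one_iff _ e.injective] at hh
      exact congrArg Subtype.val hh))).1
    rw [← map_pow] at h1
    exact congrArg Subtype.val (show (⟨x, hx⟩ : ↥(T : Subgroup G)) ^ 2 = z by rw [hz, ← h1, e.symm_apply_apply])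

theorem card_order_four : Nat.card {x : G // orderOf x = 4} = 42 := by
  classical
  have q2 : (Finset.univ.filter fun x : DihedralGroup 4 => x ^ 2 ≠ 1).card = 2 := by decide
  have q3 : ∀ x : DihedralGroup 4, x ^ 4 = 1 := by decide
  rw [show 42 = 21 * 2 from rfl, ← n_two h]
  refine card_of_unique_sylow _ _ (fun x hx => ?_) (fun x hx P P' h1 h2 => ?_) (fun P => ?_)
  · obtain ⟨Q, hQ⟩ := (IsPGroup.of_card (n := 2) (by rw [Nat.card_zpowers, hx]; norm_num) : IsPGroup 2 ↥(zpowers x)).exists_le_sylow
    exact ⟨Q, hQ (mem_zpowers x)⟩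
  · have key : ∀ (Q : Sylow 2 G), x ∈ (Q : Subgroup G) → centralizer ({x ^ 2} : Set G) = Q := by
      intro Q hQ
      obtain ⟨z, -, -, hzc, -, hsq⟩ := exists_central h Q
      rw [hsq x hQ (fun hh => by have := orderOf_dvd_of_pow_eq_one hh; rw [hx] at this; omega), hzc]
    exact Sylow.ext ((key P h1).symm.trans (key P' h2))
  · obtain ⟨e'⟩ := dihedral h P
    rw [Nat.card_congr (Equiv.subtypeEquiv (q := fun y : DihedralGroup 4 => y ^ 2 ≠ 1) e'.toEquiv fun x => ?_),
      Nat.card_eq_fintype_card, Fintype.card_subtype, q2]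
    show orderOf (x : G) = 4 ↔ (e' x) ^ 2 ≠ 1
    rw [orderOf_coe, ← MulEquiv.orderOf_eq e' x]
    constructor
    · intro hx hh
      have := orderOf_dvd_of_pow_eq_one hh; rw [hx] at this; omega
    · intro hx
      exact orderOf_eq_prime_pow (p := 2) (n := 1) (by simpa using hx) (by simpa using q3 (e' x))

theorem card_order_two : Nat.card {x : G // orderOf x = 2} = 21 := by
  have := card_sum h
  rw [card_order_three h, card_order_four h, card_order_seven h] at this
  omega

/-- Every involution is the central involution of a Sylow 2-subgroup. -/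
theorem involution_central {u : G} (hu : orderOf u = 2) :
    ∃ T : Sylow 2 G, centralizer ({u} : Set G) = T := by
  classical
  let f : Sylow 2 G → {x : G // orderOf x = 2} := fun T =>
    ⟨(exists_central h T).choose, (exists_central h T).choose_spec.2.1⟩
  have hf : Function.Injective f := fun T T' he => Sylow.ext (by
    rw [← (exists_central h T).choose_spec.2.2.1, ← (exists_central h T').choose_spec.2.2.1,
      show (exists_central h T).choose = (exists_central h T').choose from congrArg Subtype.val he])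
  obtain ⟨T, hT⟩ := ((Nat.bijective_iff_injective_and_card f).2
    ⟨hf, by rw [n_two h, card_order_two h]⟩).2 ⟨u, hu⟩
  refine ⟨T, ?_⟩
  have := congrArg Subtype.val hT
  rw [← show (exists_central h T).choose = u from this]
  exact (exists_central h T).choose_spec.2.2.1

theorem isConj_involution {s t : G} (hs : orderOf s = 2) (ht : orderOf t = 2) : IsConj s t := by
  obtain ⟨T, hT⟩ := involution_central h hs
  obtain ⟨T', hT'⟩ := involution_central h ht
  obtain ⟨g, hg⟩ := MulAction.exists_smul_eq G T T'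
  obtain ⟨z, -, -, -, huniq, -⟩ := exists_central h T'
  have ne : ∀ {a : G}, orderOf a = 2 → a ≠ 1 := fun ha h1 => by rw [h1, orderOf_one] at ha; omega
  have e1 : t = z := huniq t (hT' ▸ mem_centralizer_singleton_iff.2 rfl) (ne ht) fun x hx =>
    mem_centralizer_singleton_iff.1 (hT'.symm ▸ hx)
  have hmem : ∀ x ∈ (T' : Subgroup G), g⁻¹ * x * g ∈ (T : Subgroup G) := fun x hx => by
    rw [← hg, Sylow.coe_subgroup_smul, Subgroup.mem_pointwise_smul_iff_inv_smul_mem] at hx
    simpa [MulAut.smul_def] using hx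
  have hs' : g * s * g⁻¹ ∈ (T' : Subgroup G) := by
    rw [← hg, Sylow.coe_subgroup_smul, Subgroup.mem_pointwise_smul_iff_inv_smul_mem]
    simpa [MulAut.smul_def, mul_assoc] using (hT ▸ mem_centralizer_singleton_iff.2 rfl : s ∈ (T : Subgroup G))
  refine isConj_iff.2 ⟨g, e1 ▸ huniq _ hs' (fun h1 => ne hs (by simpa using h1)) fun x hx => ?_⟩
  have h2 := mem_centralizer_singleton_iff.1 (hT.symm ▸ hmem x hx : g⁻¹ * x * g ∈ centralizer ({s} : Set G))
  calc x * (g * s * g⁻¹) = g * ((g⁻¹ * x * g) * s) * g⁻¹ := by group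
    _ = g * (s * (g⁻¹ * x * g)) * g⁻¹ := by rw [h2]
    _ = g * s * g⁻¹ * x := by group

theorem isConj_three {s t : G} (hs : orderOf s = 3) (ht : orderOf t = 3) : IsConj s t := by
  classical
  have : Fact (Nat.Prime 3) := ⟨Nat.prime_three⟩
  have hsyl : ∀ {x : G}, orderOf x = 3 → ∃ P : Sylow 3 G, zpowers x = (P : Subgroup G) := fun {x} hx => by
    obtain ⟨P, hP⟩ := (IsPGroup.of_card (n := 1) (by rw [Nat.card_zpowers, hx, pow_one]) : IsPGroup 3 ↥(zpowers x)).exists_le_sylow
    exact ⟨P, eq_of_le_of_card_ge hP (by rw [card_three h P, Nat.card_zpowers, hx])⟩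
  obtain ⟨P, hP⟩ := hsyl hs
  obtain ⟨Q, hQ⟩ := hsyl ht
  obtain ⟨g, hg⟩ := MulAction.exists_smul_eq G P Q
  have hs' : g * s * g⁻¹ ∈ (Q : Subgroup G) := by
    rw [← hg, Sylow.coe_subgroup_smul, Subgroup.mem_pointwise_smul_iff_inv_smul_mem]
    simpa [MulAut.smul_def, mul_assoc] using (hP ▸ mem_zpowers s : s ∈ (P : Subgroup G))
  have ho : orderOf (g * s * g⁻¹) = 3 := by rw [show g * s * g⁻¹ = MulAut.conj g s from rfl, MulEquiv.orderOf_eq, hs]
  have three : ∀ {x : G}, x ∈ zpowers t → orderOf x = 3 → x = t ∨ x = t⁻¹ := fun {x} hx hx3 => by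
    obtain ⟨k, hk, rfl⟩ : ∃ k < 3, t ^ k = x := by
      simpa [ht] using (mem_zpowers_iff_mem_range_orderOf (x := t)).1 hx
    interval_cases k
    · simp at hx3
    · exact Or.inl (pow_one t)
    · right
      rw [eq_inv_iff_mul_eq_one, ← pow_succ]
      exact (show t ^ (2 + 1) = 1 by simpa [ht] using pow_orderOf_eq_one t)
  rcases three (hQ ▸ hs') ho with e | e
  · exact isConj_iff.2 ⟨g, e⟩
  -- invert t inside the normaliser
  obtain ⟨⟨u, huN⟩, hu⟩ := exists_prime_orderOf_dvd_card' 2 (G := ↥(normalizer ((Q : Subgroup G) : Set G)))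
    (by rw [card_normalizer_three h Q]; norm_num)
  rw [orderOf_mk] at hu
  have hut : u * t * u⁻¹ ∈ zpowers t := hQ.symm ▸ (mem_normalizer_iff.1 huN t).1 (hQ ▸ mem_zpowers t)
  rcases three hut (by rw [show u * t * u⁻¹ = MulAut.conj u t from rfl, MulEquiv.orderOf_eq, ht]) with e' | e'
  · refine absurd (mul_inv_eq_iff_eq_mul.1 e') (not_commute_two h (k := 1) (Or.inl ht) ?_ ?_)
    · simpa [hu] using pow_orderOf_eq_one u
    · intro h1; rw [h1, orderOf_one] at hu; omega
  · refine isConj_iff.2 ⟨u * g, ?_⟩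
    calc u * g * s * (u * g)⁻¹ = u * (g * s * g⁻¹) * u⁻¹ := by group
      _ = (u * t * u⁻¹)⁻¹ := by rw [e]; group
      _ = t := by rw [e', inv_inv]

theorem isConj_four {s t : G} (hs : orderOf s = 4) (ht : orderOf t = 4) : IsConj s t := by
  obtain ⟨P, hP⟩ := (IsPGroup.of_card (n := 2) (by rw [Nat.card_zpowers, hs]; norm_num) : IsPGroup 2 ↥(zpowers s)).exists_le_sylow
  obtain ⟨Q, hQ⟩ := (IsPGroup.of_card (n := 2) (by rw [Nat.card_zpowers, ht]; norm_num) : IsPGroup 2 ↥(zpowers t)).exists_le_sylow
  obtain ⟨g, hg⟩ := MulAction.exists_smul_eq G P Q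
  have hs' : g * s * g⁻¹ ∈ (Q : Subgroup G) := by
    rw [← hg, Sylow.coe_subgroup_smul, Subgroup.mem_pointwise_smul_iff_inv_smul_mem]
    simpa [MulAut.smul_def, mul_assoc] using hP (mem_zpowers s)
  obtain ⟨e⟩ := dihedral h Q
  have ne : ∀ {x : G} (hx : x ∈ (Q : Subgroup G)), orderOf x = 4 → (e ⟨x, hx⟩) ^ 2 ≠ 1 := fun {x} hx h4 hh => by
    rw [← map_pow, map_eq_one_iff _ e.injective] at hh
    have := orderOf_dvd_of_pow_eq_one (congrArg Subtype.val hh : x ^ 2 = 1)
    rw [h4] at this; omega
  obtain ⟨w, hw⟩ := d4_conj _ _ (ne hs' (by rw [show g * s * g⁻¹ = MulAut.conj g s from rfl, MulEquiv.orderOf_eq, hs]))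
    (ne (hQ (mem_zpowers t)) ht)
  obtain ⟨w, rfl⟩ := e.surjective w
  rw [← map_inv, ← map_mul, ← map_mul] at hw
  refine isConj_iff.2 ⟨(w : G) * g, ?_⟩
  have := congrArg Subtype.val (e.injective hw)
  simpa [mul_assoc] using this

theorem class_seven {x : G} (hx : orderOf x = 7) :
    Nat.card {g : G // IsConj x g} = 24 ∧ ¬ IsConj x x⁻¹ := by
  have : Fact (Nat.Prime 7) := ⟨by norm_num⟩
  have hC : centralizer ({x} : Set G) = zpowers x := le_antisymm
    (fun g hg => mem_zpowers_of_commute h (Or.inr hx) (mem_centralizer_singleton_iff.1 hg))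
    (zpowers_le.2 (mem_centralizer_singleton_iff.2 rfl))
  refine ⟨?_, fun hc => ?_⟩
  · have := (centralizer ({x} : Set G)).card_mul_index
    rw [h, hC, Nat.card_zpowers, hx] at this
    rw [Invol.card_isConj_eq_index, hC]
    omega
  obtain ⟨g, hg⟩ := isConj_iff.1 hc
  obtain ⟨P, hP⟩ := (IsPGroup.of_card (n := 1) (by rw [Nat.card_zpowers, hx, pow_one]) : IsPGroup 7 ↥(zpowers x)).exists_le_sylow
  have he := eq_of_le_of_card_ge hP (by rw [card_seven h P, Nat.card_zpowers, hx])
  have hconj : ∀ n : ℤ, g * x ^ n * g⁻¹ = x ^ (-n) := fun n => by rw [← conj_zpow, hg, inv_zpow, zpow_neg]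
  have hgN : g ∈ normalizer ((P : Subgroup G) : Set G) := by
    rw [← he, mem_normalizer_iff]
    intro y
    constructor
    · rintro ⟨n, rfl⟩
      exact ⟨-n, (hconj n).symm⟩
    · rintro ⟨n, hn⟩
      refine ⟨-n, ?_⟩
      have := hconj (-n)
      rw [neg_neg, show x ^ n = g * y * g⁻¹ from hn] at this
      exact mul_left_cancel (mul_right_cancel this)
  have h21 : orderOf g ∣ 21 := card_normalizer_seven h P ▸ Subgroup.orderOf_dvd_natCard _ hgN
  have h22 : g ^ 2 * x = x * g ^ 2 := by
    have : g * (g * x * g⁻¹) * g⁻¹ = x := by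
      rw [hg]; simpa using hconj (-1)
    calc g ^ 2 * x = g * (g * x * g⁻¹) * g⁻¹ * g ^ 2 := by rw [pow_two]; group
      _ = x * g ^ 2 := by rw [this]
  have hgx : g * x = x * g := by
    obtain ⟨k, hk⟩ := h21
    have hodd : Odd (orderOf g) := Odd.of_dvd_nat (by decide : Odd 21) ⟨k, hk⟩
    obtain ⟨j, hj⟩ := hodd
    have e : g = (g ^ 2) ^ (j + 1) := by
      rw [← pow_mul, show 2 * (j + 1) = (2 * j + 1) + 1 by ring, ← hj, pow_succ, pow_orderOf_eq_one, one_mul]
    rw [e]
    exact (Commute.pow_left h22 (j + 1)).eq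
  rw [hgx, mul_inv_cancel_right] at hg
  have := orderOf_dvd_of_pow_eq_one (show x ^ 2 = 1 by rw [pow_two]; nth_rewrite 2 [hg]; exact mul_inv_cancel x)
  rw [hx] at this
  omega

end

end CfsgLib.Order168
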