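import Cfsg.Agent.Lib.SmallOrder.Order168

/-!
Klein four-groups, their normalisers and the maximal subgroups of a simple group of order 168.
-/

set_option autoImplicit false

namespace CfsgLib.Order168

open Subgroup

theorem mem_map_conj {G : Type*} [Group G] {H : Subgroup G} {g x : G} :
    x ∈ H.map (MulAut.conj g).toMonoidHom ↔ g⁻¹ * x * g ∈ H := by
  constructor
  · rintro ⟨y, hy, rfl⟩
    simpa [mul_assoc] using hy
  · intro hx
    exact ⟨_, hx, by simp [mul_assoc]⟩

theorem card_map_conj {G : Type*} [Group G] (H : Subgroup G) (g : G) :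
    Nat.card (H.map (MulAut.conj g).toMonoidHom) = Nat.card H :=
  card_map_of_injective (MulAut.conj g).injective

theorem map_conj_map {G : Type*} [Group G] (H : Subgroup G) (a b : G) :
    (H.map (MulAut.conj a).toMonoidHom).map (MulAut.conj b).toMonoidHom =
      H.map (MulAut.conj (b * a)).toMonoidHom := by
  ext x
  rw [mem_map_conj, mem_map_conj, mem_map_conj, mul_inv_rev]
  simp only [mul_assoc]

theorem mem_normalizer_map_conj {G : Type*} [Group G] {H : Subgroup G} {g x : G}
    (hx : g⁻¹ * x * g ∈ normalizer (H : Set G)) :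
    x ∈ normalizer (H.map (MulAut.conj g).toMonoidHom : Set G) := by
  rw [mem_normalizer_iff] at hx ⊢
  intro y
  rw [mem_map_conj, mem_map_conj, hx (g⁻¹ * y * g)]
  simp [mul_assoc]

theorem isKleinFour_map_conj {G : Type*} [Group G] {U : Subgroup G} (hU : IsKleinFour U) (g : G) :
    IsKleinFour (U.map (MulAut.conj g).toMonoidHom) := by
  let e := U.equivMapOfInjective (MulAut.conj g).toMonoidHom (MulAut.conj g).injective
  exact ⟨by rw [card_map_conj]; exact hU.card_four,
    by rw [← Monoid.exponent_eq_of_mulEquiv e]; exact hU.exponent_two⟩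

theorem isKleinFour_of_card {G : Type*} [Group G] {U : Subgroup G} (hc : Nat.card U = 4)
    (h2 : ∀ x ∈ U, x ^ 2 = 1) : IsKleinFour U := by
  have : Finite U := Nat.finite_of_card_ne_zero (by omega)
  refine ⟨hc, ?_⟩
  have hd : Monoid.exponent U ∣ 2 :=
    Monoid.exponent_dvd_of_forall_pow_eq_one fun x => Subtype.ext (h2 x x.2)
  rcases (Nat.dvd_prime Nat.prime_two).1 hd with h | h
  · have := Monoid.exp_eq_one_iff.1 h
    rw [Nat.card_unique] at hc
    omega
  · exact h

theorem sq_eq_one_of_isKleinFour {G : Type*} [Group G] {U : Subgroup G} (hU : IsKleinFour U) {x : G}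
    (hx : x ∈ U) : x ^ 2 = 1 := by
  have := Monoid.pow_exponent_eq_one (⟨x, hx⟩ : U)
  rw [hU.exponent_two] at this
  exact congrArg Subtype.val this

open Equiv Perm in
theorem s4_klein : (Finset.univ.filter fun x : Perm (Fin 4) => x * x = 1 ∧ sign x = 1).card = 4 ∧
    (∀ x y : Perm (Fin 4), x * x = 1 → sign x = 1 → y * y = 1 → sign y = 1 →
      x * y * (x * y) = 1) ∧
    ∀ g x : Perm (Fin 4), x * x = 1 → sign x = 1 → g * x * g⁻¹ * (g * x * g⁻¹) = 1 := by
  refine ⟨by decide +kernel, by decide +kernel, fun g x hx _ => ?_⟩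
  calc g * x * g⁻¹ * (g * x * g⁻¹) = g * (x * x) * g⁻¹ := by group
    _ = 1 := by rw [hx]; group

/-- The normal Klein four-group of the symmetric group of degree 4. -/
def v4 : Subgroup (Equiv.Perm (Fin 4)) where
  carrier := {x | x * x = 1 ∧ Equiv.Perm.sign x = 1}
  one_mem' := ⟨by simp, by simp⟩
  mul_mem' := fun {a b} ha hb => ⟨s4_klein.2.1 a b ha.1 ha.2 hb.1 hb.2, by rw [map_mul, ha.2, hb.2, one_mul]⟩
  inv_mem' := fun {a} ha => ⟨by rw [← mul_inv_rev, ha.1, inv_one], by rw [map_inv, ha.2, inv_one]⟩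

theorem v4_card : Nat.card v4 = 4 := by
  classical
  refine (Nat.card_congr (Equiv.subtypeEquivRight (q := fun x : Equiv.Perm (Fin 4) =>
    x * x = 1 ∧ Equiv.Perm.sign x = 1) fun x => Iff.rfl)).trans ?_
  rw [Nat.card_eq_fintype_card, Fintype.card_subtype, s4_klein.1]

theorem v4_normal : v4.Normal := ⟨fun x hx g => ⟨s4_klein.2.2 g x hx.1 hx.2, by
  rw [map_mul, map_mul, map_inv, hx.2, mul_one, mul_inv_cancel]⟩⟩

variable {G : Type*} [Group G] [Finite G] [IsSimpleGroup G]

section
variable (h : Nat.card G = 168)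
include h

/-- The Klein four-groups of a Sylow 2-subgroup. -/
theorem klein_in_sylow (T : Sylow 2 G) : ∃ U₁ U₂ : Subgroup G, U₁ ≠ U₂ ∧ U₁ ≤ T ∧ U₂ ≤ T ∧
    IsKleinFour U₁ ∧ IsKleinFour U₂ ∧
    ∀ U : Subgroup G, U ≤ T → IsKleinFour U → U = U₁ ∨ U = U₂ := by
  classical
  obtain ⟨e⟩ := dihedral h T
  let f : DihedralGroup 4 →* G := (T : Subgroup G).subtype.comp e.symm.toMonoidHom
  have hf : Function.Injective f := (T : Subgroup G).subtype_injective.comp e.symm.injective
  let K : ZMod 4 → Subgroup (DihedralGroup 4) := fun i => centralizer {DihedralGroup.sr i}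
  have hKmem : ∀ i y, y ∈ K i ↔ y * DihedralGroup.sr i = DihedralGroup.sr i * y :=
    fun i y => mem_centralizer_singleton_iff
  have hKle : ∀ i, (K i).map f ≤ T := fun i => by rintro _ ⟨y, -, rfl⟩; exact (e.symm y).2
  have hKl : ∀ i, IsKleinFour ((K i).map f) := fun i => by
    refine isKleinFour_of_card ?_ ?_
    · rw [card_map_of_injective hf, Nat.card_congr (Equiv.subtypeEquivRight (q := fun y : DihedralGroup 4 =>
        y * DihedralGroup.sr i = DihedralGroup.sr i * y) (hKmem i)), Nat.card_eq_fintype_card,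
        Fintype.card_subtype, (d4_two_sets i).1]
    · rintro _ ⟨y, hy, rfl⟩
      rw [← map_pow, (d4_two_sets i).2 y ((hKmem i y).1 hy), map_one]
  refine ⟨(K 0).map f, (K 1).map f, fun he => ?_, hKle 0, hKle 1, hKl 0, hKl 1, fun U hU hUK => ?_⟩
  · obtain ⟨y, hy0, hy1⟩ := d4_sets_ne
    exact hy1 ((hKmem 1 y).1 (map_injective hf he ▸ (hKmem 0 y).2 hy0))
  set W := U.comap f with hW
  have hWU : W.map f = U := by
    rw [hW, map_comap_eq_self]
    intro x hx
    exact ⟨e ⟨x, hU hx⟩, by simp [f]⟩
  have hWc : Nat.card W = 4 := by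
    rw [← card_map_of_injective (H := G) (K := W) hf, hWU]; exact hUK.card_four
  have hW2 : ∀ y ∈ W, y ^ 2 = 1 := fun y hy => hf (by
    rw [map_pow, map_one]; exact sq_eq_one_of_isKleinFour hUK hy)
  obtain ⟨y, hy, hy1, hy2⟩ : ∃ y ∈ W, y ≠ 1 ∧ y ≠ DihedralGroup.r 2 := by
    by_contra hcon
    push Not at hcon
    have : Nat.card W ≤ Nat.card ({1, DihedralGroup.r 2} : Finset (DihedralGroup 4)) :=
      Nat.card_le_card_of_injective (fun z => ⟨(z : DihedralGroup 4), by
        by_cases hz : (z : DihedralGroup 4) = 1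
        · simp [hz]
        · simp [hcon z z.2 hz]⟩) (fun a b hab => Subtype.ext (by simpa using hab))
    rw [hWc, Nat.card_eq_fintype_card, Fintype.card_coe] at this
    exact absurd (this.trans Finset.card_le_two) (by norm_num)
  have hWcomm : ∀ z ∈ W, z * y = y * z := fun z hz => by
    have hi : ∀ w ∈ W, w⁻¹ = w := fun w hw => inv_eq_of_mul_eq_one_right (by rw [← pow_two]; exact hW2 w hw)
    calc z * y = (z * y)⁻¹ := (hi _ (mul_mem hz hy)).symm
      _ = y * z := by rw [mul_inv_rev, hi _ hy, hi _ hz]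
  have key : ∀ i, (∀ z, z * y = y * z ↔ z * DihedralGroup.sr i = DihedralGroup.sr i * z) →
      U = (K i).map f := fun i hi => by
    rw [← hWU]
    congr 1
    refine eq_of_le_of_card_ge (fun z hz => (hKmem i z).2 ((hi z).1 (hWcomm z hz))) ?_
    have hc := (hKl i).card_four
    rw [card_map_of_injective hf] at hc
    exact (hc.trans hWc.symm).le
  rcases d4_klein y hy1 (hW2 y hy) hy2 with hi | hi
  · exact Or.inl (key 0 hi)
  · exact Or.inr (key 1 hi)

theorem exists_sylow_ge_klein {U : Subgroup G} (hU : IsKleinFour U) : ∃ T : Sylow 2 G, U ≤ T :=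
  (IsPGroup.of_card (n := 2) (by rw [hU.card_four]; norm_num) : IsPGroup 2 ↥U).exists_le_sylow

theorem sylow_le_normalizer_klein {U : Subgroup G} (hU : IsKleinFour U) {T : Sylow 2 G} (hle : U ≤ T) :
    (T : Subgroup G) ≤ normalizer (U : Set G) := by
  have := normal_of_index_eq_two (H := U.subgroupOf (T : Subgroup G)) (by
    have h1 := (U.subgroupOf (T : Subgroup G)).card_mul_index
    rw [Nat.card_congr (subgroupOfEquivOfLe hle).toEquiv, hU.card_four, card_two h] at h1
    omega)
  exact (normal_subgroupOf_iff_le_normalizer hle).1 this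

theorem card_normalizer_klein {U : Subgroup G} (hU : IsKleinFour U) :
    Nat.card (normalizer (U : Set G)) = 24 := by
  obtain ⟨T, hT⟩ := exists_sylow_ge_klein h hU
  have hTN := sylow_le_normalizer_klein h hU hT
  obtain ⟨z, -, -, -, huniq, -⟩ := exists_central h T
  obtain ⟨u, hu, hu1, huz⟩ : ∃ u ∈ U, u ≠ 1 ∧ u ≠ z := by
    by_contra hcon
    push Not at hcon
    classical
    have : Nat.card U ≤ Nat.card ({1, z} : Finset G) :=
      Nat.card_le_card_of_injective (fun x => ⟨(x : G), by
        by_cases hx : (x : G) = 1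
        · simp [hx]
        · simp [hcon x x.2 hx]⟩) (fun a b hab => Subtype.ext (by simpa using hab))
    rw [hU.card_four, Nat.card_eq_fintype_card, Fintype.card_coe] at this
    exact absurd (this.trans Finset.card_le_two) (by norm_num)
  have ho : orderOf u = 2 := orderOf_eq_prime (sq_eq_one_of_isKleinFour hU hu) hu1
  obtain ⟨T', hT'⟩ := involution_central h ho
  have hUT' : U ≤ T' := fun x hx => by
    rw [← hT', mem_centralizer_singleton_iff]
    have := (IsKleinFour.isMulCommutative (G := U)).is_comm.comm ⟨x, hx⟩ ⟨u, hu⟩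
    exact congrArg Subtype.val this
  have hne : T ≠ T' := by
    rintro rfl
    exact huz (huniq u (hT hu) hu1 fun t ht => mem_centralizer_singleton_iff.1 (hT'.symm ▸ ht))
  obtain ⟨n, hn2, hn1, hd⟩ := SmallOrder.dvd_card_of_two_sylow T T' hne hTN (sylow_le_normalizer_klein h hU hUT')
  have hnt : normalizer (U : Set G) ≠ ⊤ := fun htop => by
    have hnorm : U.Normal := normalizer_eq_top_iff.1 htop
    rcases hnorm.eq_bot_or_eq_top with hb | ht <;> have := hU.card_four
    · rw [hb, card_bot] at this; omega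
    · rw [ht, card_top, h] at this; omega
  have hle := card_le_of_ne_top h hnt
  have h168 := card_subgroup_dvd_card (normalizer (U : Set G))
  rw [h] at h168
  rw [card_two h T] at hd
  generalize Nat.card (normalizer (U : Set G)) = c at *
  have hc0 : c ≠ 0 := by rintro rfl; simp at h168
  obtain ⟨k, rfl⟩ := hd
  have hn3 : 3 ≤ n := by omega
  have : 8 * n ≤ 8 * n * k := Nat.le_mul_of_pos_right _ (Nat.pos_of_ne_zero fun h0 => hc0 (by simp [h0]))
  have hk : k = 1 := by nlinarith
  subst hk
  omega

/-- In a subgroup of order divisible by 3 but not contained in the normaliser of order 6: the Sylow 3-subgroups. -/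
theorem four_sylow_three [Fact (Nat.Prime 3)] {L : Subgroup G} (hL : Nat.card L = 24 ∨ Nat.card L = 12) :
    Nat.card (Sylow 3 L) = 4 ∧ ∀ P : Sylow 3 L, Nat.card ↥(P : Subgroup L) = 3 := by
  have hP : ∀ P : Sylow 3 L, Nat.card ↥(P : Subgroup L) = 3 := fun P => by
    rcases hL with hL | hL
    · simpa using SmallOrder.card_sylow_eq (e := 1) (m := 8) (by rw [hL]; norm_num) (by norm_num) P
    · simpa using SmallOrder.card_sylow_eq (e := 1) (m := 4) (by rw [hL]; norm_num) (by norm_num) P
  refine ⟨?_, hP⟩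
  obtain ⟨P⟩ := (inferInstance : Nonempty (Sylow 3 L))
  have hd := P.card_dvd_index
  have hi := (P : Subgroup L).card_mul_index
  rw [hP P] at hi
  have hm := card_sylow_modEq_one 3 L
  have hne : Nat.card (Sylow 3 L) ≠ 1 := by
    intro h1
    have hN := P.card_eq_index_normalizer
    rw [h1, eq_comm, index_eq_one] at hN
    have hnorm : (P : Subgroup L).Normal := normalizer_eq_top_iff.1 hN
    obtain ⟨Q, hQ⟩ := (P.2.map L.subtype).exists_le_sylow
    have he : (P : Subgroup L).map L.subtype = Q := eq_of_le_of_card_ge hQ (by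
      rw [card_three h Q, card_map_of_injective L.subtype_injective, hP P])
    have hle : L ≤ normalizer ((Q : Subgroup G) : Set G) := by
      rw [← he]
      have := le_normalizer_map (H := (P : Subgroup L)) L.subtype
      rwa [show normalizer ((P : Subgroup L) : Set L) = ⊤ from normalizer_eq_top_iff.2 hnorm, ← MonoidHom.range_eq_map, L.range_subtype] at this
    have := card_le_of_le hle
    rw [card_normalizer_three h Q] at this
    omega
  have hle := Nat.le_of_dvd (by omega) hd
  unfold Nat.ModEq at hm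
  generalize Nat.card (Sylow 3 L) = n at *
  generalize (P : Subgroup L).index = i at *
  rcases hL with hL | hL <;> rw [hL] at hi <;> obtain rfl : i = _ := (Nat.eq_div_of_mul_eq_right (by norm_num) hi) <;>
    norm_num at hd hle <;> interval_cases n <;> omega

/-- A subgroup of order 24 is symmetric of degree 4. -/
theorem iso_perm {L : Subgroup G} (hL : Nat.card L = 24) : Nonempty (L ≃* Equiv.Perm (Fin 4)) := by
  have : Fact (Nat.Prime 3) := ⟨Nat.prime_three⟩
  obtain ⟨hn, hP⟩ := four_sylow_three h (Or.inl hL)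
  let f := MulAction.toPermHom L (Sylow 3 L)
  have hK : f.ker = ⊥ := by
    have hmem : ∀ k ∈ f.ker, ∀ P : Sylow 3 L, k ∈ normalizer ((P : Subgroup L) : Set L) := fun k hk P =>
      Sylow.smul_eq_iff_mem_normalizer.1 (Equiv.ext_iff.1 (MonoidHom.mem_ker.1 hk) P)
    -- no element of order 3
    have h3 : ∀ k ∈ f.ker, orderOf k ≠ 3 := by
      intro k hk hk3
      have hz : IsPGroup 3 ↥(zpowers k) := IsPGroup.of_card (n := 1) (by rw [Nat.card_zpowers, hk3, pow_one])
      have heq : ∀ P : Sylow 3 L, zpowers k = (P : Subgroup L) := fun P => by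
        refine eq_of_le_of_card_ge (zpowers_le.2 ?_) (by rw [hP, Nat.card_zpowers, hk3])
        exact ((IsPGroup.inf_normalizer_sylow hz P).le ⟨mem_zpowers k, hmem k hk P⟩).2
      have : Subsingleton (Sylow 3 L) := ⟨fun P Q => Sylow.ext ((heq P).symm.trans (heq Q))⟩
      have := Finite.card_le_one_iff_subsingleton.2 this
      omega
    -- an element k of the kernel commutes with every x of order 3
    rw [Subgroup.eq_bot_iff_forall]
    intro k hk
    obtain ⟨P⟩ := (inferInstance : Nonempty (Sylow 3 L))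
    obtain ⟨⟨x, hxP⟩, hx⟩ := exists_prime_orderOf_dvd_card' 3 (G := ↥(P : Subgroup L)) (by rw [hP])
    rw [orderOf_mk] at hx
    set c := k * x * k⁻¹ * x⁻¹ with hc
    have hcP : c ∈ (P : Subgroup L) := mul_mem ((mem_normalizer_iff.1 (hmem k hk P) x).1 hxP) (inv_mem hxP)
    have hcK : c ∈ f.ker := by
      have : x * k⁻¹ * x⁻¹ ∈ f.ker := (MonoidHom.normal_ker f).conj_mem _ (inv_mem hk) x
      simpa [hc, mul_assoc] using mul_mem hk this
    have hc1 : c = 1 := by
      have hd : orderOf c ∣ 3 := hP P ▸ Subgroup.orderOf_dvd_natCard _ hcP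
      rcases (Nat.dvd_prime Nat.prime_three).1 hd with h1 | h1
      · exact orderOf_eq_one_iff.1 h1
      · exact absurd h1 (h3 c hcK)
    have hcomm : (k : G) * (x : G) = (x : G) * (k : G) := by
      exact congrArg Subtype.val (mul_inv_eq_iff_eq_mul.1 (mul_inv_eq_one.1 hc1))
    have hm := mem_zpowers_of_commute h (Or.inl (by rw [orderOf_coe, hx])) hcomm
    have hd : orderOf k ∣ 3 := by
      have h5 := Subgroup.orderOf_dvd_natCard _ hm
      rwa [Nat.card_zpowers, orderOf_coe, orderOf_coe, hx] at h5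
    rcases (Nat.dvd_prime Nat.prime_three).1 hd with h1 | h1
    · exact orderOf_eq_one_iff.1 h1
    · exact absurd h1 (h3 k hk)
  have hf : Function.Injective f := (MonoidHom.ker_eq_bot_iff f).1 hK
  have hcard : Nat.card L = Nat.card (Equiv.Perm (Sylow 3 L)) := by rw [hL, Nat.card_perm, hn]; rfl
  exact ⟨(MulEquiv.ofBijective f ((Nat.bijective_iff_injective_and_card f).2 ⟨hf, hcard⟩)).trans
    (Finite.equivFinOfCardEq hn).permCongrHom⟩

/-- A subgroup of order 24 is the normaliser of a Klein four-group. -/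
theorem exists_klein_of_card {L : Subgroup G} (hL : Nat.card L = 24) :
    ∃ U : Subgroup G, IsKleinFour U ∧ L = normalizer (U : Set G) := by
  obtain ⟨e⟩ := iso_perm h hL
  let f : Equiv.Perm (Fin 4) →* G := L.subtype.comp e.symm.toMonoidHom
  have hf : Function.Injective f := L.subtype_injective.comp e.symm.injective
  have hU : IsKleinFour (v4.map f) := isKleinFour_of_card (by rw [card_map_of_injective hf, v4_card]) (by
    rintro _ ⟨y, hy, rfl⟩
    rw [← map_pow, pow_two, hy.1, map_one])
  refine ⟨v4.map f, hU, eq_of_le_of_card_ge ?_ (by rw [card_normalizer_klein h hU, hL])⟩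
  have hle := le_normalizer_map (H := v4) f
  rw [normalizer_eq_top_iff.2 v4_normal, ← MonoidHom.range_eq_map] at hle
  intro x hx
  exact hle ⟨e ⟨x, hx⟩, by simp [f]⟩

/-- Klein four-groups of one Sylow subgroup are not fused. -/
theorem klein_conj_eq {T : Sylow 2 G} {U W : Subgroup G} (hU : U ≤ T) (hW : W ≤ T) (hUK : IsKleinFour U)
    (hWK : IsKleinFour W) {g : G} (hg : U.map (MulAut.conj g).toMonoidHom = W) : U = W := by
  set N := normalizer (W : Set G)
  have hTN : (T : Subgroup G) ≤ N := sylow_le_normalizer_klein h hWK hW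
  have hgT : ((g • T : Sylow 2 G) : Subgroup G) ≤ N := by
    intro x hx
    rw [Sylow.coe_subgroup_smul, Subgroup.mem_pointwise_smul_iff_inv_smul_mem] at hx
    have hx' : g⁻¹ * x * g ∈ normalizer (U : Set G) :=
      sylow_le_normalizer_klein h hUK hU (by simpa [MulAut.smul_def] using hx)
    show x ∈ normalizer (W : Set G)
    rw [← hg]
    exact mem_normalizer_map_conj hx'
  obtain ⟨n, hn⟩ := MulAction.exists_smul_eq N ((g • T : Sylow 2 G).subtype hgT) (T.subtype hTN)
  rw [Sylow.smul_subtype] at hn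
  have hn' := Sylow.subtype_injective hn
  rw [Subgroup.smul_def, smul_smul] at hn'
  have hng : (n : G) * g ∈ (T : Subgroup G) := normalizer_two h T ▸ Sylow.smul_eq_iff_mem_normalizer.1 hn'
  have hngU := sylow_le_normalizer_klein h hUK hU hng
  ext x
  rw [mem_normalizer_iff.1 hngU x]
  constructor
  · intro hx
    have h1 : g * x * g⁻¹ ∈ W := by rw [← hg, mem_map_conj]; simpa [mul_assoc] using (mem_normalizer_iff.1 hngU x).2 hx
    have h2 := (mem_normalizer_iff.1 n.2 _).1 h1
    have h3 : (n : G) * g * x * ((n : G) * g)⁻¹ ∈ W := by simpa [mul_assoc] using h2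
    have h4 := (mem_normalizer_iff.1 (hTN hng) x).2 h3
    exact h4
  · intro hx
    have h3 := (mem_normalizer_iff.1 (hTN hng) x).1 hx
    have h2 : (n : G) * (g * x * g⁻¹) * (n : G)⁻¹ ∈ W := by simpa [mul_assoc] using h3
    have h1 := (mem_normalizer_iff.1 n.2 _).2 h2
    rw [← hg, mem_map_conj] at h1
    exact (mem_normalizer_iff.1 hngU x).1 (by simpa [mul_assoc] using h1)

end

end CfsgLib.Order168
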