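import Cfsg.Agent.Lib.SmallOrder.Auto

/-!
There is no simple group of order `5400`.
-/

set_option autoImplicit false

namespace CfsgLib.SmallOrder.Order5400

open Subgroup Pointwise

variable {G : Type*} [Group G] [Finite G]

/-- An element of order `3` normalising a subgroup of order `5` centralises it. -/
theorem commute_of_order_three {y : G} (hy : y ^ 3 = 1) {D : Subgroup G} (hD : Nat.card D = 5)
    (hfix : MulAut.conj y • D = D) : ∀ x ∈ D, Commute y x := by
  have : Fact (Nat.Prime 5) := ⟨by norm_num⟩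
  obtain ⟨⟨s, hs⟩, hso⟩ := exists_prime_orderOf_dvd_card' (G := D) 5 (by rw [hD])
  rw [orderOf_mk] at hso
  have hz : zpowers s = D := eq_of_le_of_card_ge (zpowers_le.2 hs) (by rw [Nat.card_zpowers, hso, hD])
  have hmem : y * s * y⁻¹ ∈ zpowers s := by
    rw [hz, ← hfix]
    exact smul_mem_pointwise_smul s (MulAut.conj y) D hs
  obtain ⟨j', hj'⟩ := mem_powers_iff_mem_zpowers.2 hmem
  change s ^ j' = y * s * y⁻¹ at hj'
  rw [← pow_mod_orderOf, hso] at hj'
  set j := j' % 5
  have hit : ∀ k : ℕ, y ^ k * s * (y ^ k)⁻¹ = s ^ j ^ k := by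
    intro k
    induction k with
    | zero => simp
    | succ k ih =>
      rw [pow_succ', show y * y ^ k * s * (y * y ^ k)⁻¹ = y * (y ^ k * s * (y ^ k)⁻¹) * y⁻¹ by group, ih,
        ← conj_pow, ← hj', ← pow_mul, pow_succ']
  have h3 := hit 3
  rw [hy, one_mul, inv_one, mul_one] at h3
  conv_lhs at h3 => rw [← pow_one s]
  rw [pow_eq_pow_iff_modEq, hso] at h3
  have hj1 : j = 1 :=
    (by decide : ∀ j, j < 5 → 1 % 5 = j ^ 3 % 5 → j = 1) j (Nat.mod_lt _ (by norm_num)) h3
  rw [hj1, pow_one] at hj'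
  intro x hx
  rw [← hz] at hx
  obtain ⟨n, rfl⟩ := mem_zpowers_iff.1 hx
  exact (show Commute y s from mul_inv_eq_iff_eq_mul.1 hj'.symm).zpow_right n

variable [IsSimpleGroup G] [Fact (Nat.Prime 5)]

theorem card_sylow (hN : Nat.card G = 5400) (R : Sylow 5 G) : Nat.card ↥(R : Subgroup G) = 25 := by
  simpa using card_sylow_eq (e := 2) (m := 216) (by rw [hN]; norm_num) (by norm_num) R

theorem comm_sylow (hN : Nat.card G = 5400) (R : Sylow 5 G) : IsMulCommutative ↥(R : Subgroup G) :=
  isMulCommutative_of_card_eq_prime_or_sq R (Or.inr (card_sylow hN R))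

theorem card_sylow_number (hN : Nat.card G = 5400) : Nat.card (Sylow 5 G) = 36 := by
  have h := card_sylow_mem_sylowCands (p := 5) (e := 2) (m := 216) hN (by norm_num) (by norm_num)
    two_pos (by norm_num)
  rw [show sylowCands 5400 5 216 = [36, 216] by decide +kernel] at h
  rcases List.mem_cons.1 h with h | h
  · exact h
  exfalso
  rw [List.mem_singleton] at h
  obtain ⟨P⟩ := (inferInstance : Nonempty (Sylow 5 G))
  have h1 := card_normalizer_mul P
  rw [h, hN] at h1
  refine not_normalizer_le_centralizer (hN ▸ by norm_num : 5 ∣ Nat.card G) P (fun ht => ?_) ?_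
  · have := card_sylow hN P
    rw [ht, card_top, hN] at this
    omega
  · have heq : (P : Subgroup G) = normalizer ((P : Subgroup G) : Set G) :=
      eq_of_le_of_card_ge le_normalizer (by rw [card_sylow hN P]; omega)
    rw [← heq]
    exact fun x hx => mem_centralizer_iff.2 fun y hy =>
      congrArg Subtype.val ((comm_sylow hN P).is_comm.comm ⟨y, hy⟩ ⟨x, hx⟩)

omit [IsSimpleGroup G] in
/-- the Sylow subgroups containing `D` are those of its centraliser -/
theorem card_over (hN : Nat.card G = 5400) [IsSimpleGroup G] {D : Subgroup G} :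
    Nat.card {R : Sylow 5 G // D ≤ (R : Subgroup G)} ≤ Nat.card (Sylow 5 (centralizer (D : Set G))) ∧
    ((∃ R : Sylow 5 G, D ≤ (R : Subgroup G)) →
      Nat.card {R : Sylow 5 G // D ≤ (R : Subgroup G)} = Nat.card (Sylow 5 (centralizer (D : Set G)))) := by
  have hle : ∀ R : Sylow 5 G, D ≤ (R : Subgroup G) → (R : Subgroup G) ≤ centralizer (D : Set G) :=
    fun R hR x hx => mem_centralizer_iff.2 fun y hy =>
      congrArg Subtype.val ((comm_sylow hN R).is_comm.comm ⟨y, hR hy⟩ ⟨x, hx⟩)
  let F : {R : Sylow 5 G // D ≤ (R : Subgroup G)} → Sylow 5 (centralizer (D : Set G)) :=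
    fun R => R.1.subtype (hle R.1 R.2)
  have hinj : Function.Injective F := by
    rintro ⟨R, hR⟩ ⟨R', hR'⟩ h
    apply Subtype.ext
    apply Sylow.ext
    have h' : (R : Subgroup G).subgroupOf (centralizer (D : Set G)) =
        (R' : Subgroup G).subgroupOf (centralizer (D : Set G)) := congrArg Sylow.toSubgroup h
    rw [← map_subgroupOf_eq_of_le (hle R hR), h', map_subgroupOf_eq_of_le (hle R' hR')]
  refine ⟨Nat.card_le_card_of_injective F hinj, ?_⟩
  rintro ⟨R₀, hR₀⟩
  refine Nat.card_eq_of_bijective F ⟨hinj, fun Q => ?_⟩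
  obtain ⟨a, ha⟩ := MulAction.exists_smul_eq (centralizer (D : Set G)) (R₀.subtype (hle R₀ hR₀)) Q
  have hDa : D ≤ ((a : G) • R₀ : Sylow 5 G) := by
    intro x hx
    rw [Sylow.coe_subgroup_smul]
    have hax : (a : G)⁻¹ * x * a = x := by
      rw [mul_assoc, mem_centralizer_iff.1 a.2 x hx, inv_mul_cancel_left]
    rw [mem_pointwise_smul_iff_inv_smul_mem]
    change (MulAut.conj (a : G))⁻¹ x ∈ (R₀ : Subgroup G)
    rw [MulAut.conj_inv_apply, hax]
    exact hR₀ hx
  refine ⟨⟨(a : G) • R₀, hDa⟩, ?_⟩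
  rw [← ha]
  exact (Sylow.smul_subtype (hle R₀ hR₀) a).symm

/-- the number of Sylow subgroups over a subgroup of order `5` is `1` or `6` -/
theorem card_over_cases (hN : Nat.card G = 5400) {D : Subgroup G} (hD : Nat.card D = 5) (P : Sylow 5 G)
    (hDP : D ≤ (P : Subgroup G)) :
    (Nat.card {R : Sylow 5 G // D ≤ (R : Subgroup G)} = 1 ∨
      Nat.card {R : Sylow 5 G // D ≤ (R : Subgroup G)} = 6) ∧
    Nat.card ↥(centralizer (D : Set G)) ≤ 540 := by
  have hG : ¬ IsMulCommutative G := not_comm_of_not_prime (by rw [hN]; norm_num)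
  have hD1 : D ≠ ⊥ := fun h => by rw [h, card_bot] at hD; omega
  set C := centralizer (D : Set G) with hC
  have hPC : (P : Subgroup G) ≤ C := fun x hx => mem_centralizer_iff.2 fun y hy =>
    congrArg Subtype.val ((comm_sylow hN P).is_comm.comm ⟨y, hDP hy⟩ ⟨x, hx⟩)
  have hfact := two_mul_card_dvd_factorial hG (centralizer_ne_top hG hD1)
  rw [← hC, hN] at hfact
  have hidx := C.card_mul_index
  rw [hN] at hidx
  have h10 : 10 ≤ C.index := by
    by_contra hlt
    have h9 : 2 * 5400 ∣ (9 : ℕ).factorial := hfact.trans (Nat.factorial_dvd_factorial (by omega))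
    norm_num [Nat.factorial] at h9
  have h540 : Nat.card C ≤ 540 := by
    have : Nat.card C * 10 ≤ Nat.card C * C.index := Nat.mul_le_mul_left _ h10
    omega
  refine ⟨?_, h540⟩
  rw [(card_over hN).2 ⟨P, hDP⟩, ← hC]
  set P' : Sylow 5 C := P.subtype hPC with hP'
  have hcP' : Nat.card ↥(P' : Subgroup C) = 25 :=
    (Nat.card_congr (subgroupOfEquivOfLe hPC).toEquiv).trans (card_sylow hN P)
  have h25 := (P' : Subgroup C).card_mul_index
  rw [hcP'] at h25
  have hdvd : Nat.card (Sylow 5 C) ∣ (P' : Subgroup C).index := P'.card_dvd_index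
  have hidx216 : (P' : Subgroup C).index ∣ 216 := by
    have h1 : 25 * (P' : Subgroup C).index ∣ 25 * 216 := by
      rw [h25]; exact ⟨C.index, hidx.symm⟩
    exact Nat.dvd_of_mul_dvd_mul_left (by norm_num) h1
  have hle : Nat.card (Sylow 5 C) ≤ 21 := by
    have := Nat.le_of_dvd (Nat.pos_of_ne_zero index_ne_zero_of_finite) hdvd
    omega
  have h1 := card_sylow_modEq_one 5 C
  exact (by decide : ∀ n ∈ Nat.divisors 216, n % 5 = 1 → n ≤ 21 → n = 1 ∨ n = 6) _
    (Nat.mem_divisors.2 ⟨hdvd.trans hidx216, by norm_num⟩) h1 hle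

/-- There is no simple group of order `5400`. -/
theorem card_ne : Nat.card G ≠ 5400 := by
  classical
  intro hN
  have : Fact (Nat.Prime 3) := ⟨Nat.prime_three⟩
  have : Fact (Nat.Prime 2) := ⟨Nat.prime_two⟩
  obtain ⟨P⟩ := (inferInstance : Nonempty (Sylow 5 G))
  have hP := card_sylow hN P
  have hn := card_sylow_number hN
  let L := {D : Subgroup G // D ≤ (P : Subgroup G) ∧ Nat.card D = 5}
  let over : Subgroup G → ℕ := fun D => Nat.card {R : Sylow 5 G // D ≤ (R : Subgroup G)}
  have hline : ∀ u ∈ (P : Subgroup G), u ≠ 1 → ∃ D : L, D.1 ≤ zpowers u := by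
    intro u hu hu1
    obtain ⟨⟨v, hv⟩, hvo⟩ := exists_prime_orderOf_dvd_card' (G := zpowers u) 5 (by
      rw [Nat.card_zpowers]
      have h := orderOf_dvd_natCard _ hu
      rw [hP] at h
      obtain ⟨k, hk, hk'⟩ := (Nat.dvd_prime_pow (by norm_num : Nat.Prime 5)).1 (show orderOf u ∣ 5 ^ 2 from h)
      rcases k with _ | k
      · exact absurd (orderOf_eq_one_iff.1 hk') hu1
      · rw [hk']; exact dvd_pow_self 5 (by omega))
    rw [orderOf_mk] at hvo
    exact ⟨⟨zpowers v, zpowers_le.2 (zpowers_le.2 hu hv), by rw [Nat.card_zpowers, hvo]⟩, zpowers_le.2 hv⟩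
  have hinj : ∀ D E : L, D ≠ E → D.1 ⊓ E.1 = ⊥ := by
    intro D E hDE
    by_contra h
    have h1 : Nat.card ↥(D.1 ⊓ E.1) = 5 := by
      refine ((Nat.dvd_prime (by norm_num : Nat.Prime 5)).1 ((card_dvd_of_le inf_le_left).trans D.2.2.dvd)).resolve_left ?_
      rwa [← card_eq_one] at h
    exact hDE (Subtype.ext ((eq_of_le_of_card_ge inf_le_left (by rw [h1, D.2.2])).symm.trans
      (eq_of_le_of_card_ge inf_le_right (by rw [h1, E.2.2]))))
  have hgen : ∀ D E : L, D ≠ E → ∀ H : Subgroup G, D.1 ≤ H → E.1 ≤ H → (P : Subgroup G) ≤ H := by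
    intro D E hDE H hDH hEH
    have hcard : Nat.card (D.1 × E.1) ≤ Nat.card ↥((P : Subgroup G) ⊓ H) := by
      refine Nat.card_le_card_of_injective (fun x => ⟨x.1.1 * x.2.1,
        mul_mem (D.2.1 x.1.2) (E.2.1 x.2.2), mul_mem (hDH x.1.2) (hEH x.2.2)⟩) ?_
      intro x x' hxx
      exact mul_injective_of_disjoint (disjoint_iff.2 (hinj D E hDE)) (congrArg Subtype.val hxx)
    rw [Nat.card_prod, D.2.2, E.2.2] at hcard
    exact inf_eq_left.1 (eq_of_le_of_card_ge inf_le_left (by rw [hP]; exact hcard))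
  have hL6 : Nat.card L ≤ 6 := by
    have hdis : Function.Injective (fun x : Σ D : L, {v : D.1 // v ≠ 1} =>
        (⟨⟨(x.2.1 : G), x.1.2.1 x.2.1.2⟩, fun h => x.2.2 (Subtype.ext (congrArg Subtype.val h :))⟩ :
          {w : ↥(P : Subgroup G) // w ≠ 1})) := by
      rintro ⟨D, ⟨⟨v, hv⟩, hv1⟩⟩ ⟨E, ⟨⟨w, hw⟩, hw1⟩⟩ h
      have hvw : v = w := congrArg (fun z : {w : ↥(P : Subgroup G) // w ≠ 1} => (z.1 : G)) h
      subst hvw
      by_cases hDE : D = E
      · subst hDE; rfl
      · have hb : v ∈ D.1 ⊓ E.1 := ⟨hv, hw⟩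
        rw [hinj D E hDE, mem_bot] at hb
        exact absurd (Subtype.ext hb) hv1
    have h := Nat.card_le_card_of_injective _ hdis
    have h4 : ∀ (K : Subgroup G), Nat.card {v : K // v ≠ 1} = Nat.card K - 1 := by
      intro K
      have := Fintype.ofFinite K
      simp [Nat.card_eq_fintype_card, Fintype.card_subtype_compl]
    have := Fintype.ofFinite L
    rw [Nat.card_sigma, Finset.sum_congr rfl (fun D _ => by rw [h4, D.2.2]), Finset.sum_const,
      Finset.card_univ, ← Nat.card_eq_fintype_card, smul_eq_mul, h4, hP] at h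
    omega
  -- counting
  let X := {D : L // over D.1 = 6}
  have hx : ∃ q, 35 = 25 * q + 5 * Nat.card X := by
    let A := {R : Sylow 5 G // R ≠ P}
    let isFree : A → Prop := fun R => ∀ D : L, ¬ D.1 ≤ (R.1 : Subgroup G)
    let α := {R : A // isFree R}
    have hpres : ∀ u ∈ (P : Subgroup G), ∀ R : Sylow 5 G, R ≠ P → u • R ≠ P := by
      intro u hu R hR h
      exact hR (MulAction.injective u (h.trans (smul_eq_self_iff.2 (le_normalizer hu)).symm))
    have hpres2 : ∀ u ∈ (P : Subgroup G), ∀ (D : L) (R : Sylow 5 G),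
        D.1 ≤ ((u • R : Sylow 5 G) : Subgroup G) → D.1 ≤ (R : Subgroup G) := by
      intro u hu D R h x hx
      have h1 := h hx
      rw [Sylow.coe_subgroup_smul, mem_pointwise_smul_iff_inv_smul_mem] at h1
      change (MulAut.conj u)⁻¹ x ∈ (R : Subgroup G) at h1
      have hcom : x * u = u * x :=
        congrArg Subtype.val ((comm_sylow hN P).is_comm.comm ⟨x, D.2.1 hx⟩ ⟨u, hu⟩)
      rwa [MulAut.conj_inv_apply, mul_assoc, hcom, inv_mul_cancel_left] at h1
    let _ : MulAction ↥(P : Subgroup G) α :=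
      { smul := fun u R => ⟨⟨(u : G) • R.1.1, hpres u u.2 R.1.1 R.1.2⟩, fun D h => R.2 D (hpres2 u u.2 D R.1.1 h)⟩
        one_smul := fun R => Subtype.ext (Subtype.ext (one_smul G R.1.1))
        mul_smul := fun u v R => Subtype.ext (Subtype.ext (mul_smul (u : G) v R.1.1)) }
    have hfree : ∀ R : α, MulAction.stabilizer ↥(P : Subgroup G) R = ⊥ := by
      intro R
      rw [eq_bot_iff]
      rintro ⟨u, hu⟩ h
      rw [mem_bot]
      by_contra hu1
      have hu1' : u ≠ 1 := fun e => hu1 (Subtype.ext e)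
      have hR : u • R.1.1 = R.1.1 :=
        congrArg (fun z : α => z.1.1) (MulAction.mem_stabilizer_iff.1 h)
      obtain ⟨D, hD⟩ := hline u hu hu1'
      refine R.2 D (hD.trans (zpowers_le.2 ?_))
      have h1 := IsPGroup.inf_normalizer_sylow (P.2.to_le (zpowers_le.2 hu)) R.1.1
      exact (h1 ▸ ⟨mem_zpowers u, smul_eq_self_iff.1 hR⟩ : u ∈ zpowers u ⊓ (R.1.1 : Subgroup G)).2
    refine ⟨Nat.card (MulAction.orbitRel.Quotient ↥(P : Subgroup G) α), ?_⟩
    have hα : Nat.card α = Nat.card (MulAction.orbitRel.Quotient ↥(P : Subgroup G) α) * 25 := by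
      rw [Nat.card_congr (MulAction.selfEquivOrbitsQuotientProd hfree), Nat.card_prod, hP]
    have hrest : Nat.card {R : A // ¬ isFree R} = 5 * Nat.card X := by
      have e : {R : A // ¬ isFree R} ≃ Σ D : L, {R : A // D.1 ≤ (R.1 : Subgroup G)} :=
        (Equiv.ofBijective (fun x : Σ D : L, {R : A // D.1 ≤ (R.1 : Subgroup G)} =>
          (⟨x.2.1, fun h => h x.1 x.2.2⟩ : {R : A // ¬ isFree R})) (by
          constructor
          · rintro ⟨D, R, hR⟩ ⟨E, R', hR'⟩ h
            have h' : R = R' := congrArg Subtype.val h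
            subst h'
            by_cases hDE : D = E
            · subst hDE; rfl
            · exact absurd (Sylow.ext (eq_of_le_of_card_ge (hgen D E hDE _ hR hR')
                (by rw [card_sylow hN, hP])).symm) R.2
          · rintro ⟨R, hR⟩
            simp only [isFree, not_forall, not_not] at hR
            obtain ⟨D, hD⟩ := hR
            exact ⟨⟨D, R, hD⟩, rfl⟩)).symm
      have hfib : ∀ D : L, Nat.card {R : A // D.1 ≤ (R.1 : Subgroup G)} = if over D.1 = 6 then 5 else 0 := by
        intro D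
        have h1 : Nat.card {R : A // D.1 ≤ (R.1 : Subgroup G)} = over D.1 - 1 := by
          have e1 : {R : A // D.1 ≤ (R.1 : Subgroup G)} ≃
              {R : {R : Sylow 5 G // D.1 ≤ (R : Subgroup G)} // R ≠ ⟨P, D.2.1⟩} :=
            { toFun := fun R => ⟨⟨R.1.1, R.2⟩, fun h => R.1.2 (congrArg Subtype.val h)⟩
              invFun := fun R => ⟨⟨R.1.1, fun h => R.2 (Subtype.ext h)⟩, R.1.2⟩
              left_inv := fun _ => rfl
              right_inv := fun _ => rfl }
          have := Fintype.ofFinite {R : Sylow 5 G // D.1 ≤ (R : Subgroup G)}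
          rw [Nat.card_congr e1]
          simp [over, Nat.card_eq_fintype_card, Fintype.card_subtype_compl]
        rcases (card_over_cases hN D.2.2 P D.2.1).1 with h | h <;> rw [h1] <;> simp [over, h]
      have := Fintype.ofFinite L
      rw [Nat.card_congr e, Nat.card_sigma, Finset.sum_congr rfl (fun D _ => hfib D), Finset.sum_ite,
        Finset.sum_const_zero, add_zero, Finset.sum_const, smul_eq_mul, mul_comm,
        Nat.card_eq_fintype_card (α := X), Fintype.card_subtype]
    have hA : Nat.card A = 35 := by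
      have := Fintype.ofFinite (Sylow 5 G)
      have h := Nat.card_eq_fintype_card (α := A)
      rw [h, Fintype.card_subtype_compl, Fintype.card_subtype_eq, ← Nat.card_eq_fintype_card, hn]
    have hsplit : Nat.card α + Nat.card {R : A // ¬ isFree R} = Nat.card A := by
      rw [← Nat.card_sum]
      exact Nat.card_congr (Equiv.sumCompl isFree)
    omega
  obtain ⟨q, hq⟩ := hx
  have hX2 : Nat.card X = 2 := by
    have : Nat.card X ≤ Nat.card L := Finite.card_subtype_le _
    omega
  -- an element of order three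
  have hNcard : Nat.card ↥(normalizer ((P : Subgroup G) : Set G)) = 150 := by
    have h := card_normalizer_mul P
    rw [hn, hN] at h
    omega
  obtain ⟨⟨y, hy⟩, hyo⟩ := exists_prime_orderOf_dvd_card' (G := ↥(normalizer ((P : Subgroup G) : Set G))) 3
    (by rw [hNcard]; norm_num)
  rw [orderOf_mk] at hyo
  have hy3 : y ^ 3 = 1 := hyo ▸ pow_orderOf_eq_one y
  have hmapX : ∀ D : X, ∃ E : X, E.1.1 = MulAut.conj y • D.1.1 := by
    intro D
    have hP' : MulAut.conj y • (P : Subgroup G) = (P : Subgroup G) := by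
      rw [← Sylow.coe_subgroup_smul, smul_eq_self_iff.2 hy]
    have hle : MulAut.conj y • D.1.1 ≤ (P : Subgroup G) := by
      exact (pointwise_smul_le_pointwise_smul_iff.2 D.1.2.1).trans hP'.le
    have hc : Nat.card ↥(MulAut.conj y • D.1.1) = 5 := by
      rw [← Nat.card_congr (equivSMul (MulAut.conj y) D.1.1).toEquiv]
      exact D.1.2.2
    refine ⟨⟨⟨_, hle, hc⟩, ?_⟩, rfl⟩
    refine Eq.trans (Nat.card_congr ?_).symm D.2
    refine (MulAction.toPerm y).subtypeEquiv fun R => ?_
    rw [MulAction.toPerm_apply, Sylow.coe_subgroup_smul]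
    exact pointwise_smul_le_pointwise_smul_iff.symm
  choose Φ hΦ using hmapX
  have hΦinj : Function.Injective Φ := fun D E h => by
    have := congrArg (fun z : X => z.1.1) h
    simp only [hΦ] at this
    exact Subtype.ext (Subtype.ext (smul_left_cancel _ this))
  have hΦ3 : ∀ D : X, Φ (Φ (Φ D)) = D := fun D => by
    refine Subtype.ext (Subtype.ext ?_)
    rw [hΦ, hΦ, hΦ, smul_smul, smul_smul, ← map_mul, ← map_mul,
      show y * y * y = y ^ 3 from (pow_three' y).symm, hy3, map_one, one_smul]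
  obtain ⟨D₁, D₂, h12, hall⟩ := (Nat.card_eq_two_iff (α := X)).1 hX2
  have hfixed : ∀ D : X, Φ D = D := by
    intro D
    by_contra hne
    have h2 : ∀ E : X, E = D ∨ E = Φ D := by
      intro E
      have hE : ∀ z : X, z = D₁ ∨ z = D₂ := fun z => by
        have := Set.eq_univ_iff_forall.1 hall z; simpa using this
      rcases hE E with rfl | rfl <;> rcases hE D with rfl | rfl <;> rcases hE (Φ D) with h | h <;>
        simp_all
    rcases h2 (Φ (Φ D)) with h | h
    · exact hne (by have := hΦ3 D; rw [h] at this; exact this)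
    · exact hne (hΦinj h)
  have hcomm : ∀ D : X, ∀ x ∈ D.1.1, Commute y x := fun D =>
    commute_of_order_three hy3 D.1.2.2 (by rw [← hΦ, hfixed])
  have hyP : (P : Subgroup G) ≤ centralizer ({y} : Set G) :=
    hgen D₁.1 D₂.1 (fun h => h12 (Subtype.ext h)) _
      (fun x hx => mem_centralizer_iff.2 fun w hw => by
        rw [Set.mem_singleton_iff] at hw; subst hw; exact hcomm D₁ x hx)
      (fun x hx => mem_centralizer_iff.2 fun w hw => by
        rw [Set.mem_singleton_iff] at hw; subst hw; exact hcomm D₂ x hx)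
  -- the centraliser of `D₁`
  set C := centralizer (D₁.1.1 : Set G) with hCdef
  have hPC : (P : Subgroup G) ≤ C := fun x hx => mem_centralizer_iff.2 fun w hw =>
    congrArg Subtype.val ((comm_sylow hN P).is_comm.comm ⟨w, D₁.1.2.1 hw⟩ ⟨x, hx⟩)
  have hyC : y ∈ C := mem_centralizer_iff.2 fun w hw => (hcomm D₁ w hw).symm
  set P' : Sylow 5 C := P.subtype hPC with hP'def
  have hcP' : Nat.card ↥(P' : Subgroup C) = 25 :=
    (Nat.card_congr (subgroupOfEquivOfLe hPC).toEquiv).trans hP
  set NC := normalizer ((P' : Subgroup C) : Set C) with hNC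
  have hn6 : Nat.card (Sylow 5 C) = 6 := ((card_over hN).2 ⟨P, D₁.1.2.1⟩).symm.trans D₁.2
  have h75 : 75 ∣ Nat.card NC := by
    have h25 : 25 ∣ Nat.card NC := hcP' ▸ card_dvd_of_le le_normalizer
    have h3 : 3 ∣ Nat.card NC := by
      have hmem : (⟨y, hyC⟩ : C) ∈ NC := by
        refine centralizer_le_normalizer _ (mem_centralizer_iff.2 fun w hw => Subtype.ext ?_)
        exact (mem_centralizer_iff.1 (hyP (mem_subgroupOf.1 hw)) y rfl).symm
      have := orderOf_dvd_natCard NC hmem
      rwa [orderOf_mk, hyo] at this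
    exact Nat.Coprime.mul_dvd_of_dvd_of_dvd (show Nat.Coprime 25 3 by norm_num) h25 h3
  have hmul := card_normalizer_mul P'
  rw [hn6, ← hNC] at hmul
  have h540 := (card_over_cases hN D₁.1.2.2 P D₁.1.2.1).2
  rw [← hCdef] at h540
  obtain ⟨b, hb⟩ := h75
  have hb1 : b = 1 := by
    rcases Nat.eq_zero_or_pos b with h | h
    · rw [h, mul_zero] at hb
      exact absurd hb (Nat.card_pos).ne'
    · omega
  have hC450 : Nat.card C = 450 := by omega
  obtain ⟨Q⟩ := (inferInstance : Nonempty (Sylow 2 C))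
  have hQ : Nat.card ↥(Q : Subgroup C) = 2 := by
    simpa using card_sylow_eq (e := 1) (m := 225) (by rw [hC450]; norm_num) (by norm_num) Q
  have hQc : IsCyclic ↥(Q : Subgroup C) := isCyclic_of_prime_card hQ
  have hmin : (Nat.card C).minFac = 2 := by rw [hC450, Nat.minFac_eq_two_iff]; norm_num
  have hcomp := IsCyclic.isComplement' hmin (P := Q) hQc
  set K := (MonoidHom.transferSylow Q (hQc.normalizer_le_centralizer hmin)).ker with hK
  have hKc : Nat.card K = 225 := by
    have h := hcomp.card_mul_card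
    rw [hQ, hC450] at h
    omega
  have hKi : K.index = 2 := by
    have h := K.card_mul_index
    rw [hKc, hC450] at h
    omega
  have hPK : (P' : Subgroup C) ≤ K := by
    intro u hu
    have h2 := mul_self_mem_of_index_two hKi u
    have h25 : u ^ 25 = 1 := orderOf_dvd_iff_pow_eq_one.1 (hcP' ▸ orderOf_dvd_natCard _ hu)
    have : u = (u * u) ^ 13 := by
      rw [← pow_two, ← pow_mul, show 2 * 13 = 25 + 1 from rfl, pow_succ, h25, one_mul]
    rw [this]
    exact pow_mem h2 _
  set P'' : Sylow 5 K := P'.subtype hPK with hP''def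
  have hcP'' : Nat.card ↥(P'' : Subgroup K) = 25 :=
    (Nat.card_congr (subgroupOfEquivOfLe hPK).toEquiv).trans hcP'
  have hnK : Nat.card (Sylow 5 K) = 1 := by
    have h1 := card_sylow_modEq_one 5 K
    have h3 := (P'' : Subgroup K).card_mul_index
    rw [hcP'', hKc] at h3
    have h2 : Nat.card (Sylow 5 K) ∣ 9 := by
      rw [show 9 = (P'' : Subgroup K).index by omega]
      exact P''.card_dvd_index
    exact (by decide : ∀ n ∈ Nat.divisors 9, n % 5 = 1 → n = 1) _ (Nat.mem_divisors.2 ⟨h2, by norm_num⟩) h1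
  have htop : normalizer ((P'' : Subgroup K) : Set K) = ⊤ :=
    index_eq_one.1 (P''.card_eq_index_normalizer.symm.trans hnK)
  have h := le_normalizer_map (H := (P'' : Subgroup K)) K.subtype
  rw [htop, ← MonoidHom.range_eq_map, K.range_subtype,
    show (P'' : Subgroup K).map K.subtype = P' from map_subgroupOf_eq_of_le hPK] at h
  have := card_dvd_of_le h
  rw [hKc, ← hNC, hb, hb1] at this
  norm_num at this

end CfsgLib.SmallOrder.Order5400
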