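import Cfsg.Agent.Lib.SmallOrder.Refined
import Cfsg.Agent.Lib.DihedralEight.Recognition
import Cfsg.Agent.Lib.Linear.LineModel
import Mathlib.FieldTheory.Finite.GaloisField
import Mathlib.GroupTheory.Perm.Sign

/-!
Recognition of `PSL(2, p)` from its order, `p` prime: the transitive action on the `p + 1` Sylow
`p`-subgroups and the two-point stabilisers.
-/

set_option autoImplicit false

namespace CfsgLib.SmallOrder

open Subgroup Pointwise

variable {G : Type*} [Group G]

/-- A free action with an even number of orbits is by even permutations. -/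
theorem sign_of_free_even {α : Type*} [Fintype α] [DecidableEq α] {H : Type*} [Group H] [Fintype H]
    [DecidableEq H] [MulAction H α] (hfree : ∀ (h : H) (c : α), h • c = c → h = 1) {k : ℕ}
    (hk : Fintype.card α = 2 * k * Fintype.card H) (h : H) :
    Equiv.Perm.sign (MulAction.toPerm h : Equiv.Perm α) = 1 := by
  classical
  let e : MulAction.orbitRel.Quotient H α × H ≃ α := Equiv.ofBijective (fun x => x.2 • x.1.out) (by
    constructor
    · rintro ⟨ω, a⟩ ⟨ω', a'⟩ hab
      change a • ω.out = a' • ω'.out at hab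
      have hω : ω = ω' := by
        rw [← Quotient.out_eq' ω, ← Quotient.out_eq' ω']
        exact Quotient.sound' (MulAction.orbitRel_apply.2 ⟨a⁻¹ * a', by
          change (a⁻¹ * a') • ω'.out = ω.out
          rw [mul_smul, ← hab, inv_smul_smul]⟩)
      subst hω
      have h1 := hfree (a'⁻¹ * a) ω.out (by rw [mul_smul, hab, inv_smul_smul])
      rw [inv_mul_eq_one] at h1
      rw [h1]
    · intro c
      obtain ⟨a, ha⟩ := MulAction.orbitRel_apply.1
        (Quotient.exact' (Quotient.out_eq' (Quotient.mk'' c : MulAction.orbitRel.Quotient H α)))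
      exact ⟨(Quotient.mk'' c, a⁻¹), by
        change a⁻¹ • (Quotient.mk'' c : MulAction.orbitRel.Quotient H α).out = c
        rw [← ha]; exact inv_smul_smul a c⟩)
  have hconj : (MulAction.toPerm h : Equiv.Perm α) =
      e.permCongr (Equiv.prodCongrRight fun _ => Equiv.mulLeft h) := by
    ext c
    obtain ⟨⟨ω, a⟩, rfl⟩ := e.surjective c
    simp only [MulAction.toPerm_apply, Equiv.permCongr_apply, Equiv.symm_apply_apply]
    change h • a • ω.out = (h * a) • ω.out
    rw [mul_smul]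
  rw [hconj, Equiv.Perm.sign_permCongr, Equiv.Perm.sign_prodCongrRight, Finset.prod_const,
    Finset.card_univ]
  have hq : Fintype.card (MulAction.orbitRel.Quotient H α) = 2 * k := by
    have h1 := Fintype.card_congr e
    rw [Fintype.card_prod, hk] at h1
    exact Nat.eq_of_mul_eq_mul_right Fintype.card_pos h1
  rw [hq, pow_mul, Int.units_sq, one_pow]

variable [Finite G] [IsSimpleGroup G] {p : ℕ} [Fact p.Prime]

/-- The data of two Sylow subgroups interchanged by an element normalising their common stabiliser. -/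
structure SwapData (p d : ℕ) (M : Subgroup G) (g : G) where
  /-- a generator of `M` -/
  m : G
  /-- the exponent of the action of `g` -/
  k : ℕ
  /-- the exponent of `g * g` -/
  i : ℕ
  /-- the two fixed Sylow subgroups -/
  P : Sylow p G
  /-- the second one -/
  Q : Sylow p G
  hm : zpowers m = M
  hord : orderOf m = d
  hk : k < d
  hi : i < d
  hgm : g * m * g⁻¹ = m ^ k
  hgg : g * g = m ^ i
  hk2 : k * k % d = 1 % d
  hki : k * i % d = i
  hne : P ≠ Q
  hgP : g • P = Q
  hgQ : g • Q = P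
  hmP : m • P = P
  hmQ : m • Q = Q
  hfix : ∀ x ∈ M, x ≠ 1 → ∀ R : Sylow p G, x • R = R → R = P ∨ R = Q
  hstab : ∀ h : G, h • P = P → h • Q = Q → h ∈ M

theorem exists_swapData {d : ℕ} (hd : 2 ≤ d) (hdp : 2 * d + 1 = p)
    (hcard : ∀ P : Sylow p G, Nat.card ↥(P : Subgroup G) = p)
    (hN : ∀ P : Sylow p G, Nat.card ↥(normalizer ((P : Subgroup G) : Set G)) = p * d)
    (hcent : ∀ P : Sylow p G, centralizer ((P : Subgroup G) : Set G) ≤ (P : Subgroup G))
    (hn : Nat.card (Sylow p G) = p + 1) (P : Sylow p G) (M : Subgroup G) (g : G)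
    (hM : Nat.card M = d) (hMN : M ≤ normalizer ((P : Subgroup G) : Set G))
    (hfaith : ∀ m ∈ M, ∀ x ∈ (P : Subgroup G), m * x * m⁻¹ = x → x ≠ 1 → m = 1)
    (hgM : g ∉ M) (hg2 : g * g ∈ M) (hgn : ∀ m ∈ M, g * m * g⁻¹ ∈ M) :
    Nonempty (SwapData p d M g) := by
  classical
  have hp : p.Prime := Fact.out
  cases nonempty_fintype G
  obtain ⟨S⟩ := exists_csplit P (hcard P)
  have hz1 : S.z ≠ 1 := fun h => hp.ne_one (by rw [← S.hz, h, orderOf_one])
  -- `M` maps isomorphically onto the image of the normaliser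
  let f : M →* (ZMod p)ˣ := S.act.comp (Subgroup.inclusion hMN)
  have hf : Function.Injective f := by
    refine (injective_iff_map_eq_one f).2 fun m hm => ?_
    have h := S.act_spec (Subgroup.inclusion hMN m)
    change S.act (Subgroup.inclusion hMN m) = 1 at hm
    rw [hm, Units.val_one, S.zpw_one] at h
    exact Subtype.ext (hfaith m.1 m.2 S.z S.z_mem h hz1)
  have hcyc : IsCyclic M := isCyclic_of_injective f hf
  obtain ⟨⟨m, hm⟩, hgen⟩ := IsCyclic.exists_generator (α := M)
  have hord : orderOf m = d := by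
    rw [← orderOf_mk m hm, orderOf_eq_card_of_forall_mem_zpowers hgen, hM]
  have hzM : zpowers m = M :=
    eq_of_le_of_card_ge (zpowers_le.2 hm) (by rw [Nat.card_zpowers, hord, hM])
  have hrange : Nat.card S.act.range = d := by
    have h1 := S.card_normalizer
    rw [hN P] at h1
    have hV : Nat.card S.V = 1 := by
      have h2 := S.card_centralizer
      have h3 := Subgroup.card_le_of_le (hcent P)
      rw [h2, hcard P] at h3
      have : 0 < Nat.card S.V := Nat.card_pos
      nlinarith [hp.two_le]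
    rw [hV, mul_one] at h1
    exact (Nat.eq_of_mul_eq_mul_left hp.pos h1).symm
  have hgP : g • P ≠ P := by
    intro h
    have hgN : g ∈ normalizer ((P : Subgroup G) : Set G) := smul_eq_self_iff.1 h
    have hsur : f.range = S.act.range := by
      refine Subgroup.eq_of_le_of_card_ge ?_ ?_
      · rintro _ ⟨x, rfl⟩; exact ⟨_, rfl⟩
      · rw [hrange, ← hM, Nat.card_congr (MonoidHom.ofInjective hf).toEquiv]
    obtain ⟨⟨x, hx⟩, hxe⟩ : S.act ⟨g, hgN⟩ ∈ f.range := hsur ▸ MonoidHom.mem_range.2 ⟨_, rfl⟩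
    set u := g * x⁻¹ with hu
    have huP : u ∈ (P : Subgroup G) := by
      apply hcent P
      have hmem : (⟨g, hgN⟩ * (Subgroup.inclusion hMN ⟨x, hx⟩)⁻¹ :
          ↥(normalizer ((P : Subgroup G) : Set G))) ∈ S.act.ker := by
        rw [MonoidHom.mem_ker, map_mul, map_inv]
        change S.act ⟨g, hgN⟩ * (f ⟨x, hx⟩)⁻¹ = 1
        rw [hxe, mul_inv_cancel]
      rw [S.ker_act, mem_subgroupOf] at hmem
      exact hmem
    by_cases hu1 : u = 1
    · rw [hu, mul_inv_eq_one] at hu1
      exact hgM (hu1 ▸ hx)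
    have hmu : m * u * m⁻¹ = u := by
      have h1 : m * u * m⁻¹ * u⁻¹ ∈ (P : Subgroup G) :=
        mul_mem ((Subgroup.mem_normalizer_iff.1 (hMN hm) u).1 huP) (inv_mem huP)
      have h2 : m * u * m⁻¹ * u⁻¹ ∈ M := by
        have hun : u * m⁻¹ * u⁻¹ ∈ M := by
          rw [hu, show g * x⁻¹ * m⁻¹ * (g * x⁻¹)⁻¹ = g * (x⁻¹ * m⁻¹ * x) * g⁻¹ by group]
          exact hgn _ (mul_mem (mul_mem (inv_mem hx) (inv_mem hm)) hx)
        rw [show m * u * m⁻¹ * u⁻¹ = m * (u * m⁻¹ * u⁻¹) by group]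
        exact mul_mem hm hun
      have h3 : orderOf (m * u * m⁻¹ * u⁻¹) = 1 := by
        refine Nat.eq_one_of_dvd_coprimes ?_ ((Subgroup.orderOf_dvd_natCard _ h1).trans (dvd_of_eq (hcard P)))
          ((Subgroup.orderOf_dvd_natCard _ h2).trans (dvd_of_eq hM))
        exact (Nat.Prime.coprime_iff_not_dvd hp).2 fun h => by
          have := Nat.le_of_dvd (by omega) h; omega
      rw [orderOf_eq_one_iff, mul_inv_eq_one] at h3
      exact h3
    have := hfaith m hm u huP hmu hu1
    rw [this, orderOf_one] at hord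
    omega
  set Q := g • P with hQ
  have hgg : g • Q = P := by
    rw [hQ, ← mul_smul]
    exact smul_eq_self_iff.2 (hMN hg2)
  have hMQ : ∀ x ∈ M, x • Q = Q := by
    intro x hx
    have hfin : g⁻¹ * x * g ∈ M := by
      have hsurj : Function.Surjective (fun y : M => (⟨g * y.1 * g⁻¹, hgn _ y.2⟩ : M)) :=
        Finite.surjective_of_injective fun a b hab => Subtype.ext (by simpa using congrArg Subtype.val hab)
      obtain ⟨⟨y, hy⟩, hye⟩ := hsurj ⟨x, hx⟩
      rw [show x = g * y * g⁻¹ from (congrArg Subtype.val hye).symm,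
        show g⁻¹ * (g * y * g⁻¹) * g = y by group]
      exact hy
    rw [hQ, ← mul_smul, show x * g = g * (g⁻¹ * x * g) by group, mul_smul,
      smul_eq_self_iff.2 (hMN hfin)]
  have hreg : ∀ (u : G), u ∈ (P : Subgroup G) → ∀ R : Sylow p G, R ≠ P → u • R = R → u = 1 := by
    intro u hu R hR h
    by_contra hu1
    have hz : zpowers u = (P : Subgroup G) := by
      refine eq_of_le_of_card_ge (zpowers_le.2 hu) ?_
      have := ((Nat.dvd_prime hp).1 (hcard P ▸ Subgroup.orderOf_dvd_natCard _ hu)).resolve_left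
        (fun h => hu1 (orderOf_eq_one_iff.1 h))
      rw [Nat.card_zpowers, this, hcard P]
    have h1 := (P.2.to_le (zpowers_le.2 hu)).inf_normalizer_sylow R
    have h2 : u ∈ (R : Subgroup G) :=
      (h1 ▸ ⟨mem_zpowers u, smul_eq_self_iff.1 h⟩ : u ∈ zpowers u ⊓ (R : Subgroup G)).2
    exact hR (Sylow.ext (eq_of_le_of_card_ge (hz ▸ zpowers_le.2 h2) (by rw [hcard, hcard])).symm)
  have htrans : ∀ R : Sylow p G, R ≠ P → ∃ u ∈ (P : Subgroup G), u • Q = R := by
    intro R hR
    let F : ↥(P : Subgroup G) → {R : Sylow p G // R ≠ P} := fun u => ⟨(u : G) • Q, fun h => hgP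
      (MulAction.injective (u : G) (h.trans (smul_eq_self_iff.2 (Subgroup.le_normalizer u.2)).symm))⟩
    have hF : Function.Bijective F := by
      refine (Nat.bijective_iff_injective_and_card F).2 ⟨fun a b hab => ?_, ?_⟩
      · have h1 : ((b : G)⁻¹ * a) • Q = Q := by
          rw [mul_smul, inv_smul_eq_iff]; exact congrArg Subtype.val hab
        exact (Subtype.ext (inv_mul_eq_one.1 (hreg _ (mul_mem (inv_mem b.2) a.2) Q hgP h1))).symm
      · have := Fintype.ofFinite (Sylow p G)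
        rw [hcard P, Nat.card_eq_fintype_card, Fintype.card_subtype_compl, Fintype.card_subtype_eq,
          ← Nat.card_eq_fintype_card, hn, Nat.add_sub_cancel]
    obtain ⟨u, hu⟩ := hF.2 ⟨R, hR⟩
    exact ⟨u, u.2, congrArg Subtype.val hu⟩
  have hfix : ∀ x ∈ M, x ≠ 1 → ∀ R : Sylow p G, x • R = R → R = P ∨ R = Q := by
    intro x hx hx1 R hR
    by_cases hRP : R = P
    · exact Or.inl hRP
    obtain ⟨u, hu, rfl⟩ := htrans R hRP
    right
    have h1 : (u⁻¹ * (x * u * x⁻¹)) • Q = Q := by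
      rw [mul_smul, mul_smul, mul_smul, inv_smul_eq_iff.2 (hMQ x hx).symm, inv_smul_eq_iff]
      exact hR
    have h2 := hreg _ (mul_mem (inv_mem hu) ((Subgroup.mem_normalizer_iff.1 (hMN hx) u).1 hu)) Q hgP h1
    rw [inv_mul_eq_one] at h2
    by_cases hu1 : u = 1
    · rw [hu1, one_smul]
    · exact absurd (hfaith x hx u hu h2.symm hu1) hx1
  have hstab : ∀ h : G, h • P = P → h • Q = Q → h ∈ M := by
    intro h hP' hQ'
    have hhN := smul_eq_self_iff.1 hP'
    have hsur : f.range = S.act.range := by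
      refine Subgroup.eq_of_le_of_card_ge ?_ ?_
      · rintro _ ⟨x, rfl⟩; exact ⟨_, rfl⟩
      · rw [hrange, ← hM, Nat.card_congr (MonoidHom.ofInjective hf).toEquiv]
    obtain ⟨⟨x, hx⟩, hxe⟩ : S.act ⟨h, hhN⟩ ∈ f.range := hsur ▸ MonoidHom.mem_range.2 ⟨_, rfl⟩
    have hu : h * x⁻¹ ∈ (P : Subgroup G) := by
      apply hcent P
      have hmem : (⟨h, hhN⟩ * (Subgroup.inclusion hMN ⟨x, hx⟩)⁻¹ :
          ↥(normalizer ((P : Subgroup G) : Set G))) ∈ S.act.ker := by
        rw [MonoidHom.mem_ker, map_mul, map_inv]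
        change S.act ⟨h, hhN⟩ * (f ⟨x, hx⟩)⁻¹ = 1
        rw [hxe, mul_inv_cancel]
      rw [S.ker_act, mem_subgroupOf] at hmem
      exact hmem
    have h1 := hreg _ hu Q hgP (by rw [mul_smul, inv_smul_eq_iff.2 (hMQ x hx).symm, hQ'])
    rw [mul_inv_eq_one] at h1
    exact h1 ▸ hx
  have hpow : ∀ x ∈ M, ∃ j, j < d ∧ m ^ j = x := by
    intro x hx
    rw [← hzM] at hx
    obtain ⟨j, rfl⟩ := mem_powers_iff_mem_zpowers.2 hx
    exact ⟨j % d, Nat.mod_lt _ (by omega), by rw [← hord, pow_mod_orderOf]⟩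
  obtain ⟨k, hk, hgm⟩ := hpow _ (hgn m hm)
  obtain ⟨i, hi, hgg'⟩ := hpow _ hg2
  have hmod : ∀ a b : ℕ, m ^ a = m ^ b → a % d = b % d := fun a b h => by
    rw [← hord]; exact pow_eq_pow_iff_modEq.1 h
  refine ⟨⟨m, k, i, P, Q, hzM, hord, hk, hi, hgm.symm, hgg'.symm, ?_, ?_, Ne.symm hgP, hQ.symm, hgg,
    smul_eq_self_iff.2 (hMN hm), hMQ m hm, hfix, hstab⟩⟩
  · refine hmod _ 1 ?_
    rw [pow_one, pow_mul, hgm, conj_pow, hgm]
    have hc : g * g * m * (g * g)⁻¹ = m := by
      rw [← hgg']; group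
    calc g * (g * m * g⁻¹) * g⁻¹ = g * g * m * (g * g)⁻¹ := by group
      _ = m := hc
  · have h := hmod (k * i) i (by
      rw [pow_mul, hgm, conj_pow, hgg']
      group)
    rw [Nat.mod_eq_of_lt hi] at h
    exact h

namespace SwapData

variable {d : ℕ} {M : Subgroup G} {g : G} (D : SwapData p d M g)

omit [Finite G] [IsSimpleGroup G] [Fact p.Prime] in
theorem m_mem : D.m ∈ M := by
  exact D.hm.le (mem_zpowers D.m)

omit [Finite G] [IsSimpleGroup G] [Fact p.Prime] in
theorem conj_pow_m (j : ℕ) : g * D.m ^ j * g⁻¹ = D.m ^ (D.k * j) := by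
  rw [← conj_pow, D.hgm, ← pow_mul]

omit [IsSimpleGroup G] [Fact p.Prime] in
theorem exists_pow {x : G} (hx : x ∈ M) : ∃ j : ℕ, D.m ^ j = x := by
  rw [← D.hm] at hx
  exact mem_powers_iff_mem_zpowers.2 hx

include D in
/-- Elements normalising a non-trivial subgroup of `M` lie in `M` or `g M`. -/
theorem mem_of_normalizes {R : Subgroup G} (hR : R ≤ M) (hR1 : R ≠ ⊥) {h : G}
    (hh : h ∈ normalizer (R : Set G)) : h ∈ M ∨ g⁻¹ * h ∈ M := by
  obtain ⟨⟨x, hx⟩, hx1⟩ := (Subgroup.ne_bot_iff_exists_ne_one).1 hR1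
  have hx1' : x ≠ 1 := fun h => hx1 (Subtype.ext h)
  obtain ⟨jx, hjx⟩ := D.exists_pow (hR hx)
  have hxy : h⁻¹ * x * h ∈ R := by
    have := (Subgroup.mem_normalizer_iff.1 (inv_mem hh) x).1 hx
    rwa [inv_inv] at this
  obtain ⟨jy, hjy⟩ := D.exists_pow (hR hxy)
  have hfixT : ∀ (T : Sylow p G) (y : G), D.m • T = T → (∃ j : ℕ, D.m ^ j = y) → y • T = T := by
    rintro T y hT ⟨j, rfl⟩
    induction j with
    | zero => simp
    | succ j ih => rw [pow_succ', mul_smul, ih, hT]
  have himg : ∀ T : Sylow p G, D.m • T = T → h • T = D.P ∨ h • T = D.Q := by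
    intro T hT
    refine D.hfix x (hR hx) hx1' _ ?_
    rw [← mul_smul, show x * h = h * (h⁻¹ * x * h) by group, mul_smul, hfixT T _ hT ⟨jy, hjy⟩]
  have hne : h • D.P ≠ h • D.Q := fun he => D.hne (MulAction.injective h he)
  rcases himg D.P D.hmP with h1 | h1 <;> rcases himg D.Q D.hmQ with h2 | h2
  · exact absurd (h1.trans h2.symm) hne
  · exact Or.inl (D.hstab h h1 h2)
  · refine Or.inr (D.hstab _ ?_ ?_)
    · rw [mul_smul, h1, inv_smul_eq_iff, D.hgP]
    · rw [mul_smul, h2, inv_smul_eq_iff, D.hgQ]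
  · exact absurd (h1.trans h2.symm) hne

/-- Burnside: if `g` centralises `M`, no Sylow subgroup of prime-power order lies in `M`. -/
theorem not_k_one {r a : ℕ} (hr : r.Prime) (ha : 0 < a) {b : ℕ} (hG : Nat.card G = r ^ a * b) (hb : ¬ r ∣ b)
    (hb1 : 1 < b) (hd : r ^ a ∣ d) (hd0 : 0 < d) : ∀ j, j = d / r ^ a → D.k * j % d ≠ j % d := by
  intro j hj hk
  have : Fact r.Prime := ⟨hr⟩
  set x := D.m ^ j with hx
  have hjd : j * r ^ a = d := by rw [hj]; exact Nat.div_mul_cancel hd
  have hj0 : j ≠ 0 := fun h => by rw [h, zero_mul] at hjd; omega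
  have hxo : orderOf x = r ^ a := by
    rw [hx, orderOf_pow' _ hj0, D.hord, Nat.gcd_eq_right (Dvd.intro _ hjd)]
    exact Nat.div_eq_of_eq_mul_right (Nat.pos_of_ne_zero hj0) hjd.symm
  have hRG : Nat.card (zpowers x) = r ^ a := by rw [Nat.card_zpowers, hxo]
  let T : Sylow r G := Sylow.ofCard (zpowers x) (by
    rw [hRG, hG, Nat.factorization_mul (pow_ne_zero _ hr.ne_zero) (by omega), Finsupp.add_apply,
      hr.factorization_pow, Finsupp.single_eq_same, Nat.factorization_eq_zero_of_not_dvd hb, add_zero])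
  have hTe : (T : Subgroup G) = zpowers x := rfl
  have hTtop : (T : Subgroup G) ≠ ⊤ := by
    intro h
    rw [hTe] at h
    rw [h, Subgroup.card_top, hG] at hRG
    have hlt : r ^ a * 1 < r ^ a * b := Nat.mul_lt_mul_of_pos_left hb1 (pow_pos hr.pos _)
    omega
  refine not_normalizer_le_centralizer (hG ▸ Dvd.dvd.mul_right (dvd_pow_self r ha.ne') b) T hTtop ?_
  rw [hTe]
  intro h hh
  have hxM : zpowers x ≤ M := zpowers_le.2 (pow_mem D.m_mem j)
  have hxne : zpowers x ≠ ⊥ := by
    rw [Ne, zpowers_eq_bot]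
    intro h1
    rw [h1, orderOf_one] at hxo
    exact (Nat.one_lt_pow ha.ne' hr.one_lt).ne hxo
  have hgx : Commute g x := by
    have h1 := D.conj_pow_m j
    rw [pow_eq_pow_iff_modEq.2 (show D.k * j ≡ j [MOD orderOf D.m] by rw [D.hord]; exact hk),
      mul_inv_eq_iff_eq_mul] at h1
    exact h1
  have hMx : ∀ y ∈ M, Commute y x := by
    intro y hy
    obtain ⟨i, rfl⟩ := D.exists_pow hy
    exact (Commute.refl D.m).pow_pow i j
  refine mem_centralizer_iff.2 fun y hy => ?_
  obtain ⟨n, rfl⟩ := mem_zpowers_iff.1 hy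
  have hcom : Commute h x := by
    rcases D.mem_of_normalizes hxM hxne hh with h1 | h1
    · exact hMx h h1
    · have := hgx.mul_left (hMx _ h1)
      rwa [mul_inv_cancel_left] at this
  exact (hcom.zpow_right n).eq.symm

/-- With `g` inverting `M` and `g * g = 1` the conclusion holds. -/
theorem conclusion (hk : (D.k + 1) % d = 0) (hi : D.i = 0) :
    ∃ n ∈ M, (g * n) * (g * n) = 1 ∧ ∀ m ∈ M, (g * n) * m * (g * n)⁻¹ = m⁻¹ := by
  refine ⟨1, M.one_mem, by rw [mul_one, D.hgg, hi, pow_zero], fun y hy => ?_⟩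
  obtain ⟨j, rfl⟩ := D.exists_pow hy
  rw [mul_one, D.conj_pow_m, eq_inv_iff_mul_eq_one, ← pow_add,
    show D.k * j + j = (D.k + 1) * j by ring, pow_mul,
    orderOf_dvd_iff_pow_eq_one.1 (show orderOf D.m ∣ D.k + 1 by
      rw [D.hord]; exact Nat.dvd_of_mod_eq_zero hk), one_pow]

include D in
/-- A cyclic Sylow `2`-subgroup `⟨h⟩` whose involution is in `M` and which is central in the elements of
`M` and `g M` normalising it is impossible. -/
theorem not_cyclic_two {h : G} {a b : ℕ} (ha : 0 < a) (hG : Nat.card G = 2 ^ a * b) (hb : ¬ 2 ∣ b)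
    (hb1 : 1 < b) (hord : orderOf h = 2 ^ a) (hzM : h ^ 2 ^ (a - 1) ∈ M)
    (hfix : ∀ y : G, (y ∈ M ∨ g⁻¹ * y ∈ M) → y * h * y⁻¹ ∈ zpowers h → Commute y h) : False := by
  have : Fact (Nat.Prime 2) := ⟨Nat.prime_two⟩
  let T : Sylow 2 G := Sylow.ofCard (zpowers h) (by
    rw [Nat.card_zpowers, hord, hG, Nat.factorization_mul (pow_ne_zero _ two_ne_zero) (by omega),
      Finsupp.add_apply, Nat.prime_two.factorization_pow, Finsupp.single_eq_same,
      Nat.factorization_eq_zero_of_not_dvd hb, add_zero])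
  have hTtop : (T : Subgroup G) ≠ ⊤ := by
    intro ht
    change zpowers h = ⊤ at ht
    have := Nat.card_zpowers h
    rw [ht, Subgroup.card_top, hG, hord] at this
    have hlt : 2 ^ a * 1 < 2 ^ a * b := Nat.mul_lt_mul_of_pos_left hb1 (pow_pos (by norm_num) _)
    omega
  refine not_normalizer_le_centralizer (hG ▸ Dvd.dvd.mul_right (dvd_pow_self 2 ha.ne') b) T hTtop ?_
  intro y hy
  change y ∈ normalizer ((zpowers h : Subgroup G) : Set G) at hy
  change y ∈ centralizer ((zpowers h : Subgroup G) : Set G)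
  set z := h ^ 2 ^ (a - 1) with hz
  have hyh : y * h * y⁻¹ ∈ zpowers h := (Subgroup.mem_normalizer_iff.1 hy h).1 (mem_zpowers h)
  obtain ⟨e, he⟩ := mem_powers_iff_mem_zpowers.2 hyh
  change h ^ e = y * h * y⁻¹ at he
  have hodd : Odd e := by
    by_contra hev
    rw [Nat.not_odd_iff_even] at hev
    obtain ⟨e', rfl⟩ := hev
    have h1 : orderOf (y * h * y⁻¹) = 2 ^ a := by
      rw [show y * h * y⁻¹ = MulAut.conj y h by simp, MulEquiv.orderOf_eq, hord]
    have h2 : (y * h * y⁻¹) ^ 2 ^ (a - 1) = 1 := by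
      rw [← he, ← pow_mul, show (e' + e') * 2 ^ (a - 1) = 2 ^ (a - 1 + 1) * e' by ring,
        show a - 1 + 1 = a by omega, pow_mul, ← hord, pow_orderOf_eq_one, one_pow]
    have h3 := orderOf_dvd_of_pow_eq_one h2
    rw [h1, Nat.pow_dvd_pow_iff_le_right (by norm_num)] at h3
    omega
  have hzz : z * z = 1 := by
    rw [hz, ← pow_add, ← two_mul, ← pow_succ', show a - 1 + 1 = a by omega, ← hord, pow_orderOf_eq_one]
  have hyz : y * z * y⁻¹ = z := by
    obtain ⟨e', rfl⟩ := hodd
    rw [hz, ← conj_pow, ← he, ← pow_mul, mul_comm, pow_mul, ← hz, pow_succ, pow_mul, pow_two, hzz,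
      one_pow, one_mul]
  have hzne : zpowers z ≠ ⊥ := by
    rw [Ne, zpowers_eq_bot, hz]
    exact pow_ne_one_of_lt_orderOf (pow_ne_zero _ two_ne_zero)
      (hord ▸ Nat.pow_lt_pow_right (by norm_num) (by omega))
  have hyn : y ∈ normalizer ((zpowers z : Subgroup G) : Set G) := by
    refine centralizer_le_normalizer _ (mem_centralizer_iff.2 fun w hw => ?_)
    obtain ⟨n, rfl⟩ := mem_zpowers_iff.1 hw
    exact ((show Commute y z from mul_inv_eq_iff_eq_mul.1 hyz).zpow_right n).eq.symm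
  have hc := hfix y (D.mem_of_normalizes (zpowers_le.2 hzM) hzne hyn) hyh
  refine mem_centralizer_iff.2 fun w hw => ?_
  obtain ⟨n, rfl⟩ := mem_zpowers_iff.1 hw
  exact (hc.zpow_right n).eq.symm

include D in
/-- `M` of odd prime power order. -/
theorem conclusion_primePow {r a b : ℕ} (hr : r.Prime) (ha : 0 < a) (hdr : d = r ^ a)
    (hG : Nat.card G = r ^ a * b) (hb : ¬ r ∣ b) (hb1 : 1 < b)
    (hcases : ∀ k, k < d → ∀ i, i < d → k * k % d = 1 % d → k * i % d = i → k ≠ 1 → (k + 1) % d = 0 ∧ i = 0)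
    (hd : 1 < d) :
    ∃ n ∈ M, (g * n) * (g * n) = 1 ∧ ∀ m ∈ M, (g * n) * m * (g * n)⁻¹ = m⁻¹ := by
  have hk1 : D.k ≠ 1 := by
    intro hk
    refine D.not_k_one hr ha hG hb hb1 (dvd_of_eq hdr.symm) (by omega) 1 ?_ (by rw [hk, one_mul])
    rw [← hdr, Nat.div_self (by omega)]
  obtain ⟨h1, h2⟩ := hcases _ D.hk _ D.hi D.hk2 D.hki hk1
  exact D.conclusion h1 h2

include D in
/-- the parity of an element of order `4` interchanging the two fixed points, with square in `M` -/
theorem not_order_four (hG : ¬ IsMulCommutative G) {h : G}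
    (hord : orderOf h = 4) (hP : h • D.P = D.Q) (hQ : h • D.Q = D.P) (hsq : h * h ∈ M) {k : ℕ}
    (hn : Nat.card (Sylow p G) = 2 + 2 * k * 4) : False := by
  classical
  cases nonempty_fintype G
  have := Fintype.ofFinite (Sylow p G)
  let α := {R : Sylow p G // R ≠ D.P ∧ R ≠ D.Q}
  have hpair : ∀ x ∈ zpowers h, x • ({D.P, D.Q} : Set (Sylow p G)) = {D.P, D.Q} := by
    intro x hx
    refine MulAction.mem_stabilizer_iff.1 ((zpowers_le.2 (MulAction.mem_stabilizer_iff.2 ?_)) hx)
    rw [← Set.image_smul, Set.image_pair, hP, hQ, Set.pair_comm]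
  have hpres : ∀ x ∈ zpowers h, ∀ R : Sylow p G,
      R ≠ D.P ∧ R ≠ D.Q → x • R ≠ D.P ∧ x • R ≠ D.Q := by
    intro x hx R hR
    have h1 : x • R ∉ x • ({D.P, D.Q} : Set (Sylow p G)) := by
      rw [Set.smul_mem_smul_set_iff]; simpa using hR
    rw [hpair x hx] at h1
    simpa using h1
  let _ : MulAction (zpowers h) α :=
    { smul := fun x R => ⟨(x : G) • R.1, hpres x x.2 R.1 R.2⟩
      one_smul := fun R => Subtype.ext (one_smul G R.1)
      mul_smul := fun x y R => Subtype.ext (mul_smul (x : G) y R.1) }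
  have hfree : ∀ (x : zpowers h) (R : α), x • R = R → x = 1 := by
    intro x R hx
    have hxR : (x : G) • R.1 = R.1 := congrArg Subtype.val hx
    by_contra hx1
    have key : ∀ y ∈ M, y • R.1 = R.1 → y = 1 := by
      intro y hy hyR
      by_contra hy1
      rcases D.hfix y hy hy1 R.1 hyR with e | e
      · exact R.2.1 e
      · exact R.2.2 e
    obtain ⟨j, hj⟩ := mem_powers_iff_mem_zpowers.2 x.2
    change h ^ j = (x : G) at hj
    have hxx : (x : G) * x = 1 := key _ (by rw [← hj, ← pow_two, ← pow_mul, mul_comm, pow_mul, pow_two];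
                                            exact pow_mem hsq _) (by rw [mul_smul, hxR, hxR])
    have h2 : 4 ∣ j + j := by rw [← hord]; exact orderOf_dvd_of_pow_eq_one (by rw [pow_add, hj, hxx])
    obtain ⟨t, rfl⟩ : 2 ∣ j := by omega
    refine hx1 (Subtype.ext (key _ ?_ hxR))
    rw [← hj, pow_mul, pow_two]
    exact pow_mem hsq _
  have hcard : Fintype.card α = 2 * k * Fintype.card (zpowers h) := by
    rw [Fintype.card_subtype, ← Nat.card_eq_fintype_card (α := zpowers h), Nat.card_zpowers, hord]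
    have hfil : (Finset.univ.filter fun R : Sylow p G => R ≠ D.P ∧ R ≠ D.Q) =
        (Finset.univ.erase D.P).erase D.Q := by
      ext R; simp [and_comm]
    rw [hfil, Finset.card_erase_of_mem (by simp [Ne.symm D.hne]),
      Finset.card_erase_of_mem (Finset.mem_univ _), Finset.card_univ, ← Nat.card_eq_fintype_card, hn]
    omega
  have hsub := sign_of_free_even hfree hcard ⟨h, mem_zpowers h⟩
  let f : G →* ℤˣ := Equiv.Perm.sign.comp (MulAction.toPermHom G (Sylow p G))
  have hf : f h = 1 := by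
    rcases IsSimpleGroup.eq_bot_or_eq_top_of_normal f.ker inferInstance with e | e
    · exact absurd ⟨⟨fun a b => (MonoidHom.ker_eq_bot_iff f).1 e (by rw [map_mul, map_mul, mul_comm])⟩⟩ hG
    · exact MonoidHom.mem_ker.1 (e ▸ mem_top h)
  set τ : Equiv.Perm (Sylow p G) := Equiv.swap D.P D.Q * MulAction.toPerm h with hτ
  have hτα : ∀ R : Sylow p G, R ≠ D.P ∧ R ≠ D.Q → τ R = h • R := by
    intro R hR
    have := hpres h (mem_zpowers h) R hR
    rw [hτ, Equiv.Perm.mul_apply, MulAction.toPerm_apply, Equiv.swap_apply_of_ne_of_ne this.1 this.2]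
  have hτmem : ∀ R : Sylow p G, (τ R ≠ D.P ∧ τ R ≠ D.Q) ↔ (R ≠ D.P ∧ R ≠ D.Q) := by
    intro R
    by_cases hR : R ≠ D.P ∧ R ≠ D.Q
    · rw [hτα R hR]
      exact iff_of_true (hpres h (mem_zpowers h) R hR) hR
    · refine iff_of_false ?_ hR
      rcases not_and_or.1 hR with e | e <;> rw [not_not] at e <;> subst e
      · rw [hτ, Equiv.Perm.mul_apply, MulAction.toPerm_apply, hP, Equiv.swap_apply_right]; simp
      · rw [hτ, Equiv.Perm.mul_apply, MulAction.toPerm_apply, hQ, Equiv.swap_apply_left]; simp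
  have hτfix : ∀ R : Sylow p G, τ R ≠ R → R ≠ D.P ∧ R ≠ D.Q := by
    intro R hR
    constructor <;> rintro rfl <;> refine hR ?_
    · rw [hτ, Equiv.Perm.mul_apply, MulAction.toPerm_apply, hP, Equiv.swap_apply_right]
    · rw [hτ, Equiv.Perm.mul_apply, MulAction.toPerm_apply, hQ, Equiv.swap_apply_left]
  have hsubeq : τ.subtypePerm hτmem = (MulAction.toPerm (⟨h, mem_zpowers h⟩ : zpowers h) : Equiv.Perm α) :=
    Equiv.ext fun R => Subtype.ext (hτα R.1 R.2)
  have hsτ := Equiv.Perm.sign_subtypePerm τ hτmem hτfix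
  rw [hsubeq, hsub, hτ, map_mul, Equiv.Perm.sign_swap D.hne] at hsτ
  change (1 : ℤˣ) = -1 * f h at hsτ
  rw [hf] at hsτ
  exact absurd hsτ (by decide)

omit [Finite G] [IsSimpleGroup G] [Fact p.Prime] in
theorem smul_P {x : G} (hx : x ∈ zpowers D.m) : x • D.P = D.P ∧ x • D.Q = D.Q :=
  ⟨MulAction.mem_stabilizer_iff.1 (zpowers_le.2 (MulAction.mem_stabilizer_iff.2 D.hmP) hx),
    MulAction.mem_stabilizer_iff.1 (zpowers_le.2 (MulAction.mem_stabilizer_iff.2 D.hmQ) hx)⟩

omit [Finite G] [IsSimpleGroup G] [Fact p.Prime] in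
include D in
theorem g_not_mem : g ∉ M := fun h =>
  D.hne ((D.smul_P (D.hm.ge h)).1.symm.trans D.hgP)

omit [Finite G] [IsSimpleGroup G] [Fact p.Prime] in
theorem mul_pow_sq (j : ℕ) : (g * D.m ^ j) * (g * D.m ^ j) = D.m ^ (D.k * j + D.i + j) := by
  rw [pow_add, pow_add, ← D.conj_pow_m, ← D.hgg]
  group

/-- An element of order `4` in `g M` contradicts parity. -/
theorem not_half (hG : ¬ IsMulCommutative G) {e j k : ℕ} (he : 0 < e) (hde : d = 2 * e)
    (hj : (D.k * j + D.i + j) % d = e) (hn : Nat.card (Sylow p G) = 2 + 2 * k * 4) : False := by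
  set h := g * D.m ^ j with hh
  have hsq : h * h = D.m ^ e := by
    rw [hh, D.mul_pow_sq, ← pow_mod_orderOf, D.hord, hj]
  have hord : orderOf h = 4 := by
    have : Fact (Nat.Prime 2) := ⟨Nat.prime_two⟩
    refine orderOf_eq_prime_pow (p := 2) (n := 1) ?_ ?_
    · rw [pow_one, pow_two, hsq]
      exact pow_ne_one_of_lt_orderOf he.ne' (by rw [D.hord]; omega)
    · rw [show (2 : ℕ) ^ (1 + 1) = 2 * 2 from rfl, pow_mul, pow_two h, hsq, ← pow_mul,
        show e * 2 = orderOf D.m by rw [D.hord]; omega, pow_orderOf_eq_one]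
  have hj' := D.smul_P (pow_mem (mem_zpowers D.m) j)
  refine D.not_order_four hG hord ?_ ?_ (hsq ▸ pow_mem D.m_mem e) hn
  · rw [hh, mul_smul, hj'.1, D.hgP]
  · rw [hh, mul_smul, hj'.2, D.hgQ]

include D in
/-- Burnside for a cyclic Sylow `2`-subgroup generated by `g`. -/
theorem not_cyclic_two_self {a b : ℕ} (ha : 0 < a) (hG : Nat.card G = 2 ^ a * b) (hb : ¬ 2 ∣ b)
    (hb1 : 1 < b) (hord : orderOf g = 2 ^ a) (hzM : g ^ 2 ^ (a - 1) ∈ M)
    (hfix : ∀ y ∈ M, y * g * y⁻¹ ∈ zpowers g → Commute y g) : False := by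
  refine D.not_cyclic_two ha hG hb hb1 hord hzM ?_
  rintro y (hy | hy) hyg
  · exact hfix y hy hyg
  · have h1 : g⁻¹ * y * g * (g⁻¹ * y)⁻¹ ∈ zpowers g := by
      rw [show g⁻¹ * y * g * (g⁻¹ * y)⁻¹ = g⁻¹ * (y * g * y⁻¹) * g by group]
      exact mul_mem (mul_mem (inv_mem (mem_zpowers g)) hyg) (mem_zpowers g)
    have h2 := (Commute.refl g).mul_left (hfix _ hy h1)
    rwa [mul_inv_cancel_left] at h2

end SwapData

/-- Recognition of `PSL(2, p)` from the order and the number of Sylow `p`-subgroups, given the shape of the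
two-point stabilisers. -/
theorem nonempty_mulEquiv_psl {d : ℕ} (hd1 : 2 ≤ d) (hd : 2 * d + 1 = p)
    (hG : Nat.card G = (p + 1) * (p * d)) (hn : Nat.card (Sylow p G) = p + 1)
    (hswap : ∀ (M : Subgroup G) (g : G) (_ : SwapData p d M g),
      ∃ n ∈ M, (g * n) * (g * n) = 1 ∧ ∀ m ∈ M, (g * n) * m * (g * n)⁻¹ = m⁻¹)
    {F : Type*} [Field F] [Fintype F] (hF : Fintype.card F = p) :
    Nonempty (G ≃* Matrix.ProjectiveSpecialLinearGroup (Fin 2) F) := by
  classical
  have hp : p.Prime := Fact.out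
  have hcomm : ¬ IsMulCommutative G := not_comm_of_not_prime (by
    rw [hG]; exact Nat.not_prime_mul (by omega) (by nlinarith))
  have hcard : ∀ P : Sylow p G, Nat.card ↥(P : Subgroup G) = p := by
    intro P
    have h := card_sylow_eq (e := 1) (m := (p + 1) * d) (by rw [hG]; ring) ?_ P
    · simpa using h
    · rw [hp.dvd_mul, Nat.dvd_add_right (dvd_refl p)]
      rintro (h | h)
      · exact hp.ne_one (Nat.dvd_one.1 h)
      · have := Nat.le_of_dvd (by omega) h
        omega
  have hstruct : ∀ P : Sylow p G, Nat.card ↥(normalizer ((P : Subgroup G) : Set G)) = p * d ∧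
      centralizer ((P : Subgroup G) : Set G) ≤ (P : Subgroup G) := by
    intro P
    obtain ⟨c, e, hC, hN, -, -, hc, -⟩ := exists_refined hcomm P (hcard P)
    rw [hn, Nat.add_sub_cancel, Nat.div_self hp.pos, Nat.factorial_one, Nat.dvd_one] at hc
    subst hc
    rw [mul_one] at hC
    refine ⟨?_, ?_⟩
    · have h1 := card_normalizer_mul P
      rw [hn, hG] at h1
      exact Nat.eq_of_mul_eq_mul_right (Nat.succ_pos p) (h1.trans (mul_comm _ _))
    · have hle : (P : Subgroup G) ≤ centralizer ((P : Subgroup G) : Set G) := by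
        have : IsCyclic ↥(P : Subgroup G) := isCyclic_of_prime_card (hcard P)
        intro x hx
        refine mem_centralizer_iff.2 fun y hy => ?_
        obtain ⟨⟨u, hu⟩, hgen⟩ := IsCyclic.exists_generator (α := ↥(P : Subgroup G))
        obtain ⟨a, ha⟩ := mem_zpowers_iff.1 (hgen ⟨x, hx⟩)
        obtain ⟨b, hb⟩ := mem_zpowers_iff.1 (hgen ⟨y, hy⟩)
        rw [← show u ^ a = x from congrArg Subtype.val ha, ← show u ^ b = y from congrArg Subtype.val hb]
        exact ((Commute.refl u).zpow_zpow b a).eq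
      exact (eq_of_le_of_card_ge hle (by rw [hC, hcard])).ge
  obtain ⟨K, _, _, hK, ⟨e⟩⟩ := CfsgLib.DihedralEight.exists_psl (G := G) p 1 d
    (fun P => by rw [hcard, pow_one]) (fun P a ha b hb => by
      have : IsCyclic ↥(P : Subgroup G) := isCyclic_of_prime_card (hcard P)
      exact congrArg Subtype.val ((IsCyclic.commGroup (α := ↥(P : Subgroup G))).mul_comm ⟨a, ha⟩ ⟨b, hb⟩))
    (fun P x hx hx1 => by
      refine le_trans ?_ (hstruct P).2
      have hxe : zpowers x = (P : Subgroup G) := by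
        refine eq_of_le_of_card_ge (zpowers_le.2 hx) ?_
        have h := ((Nat.dvd_prime hp).1 (hcard P ▸ Subgroup.orderOf_dvd_natCard _ hx)).resolve_left
          (fun h => hx1 (orderOf_eq_one_iff.1 h))
        rw [Nat.card_zpowers, h, hcard P]
      rw [← hxe, zpowers_eq_closure, centralizer_closure])
    (by rw [hn, pow_one]) (by rw [hG, pow_one]) hd1 (by rw [hd, pow_one])
    (fun P M g hM hMN hf hgM hg2 hgn => by
      obtain ⟨D⟩ := exists_swapData hd1 hd hcard (fun P => (hstruct P).1) (fun P => (hstruct P).2) hn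
        P M g hM hMN hf hgM hg2 hgn
      exact hswap M g D)
  exact ⟨e.trans (CfsgLib.Linear.pslRingEquiv
    (FiniteField.ringEquivOfCardEq (K := K) (K' := F) (by rw [hK, hF, pow_one])))⟩

end CfsgLib.SmallOrder
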