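import Cfsg.Agent.Lib.SmallOrder.PrincipalGram
import Cfsg.Agent.Lib.Char.Integral
import Cfsg.Agent.Lib.Char.Kernel
import Cfsg.Agent.Lib.Char.DefectZero
import Mathlib.GroupTheory.Perm.Cycle.Type

/-!
Degrees modulo `p`, and the lower bound for the degrees of the non-principal characters.
-/

set_option autoImplicit false

open scoped ComplexConjugate

namespace CfsgLib.SmallOrder

universe u

/-- In characteristic `p`, an invariant function sums over the fixed points of a permutation of order `p`. -/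
theorem sum_eq_sum_fixed {α : Type*} [Fintype α] [DecidableEq α] {R : Type*} [CommRing R]
    [DecidableEq R] {p : ℕ} [hp : Fact p.Prime] [CharP R p] (σ : Equiv.Perm α) (hσ : σ ^ p = 1)
    (f : α → R) (hf : ∀ a, f (σ a) = f a) :
    ∑ a, f a = ∑ a ∈ Finset.univ.filter (fun a => σ a = a), f a := by
  rw [← Finset.sum_fiberwise_of_maps_to' (t := Finset.univ.image f) (g := f)
    (fun a _ => Finset.mem_image_of_mem f (Finset.mem_univ a)) (fun c => c),
    ← Finset.sum_fiberwise_of_maps_to' (t := Finset.univ.image f) (g := f)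
      (s := Finset.univ.filter (fun a => σ a = a))
      (fun a _ => Finset.mem_image_of_mem f (Finset.mem_univ a)) (fun c => c)]
  refine Finset.sum_congr rfl fun c _ => ?_
  rw [Finset.sum_const, Finset.sum_const, nsmul_eq_mul, nsmul_eq_mul]
  congr 1
  rw [CharP.natCast_eq_natCast R p]
  let τ : Equiv.Perm {a // f a = c} := σ.subtypePerm (fun a => by rw [hf])
  have hτ : τ ^ p ^ 1 = 1 := by
    rw [pow_one]
    apply Equiv.ext
    intro a
    apply Subtype.ext
    simp [τ, Equiv.Perm.subtypePerm_pow, hσ]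
  have h := Equiv.Perm.card_compl_support_modEq hτ
  refine Nat.ModEq.symm ?_
  convert h using 1
  · refine Finset.card_bij (fun a ha => ⟨a, ((Finset.mem_filter.1 ha).2 :)⟩) ?_ ?_ ?_
    · intro a ha
      simp only [Finset.mem_filter, Finset.mem_univ, true_and] at ha
      simp [τ, Subtype.ext_iff, ha.1]
    · intro a _ b _ hab
      exact congrArg Subtype.val hab
    · rintro ⟨b, hb⟩ hb'
      simp only [Finset.mem_compl, Equiv.Perm.mem_support, not_not, τ, Subtype.ext_iff,
        Equiv.Perm.subtypePerm_apply] at hb'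
      exact ⟨b, by simp [hb, hb'], rfl⟩
  · rw [Fintype.card_subtype]

namespace CSplit

open Subgroup

variable {G : Type u} [Group G] [Fintype G] {p : ℕ} [Fact p.Prime] {P : Sylow p G} (S : CSplit p P)

/-- the total multiplicity on the fixed space of `V` -/
noncomputable def tmult (χ : Cfsg.IrrCharacter G) : ℕ := ∑ j : ZMod p, S.mult χ j

/-- For a character of weight prime to `p`, the values on `V` are congruent to the total multiplicity. -/
theorem red_value (χ : Cfsg.IrrCharacter G) (hM : ¬ p ∣ S.tmult χ) {M : Ideal Cfsg.AlgInt}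
    (hM' : Cfsg.IsPModular p M) {v : G} (hv : v ∈ S.V) (x : Cfsg.AlgInt)
    (hx : (x : ℂ) = χ.1 v) :
    (Ideal.Quotient.mk M x : Blocks.ResField M) = (S.tmult χ : Blocks.ResField M) := by
  classical
  have hp : p.Prime := Fact.out
  obtain ⟨n, ρ, hρ, hχ⟩ := χ.2
  have hmax := Blocks.isMaximal_of_isPModular hM'
  have hmem := Blocks.natCast_mem_of_isPModular hM'
  have hchar : CharP (Blocks.ResField M) p := Blocks.charP_resField hp hmem
  have := Fintype.ofFinite S.V
  let X : G → Cfsg.AlgInt := fun g => ⟨χ.1 g, hχ ▸ Char.isIntegral_character ρ g⟩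
  let K : Finset G := Finset.univ.filter fun g => ∃ x : G, x * g * x⁻¹ ∈ S.V
  have hKclass : ∀ g h : G, (h * g * h⁻¹ ∈ K ↔ g ∈ K) := by
    intro g h
    simp only [K, Finset.mem_filter, Finset.mem_univ, true_and]
    constructor
    · rintro ⟨x, hx⟩; exact ⟨x * h, by simpa [mul_assoc] using hx⟩
    · rintro ⟨x, hx⟩; exact ⟨x * h⁻¹, by simpa [mul_assoc] using hx⟩
  let f : G → ℂ := fun g => if g ∈ K then 1 else 0
  have hf : ∀ g h : G, f (h * g * h⁻¹) = f g := fun g h => if_congr (hKclass g h) rfl rfl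
  obtain ⟨s, hs, hs'⟩ := Char.exists_scalar_sum_smul ρ f hf
  have hsint : IsIntegral ℤ s := by
    have h := Char.isIntegral_central_sum ρ f hf
      (fun g => by simp only [f]; split_ifs <;> [exact isIntegral_one; exact isIntegral_zero])
    rwa [← hs', mul_div_cancel_right₀] at h
    exact Nat.cast_ne_zero.2 (Char.finrank_pos_of_irreducible ρ).ne'
  have hval : ∀ y : G, s * χ.1 y = ∑ g ∈ K, χ.1 (g * y) := by
    intro y
    rw [← hχ]
    have h1 := congrArg (fun T : (Fin n → ℂ) →ₗ[ℂ] (Fin n → ℂ) =>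
      LinearMap.trace ℂ (Fin n → ℂ) (T * ρ y)) hs
    simp only [Finset.sum_mul, map_sum, smul_mul_assoc, map_smul, ← map_mul, one_mul,
      smul_eq_mul] at h1
    refine h1.symm.trans ?_
    rw [Finset.sum_congr rfl (g := fun g => if g ∈ K then ρ.character (g * y) else 0)
      (fun g _ => by simp only [f, Representation.character]; split_ifs <;> simp)]
    rw [Finset.sum_ite, Finset.sum_const_zero, add_zero]
    exact Finset.sum_congr (by ext; simp) fun _ _ => rfl
  let red : Cfsg.AlgInt →+* Blocks.ResField M := Ideal.Quotient.mk M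
  have hsum : ∀ v' : S.V,
      red (∑ g ∈ K, X (g * (v' : G))) = red (∑ v : S.V, X ((v : G) * (v' : G))) := by
    intro v'
    rw [map_sum, map_sum]
    let σ : Equiv.Perm {g // g ∈ K} :=
      Equiv.Perm.subtypePerm ((MulAut.conj S.z).toEquiv : Equiv.Perm G)
        (fun g => by simpa using hKclass g S.z)
    have hσ : σ ^ p = 1 := by
      apply Equiv.ext
      intro g
      apply Subtype.ext
      simp only [σ, Equiv.Perm.subtypePerm_pow, Equiv.Perm.subtypePerm_apply, Equiv.Perm.coe_one, id]
      have hk : ∀ k : ℕ, (((MulAut.conj S.z).toEquiv : Equiv.Perm G) ^ k) (g : G) =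
          S.z ^ k * (g : G) * (S.z ^ k)⁻¹ := by
        intro k
        induction k with
        | zero => simp
        | succ k ih =>
          rw [pow_succ', Equiv.Perm.mul_apply, ih]
          simp [pow_succ', mul_assoc]
      rw [hk, show S.z ^ p = 1 by rw [← pow_orderOf_eq_one S.z, S.hz]]
      simp
    have hinv : ∀ g : {g // g ∈ K}, red (X ((σ g : G) * (v' : G))) = red (X ((g : G) * (v' : G))) := by
      intro g
      congr 1
      apply Subtype.ext
      change χ.1 (S.z * (g : G) * S.z⁻¹ * (v' : G)) = χ.1 ((g : G) * (v' : G))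
      have hc : S.z * (g : G) * S.z⁻¹ * (v' : G) = S.z * ((g : G) * (v' : G)) * S.z⁻¹ := by
        simp only [mul_assoc, ((S.hcomm v' v'.2).inv_left).eq]
      rw [hc, Char.IsIrrCharacter.isClassFunction χ.2]
    rw [← Finset.sum_coe_sort, sum_eq_sum_fixed σ hσ (fun g => red (X ((g : G) * (v' : G)))) hinv]
    refine Finset.sum_bij' (fun g hg => (⟨(g : G), ?_⟩ : S.V))
      (fun v _ => (⟨(v : G), ?_⟩ : {g // g ∈ K})) (fun g hg => Finset.mem_univ _)
      (fun v _ => ?_) (fun g hg => rfl) (fun v _ => rfl) (fun g hg => rfl)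
    · simp only [Finset.mem_filter, Finset.mem_univ, true_and, σ, Subtype.ext_iff,
        Equiv.Perm.subtypePerm_apply] at hg
      have hgK := g.2
      simp only [K, Finset.mem_filter, Finset.mem_univ, true_and] at hgK
      obtain ⟨x, hx⟩ := hgK
      refine (S.mem_V_iff).2 ⟨?_, ?_⟩
      · refine mem_centralizer_iff.2 fun y hy => ?_
        rw [← S.hP] at hy
        obtain ⟨k, rfl⟩ := mem_zpowers_iff.1 hy
        have hc : Commute S.z (g : G) := by
          have h' : S.z * (g : G) * S.z⁻¹ = g := hg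
          exact mul_inv_eq_iff_eq_mul.1 h'
        exact (hc.zpow_left k).eq
      · have h1 := orderOf_dvd_iff_pow_eq_one.1 (Subgroup.orderOf_dvd_natCard _ hx)
        rw [conj_pow, conj_eq_one_iff] at h1
        exact h1
    · simp only [K, Finset.mem_filter, Finset.mem_univ, true_and]
      exact ⟨1, by simp⟩
    · simp only [Finset.mem_filter, Finset.mem_univ, true_and, σ, Subtype.ext_iff,
        Equiv.Perm.subtypePerm_apply]
      simp [(S.hcomm v v.2).eq]
  have hVsum : ∀ v' : S.V, (∑ v : S.V, X ((v : G) * (v' : G))) =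
      (Nat.card S.V : Cfsg.AlgInt) * (S.tmult χ : Cfsg.AlgInt) := by
    intro v'
    rw [Fintype.sum_equiv (Equiv.mulRight v') (fun v : S.V => X ((v : G) * (v' : G)))
      (fun v : S.V => X (v : G)) (fun v => rfl)]
    apply Subtype.ext
    push_cast
    have := S.sum_mult χ
    rw [Nat.cast_sum] at this
    rw [tmult, Nat.cast_sum, this, Ssum, finsum_eq_sum_of_fintype]
    simp [X, zpw_zero]
  let s' : Cfsg.AlgInt := ⟨s, hsint⟩
  have hkey : ∀ v' : S.V, red s' * red (X v') =
      red ((Nat.card S.V : Cfsg.AlgInt) * (S.tmult χ : Cfsg.AlgInt)) := by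
    intro v'
    rw [← hVsum v', ← hsum v', ← map_mul]
    congr 1
    apply Subtype.ext
    push_cast
    simp only [X, s']
    exact hval v'
  have h1 := hkey 1
  have hall : red s' * red (∑ v' : S.V, X v') =
      (Nat.card S.V : Blocks.ResField M) *
        red ((Nat.card S.V : Cfsg.AlgInt) * (S.tmult χ : Cfsg.AlgInt)) := by
    rw [map_sum, Finset.mul_sum, Finset.sum_congr rfl (fun v' _ => hkey v'), Finset.sum_const,
      Finset.card_univ, nsmul_eq_mul, Nat.card_eq_fintype_card]
  have hV1 := hVsum 1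
  simp only [OneMemClass.coe_one, mul_one] at hV1
  rw [hV1, map_mul, map_natCast, map_natCast] at hall
  have hc0 : (Nat.card S.V : Blocks.ResField M) ≠ 0 := by
    rw [Ne, CharP.cast_eq_zero_iff _ p]; exact S.hcop
  have hT0 : (S.tmult χ : Blocks.ResField M) ≠ 0 := by
    rw [Ne, CharP.cast_eq_zero_iff _ p]; exact hM
  have hs1 : red s' = (Nat.card S.V : Blocks.ResField M) :=
    mul_right_cancel₀ (mul_ne_zero hc0 hT0) hall
  have h2 := hkey ⟨v, hv⟩
  rw [hs1, map_mul, map_natCast] at h2
  have hXv : x = X v := Subtype.ext hx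
  rw [hXv]
  exact mul_left_cancel₀ hc0 (h2.trans (by rw [map_natCast]))

theorem degree_modEq (χ : Cfsg.IrrCharacter G) (hM : ¬ p ∣ S.tmult χ) :
    (Char.degree χ.1 : ZMod p) = (S.tmult χ : ZMod p) := by
  have hp : p.Prime := Fact.out
  obtain ⟨M, hM'⟩ := Char.exists_pModular hp
  have hmax := Blocks.isMaximal_of_isPModular hM'
  have hchar : CharP (Blocks.ResField M) p :=
    Blocks.charP_resField hp (Blocks.natCast_mem_of_isPModular hM')
  have h := S.red_value χ hM hM' S.V.one_mem (Char.degree χ.1 : Cfsg.AlgInt) (by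
    push_cast
    exact Char.IsCharacter.degree_cast (Char.IsIrrCharacter.isCharacter χ.2))
  rw [map_natCast, CharP.natCast_eq_natCast _ p] at h
  exact (ZMod.natCast_eq_natCast_iff _ _ _).2 h

theorem exists_resMult (χ : G → ℂ) (hχ : Cfsg.IsCharacter G χ) (j : ZMod p) :
    ∃ m : ℕ, (p : ℂ) * m = ∑ i : ZMod p, χ (zpw S.z i) * ZMod.stdAddChar (-(j * i)) := by
  classical
  let φ : Multiplicative (ZMod p) →* G :=
    MonoidHom.mk' (fun i => zpw S.z i.toAdd) (fun a b => by rw [toAdd_mul, zpw_add S.hz])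
  let l : Multiplicative (ZMod p) →* ℂˣ :=
    ((ZMod.stdAddChar (N := p)).mulShift j).toMonoidHom.toHomUnits
  obtain ⟨m, hm⟩ := Char.IsCharacter.exists_nat_classInner
    (Char.IsCharacter.comp hχ φ) (Char.isIrrCharacter_monoidHom l)
  refine ⟨m, ?_⟩
  rw [← hm, Cfsg.classInner]
  have hcard : (Nat.card (Multiplicative (ZMod p)) : ℂ) = p := congrArg Nat.cast (Nat.card_zmod p)
  rw [hcard, ← mul_assoc, mul_inv_cancel₀ (Nat.cast_ne_zero.2 (Fact.out : p.Prime).ne_zero), one_mul]
  refine Fintype.sum_equiv Multiplicative.toAdd _ _ fun i => ?_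
  rw [← conj_stdAddChar]
  rfl

include S in
theorem card_range_le_degree [IsSimpleGroup G] {χ : Cfsg.IrrCharacter G}
    (hχ : χ ≠ Char.principalIrr) : Nat.card S.act.range ≤ Char.degree χ.1 := by
  classical
  have hp : p.Prime := Fact.out
  have hp0 : (p : ℂ) ≠ 0 := Nat.cast_ne_zero.2 hp.ne_zero
  choose m hm using S.exists_resMult χ.1 (Char.IsIrrCharacter.isCharacter χ.2)
  have hinv : ∀ i : ZMod p, χ.1 (zpw S.z i) = ((∑ j : ZMod p,
      (m j : ℂ) * ZMod.stdAddChar (j * i))) := by
    intro i
    apply mul_left_cancel₀ hp0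
    rw [Finset.mul_sum, Finset.sum_congr rfl (fun j _ => by rw [← mul_assoc, hm, Finset.sum_mul]),
      Finset.sum_comm, Finset.sum_eq_single_of_mem i (Finset.mem_univ _)]
    · rw [Finset.sum_congr rfl (g := fun _ => χ.1 (zpw S.z i)) (fun j _ => by
        rw [mul_assoc, ← AddChar.map_add_eq_mul, neg_add_cancel, AddChar.map_zero_eq_one, mul_one]),
        Finset.sum_const, Finset.card_univ, ZMod.card, nsmul_eq_mul]
    · intro b _ hb
      have h := sum_stdAddChar (p := p) (i - b)
      rw [if_neg (sub_ne_zero.2 (Ne.symm hb))] at h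
      rw [show (0 : ℂ) = χ.1 (zpw S.z b) * 0 by rw [mul_zero], ← h, Finset.mul_sum]
      refine Finset.sum_congr rfl fun j _ => ?_
      rw [mul_assoc, ← AddChar.map_add_eq_mul, mul_sub, sub_eq_neg_add]
  have hdeg : Char.degree χ.1 = ∑ j : ZMod p, m j := by
    have h := hinv 0
    rw [zpw_zero, ← Char.IsCharacter.degree_cast (Char.IsIrrCharacter.isCharacter χ.2)] at h
    simp only [mul_zero, AddChar.map_zero_eq_one, mul_one] at h
    exact_mod_cast h
  have hmeq : ∀ (g : ↥(normalizer ((P : Subgroup G) : Set G))) (j : ZMod p),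
      m ((S.act g : ZMod p) * j) = m j := by
    intro g j
    have h : (p : ℂ) * m ((S.act g : ZMod p) * j) = (p : ℂ) * m j := by
      rw [hm, hm]
      refine Fintype.sum_equiv (Equiv.mulLeft₀ (S.act g : ZMod p) (Units.ne_zero _)) _ _ fun i => ?_
      change χ.1 (zpw S.z i) * _ =
        χ.1 (zpw S.z ((S.act g : ZMod p) * i)) *
          ZMod.stdAddChar (-(j * ((S.act g : ZMod p) * i)))
      rw [mul_assoc, mul_left_comm j, ← S.conj_zpw (S.act_spec g) i, Char.IsIrrCharacter.isClassFunction χ.2]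
    exact_mod_cast mul_left_cancel₀ hp0 h
  by_cases hnz : ∃ j : ZMod p, j ≠ 0 ∧ m j ≠ 0
  · obtain ⟨j, hj, hmj⟩ := hnz
    rw [hdeg]
    calc Nat.card S.act.range = ∑ _x : S.act.range, 1 := by simp [Nat.card_eq_fintype_card]
      _ ≤ ∑ x : S.act.range, m ((x.1 : ZMod p) * j) := by
          refine Finset.sum_le_sum fun x _ => ?_
          obtain ⟨g, hg⟩ := x.2
          rw [← hg, hmeq]
          omega
      _ ≤ ∑ j : ZMod p, m j := by
          rw [← Finset.sum_image (f := m) (g := fun x : S.act.range => (x.1 : ZMod p) * j)]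
          · exact Finset.sum_le_sum_of_subset (Finset.subset_univ _)
          · intro a _ b _ hab
            exact Subtype.ext (Units.ext (mul_right_cancel₀ hj hab))
  · push Not at hnz
    exfalso
    apply hχ
    obtain ⟨n, ρ, hρ, hχρ⟩ := χ.2
    have hz1 : χ.1 S.z = χ.1 1 := by
      rw [← S.zpw_one, hinv, ← zpw_zero (z := S.z) (p := p), hinv]
      refine Finset.sum_congr rfl fun j _ => ?_
      by_cases hj : j = 0
      · simp [hj]
      · simp [hnz j hj]
    have hnorm : ‖ρ.character S.z‖ = (Module.finrank ℂ (Fin n → ℂ) : ℝ) := by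
      rw [hχρ, hz1, ← hχρ, Representation.char_one]; simp
    obtain ⟨ω, hω⟩ := Char.eq_smul_one_of_norm_character_eq ρ S.z hnorm
    have hn0 : (Module.finrank ℂ (Fin n → ℂ) : ℂ) ≠ 0 :=
      Nat.cast_ne_zero.2 (Char.finrank_pos_of_irreducible ρ).ne'
    have hω1 : ω = 1 := by
      have h := congrArg (LinearMap.trace ℂ (Fin n → ℂ)) hω
      rw [map_smul, LinearMap.trace_one] at h
      have h' : ρ.character S.z = ω * Module.finrank ℂ (Fin n → ℂ) := h
      rw [hχρ, hz1, ← hχρ, Representation.char_one] at h'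
      exact mul_right_cancel₀ hn0 (by rw [← h', one_mul])
    have hker : MonoidHom.ker ρ = ⊤ := by
      refine (MonoidHom.normal_ker ρ).eq_bot_or_eq_top.resolve_left fun h => ?_
      have : S.z ∈ MonoidHom.ker ρ := by rw [MonoidHom.mem_ker, hω, hω1, one_smul]
      rw [h, Subgroup.mem_bot] at this
      have hz := S.hz
      rw [this, orderOf_one] at hz
      exact hp.one_lt.ne hz
    have htriv : ∀ g, ρ g = 1 := fun g => MonoidHom.mem_ker.1 (hker ▸ mem_top g)
    apply Subtype.ext
    funext g
    rw [Char.principalIrr_apply, ← hχρ]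
    change LinearMap.trace ℂ (Fin n → ℂ) (ρ g) = 1
    rw [htriv g, LinearMap.trace_one, CharKernel.finrank_eq_one_of_trivial ρ htriv, Nat.cast_one]

end CSplit

end CfsgLib.SmallOrder
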