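import Cfsg.Agent.Lib.SmallOrder.PrincipalColumns

/-!
The Gram matrix of the reduced multiplicity vectors, the orthogonality to the degrees, and the principal row.
-/

set_option autoImplicit false

open scoped ComplexConjugate

namespace CfsgLib.SmallOrder.CSplit

open Subgroup

universe u

variable {G : Type u} [Group G] [Fintype G] {p : ℕ} [Fact p.Prime] {P : Sylow p G} (S : CSplit p P)

theorem conj_zpw {g : G} {a : ZMod p} (h : g * S.z * g⁻¹ = zpw S.z a) (i : ZMod p) :
    g * zpw S.z i * g⁻¹ = zpw S.z (a * i) := by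
  conv_lhs => rw [zpw, ← conj_pow, h, zpw_mul S.hz, ZMod.natCast_zmod_val, mul_comm]

theorem exists_exponent (g : ↥(normalizer ((P : Subgroup G) : Set G))) :
    ∃ a : (ZMod p)ˣ, (g : G) * S.z * (g : G)⁻¹ = zpw S.z (a : ZMod p) := by
  have h := (mem_normalizer_iff.1 g.2 S.z).1 S.z_mem
  obtain ⟨a, ha⟩ := exists_zpw_of_mem_zpowers S.hz (le_of_eq S.hP.symm h)
  refine ⟨Units.mk0 a ?_, ha⟩
  rintro rfl
  rw [zpw_zero, conj_eq_one_iff] at ha
  have := S.hz
  rw [ha, orderOf_one] at this
  exact (Fact.out : p.Prime).one_lt.ne this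

/-- the exponent by which a normalising element acts on `P` -/
noncomputable def expo (g : ↥(normalizer ((P : Subgroup G) : Set G))) : (ZMod p)ˣ :=
  (S.exists_exponent g).choose

theorem expo_spec (g : ↥(normalizer ((P : Subgroup G) : Set G))) :
    (g : G) * S.z * (g : G)⁻¹ = zpw S.z (S.expo g : ZMod p) :=
  (S.exists_exponent g).choose_spec

theorem expo_unique {g : ↥(normalizer ((P : Subgroup G) : Set G))} {a : ZMod p}
    (h : (g : G) * S.z * (g : G)⁻¹ = zpw S.z a) : (S.expo g : ZMod p) = a :=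
  zpw_injective S.hz ((S.expo_spec g).symm.trans h)

/-- the action of the normaliser on `P` as a homomorphism -/
noncomputable def act : ↥(normalizer ((P : Subgroup G) : Set G)) →* (ZMod p)ˣ :=
  MonoidHom.mk' S.expo fun g h => by
    refine Units.ext (S.expo_unique ?_)
    rw [Units.val_mul, ← S.conj_zpw (S.expo_spec g), ← S.expo_spec h]
    simp [mul_assoc]

theorem act_spec (g : ↥(normalizer ((P : Subgroup G) : Set G))) :
    (g : G) * S.z * (g : G)⁻¹ = zpw S.z (S.act g : ZMod p) := S.expo_spec g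

theorem zpw_one : zpw S.z (1 : ZMod p) = S.z := by
  simpa using zpw_natCast (p := p) S.hz 1

theorem ker_act : S.act.ker =
    (centralizer ((P : Subgroup G) : Set G)).subgroupOf (normalizer ((P : Subgroup G) : Set G)) := by
  ext g
  rw [MonoidHom.mem_ker, mem_subgroupOf]
  constructor
  · intro h
    have hg : (g : G) * S.z * (g : G)⁻¹ = S.z := by
      have := S.act_spec g
      rwa [h, Units.val_one, S.zpw_one] at this
    refine mem_centralizer_iff.2 fun y hy => ?_
    rw [← S.hP] at hy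
    obtain ⟨k, rfl⟩ := mem_zpowers_iff.1 hy
    exact ((show Commute S.z (g : G) from (mul_inv_eq_iff_eq_mul.1 hg).symm).zpow_left k).eq
  · intro h
    refine Units.ext (S.expo_unique ?_)
    rw [Units.val_one, S.zpw_one, mul_inv_eq_iff_eq_mul]
    exact (mem_centralizer_iff.1 h S.z S.z_mem).symm

theorem card_ker_act : Nat.card S.act.ker = p * Nat.card S.V := by
  rw [ker_act, Nat.card_congr (subgroupOfEquivOfLe (centralizer_le_normalizer _)).toEquiv,
    S.card_centralizer]

theorem card_normalizer :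
    Nat.card ↥(normalizer ((P : Subgroup G) : Set G)) =
      p * Nat.card S.V * Nat.card S.act.range := by
  rw [← S.card_ker_act, ← Subgroup.index_ker, Subgroup.card_mul_index]

theorem sum_card_conj {i : ZMod p} (hi : i ≠ 0) (f : ZMod p → ℂ) :
    ∑ i' : ZMod p, (Nat.card {g : G // g * zpw S.z i * g⁻¹ = zpw S.z i'} : ℂ) * f i' =
      ∑ᶠ g : ↥(normalizer ((P : Subgroup G) : Set G)), f ((S.act g : ZMod p) * i) := by
  classical
  have := Fintype.ofFinite ↥(normalizer ((P : Subgroup G) : Set G))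
  rw [finsum_eq_sum_of_fintype]
  calc _ = ∑ i' : ZMod p, ∑ _g : {g : G // g * zpw S.z i * g⁻¹ = zpw S.z i'}, f i' := by
        simp [Nat.card_eq_fintype_card]
    _ = ∑ x : (Σ i' : ZMod p, {g : G // g * zpw S.z i * g⁻¹ = zpw S.z i'}), f x.1 :=
        (Fintype.sum_sigma (fun x : (Σ i' : ZMod p,
          {g : G // g * zpw S.z i * g⁻¹ = zpw S.z i'}) => f x.1)).symm
    _ = _ := by
      refine Fintype.sum_bijective
        (fun x => (⟨x.2.1, S.mem_normalizer_of_conj hi x.2.2⟩ :
          ↥(normalizer ((P : Subgroup G) : Set G)))) ⟨?_, ?_⟩ _ _ ?_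
      · rintro ⟨i₁, g₁, h₁⟩ ⟨i₂, g₂, h₂⟩ h
        obtain rfl : g₁ = g₂ := congrArg Subtype.val h
        obtain rfl : i₁ = i₂ := zpw_injective S.hz (h₁.symm.trans h₂)
        rfl
      · intro g
        exact ⟨⟨(S.act g : ZMod p) * i, g.1, S.conj_zpw (S.act_spec g) i⟩, rfl⟩
      · rintro ⟨i₁, g₁, h₁⟩
        congr 1
        exact zpw_injective S.hz (h₁.symm.trans
          (S.conj_zpw (S.act_spec ⟨g₁, S.mem_normalizer_of_conj hi h₁⟩) i))

open scoped Classical in
theorem card_act_eq (x : (ZMod p)ˣ) :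
    Nat.card {g : ↥(normalizer ((P : Subgroup G) : Set G)) // S.act g = x} =
      if x ∈ S.act.range then p * Nat.card S.V else 0 := by
  split_ifs with h
  · obtain ⟨g0, rfl⟩ := h
    rw [← S.card_ker_act]
    refine Nat.card_congr ((Equiv.mulLeft g0).subtypeEquiv fun g => ?_).symm
    simp [MonoidHom.mem_ker]
  · have : IsEmpty {g : ↥(normalizer ((P : Subgroup G) : Set G)) // S.act g = x} :=
      ⟨fun g => h ⟨g.1, g.2⟩⟩
    simp

theorem sum_mul_sub_one {j a : ZMod p} (hj : j ≠ 0) (ha : a ≠ 0) :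
    ∑ i : ZMod p, ((ZMod.stdAddChar (-(j * i)) : ℂ) - 1) * ((ZMod.stdAddChar (a * i) : ℂ) - 1) =
      (p : ℂ) * ((if a = j then 1 else 0) + 1) := by
  have h : ∀ i : ZMod p, ((ZMod.stdAddChar (-(j * i)) : ℂ) - 1) * ((ZMod.stdAddChar (a * i) : ℂ) - 1)
      = ZMod.stdAddChar (i * (a - j)) - ZMod.stdAddChar (i * -j) - ZMod.stdAddChar (i * a) + 1 := by
    intro i
    rw [show i * (a - j) = -(j * i) + a * i by ring, AddChar.map_add_eq_mul,
      show i * -j = -(j * i) by ring, mul_comm i a]
    ring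
  simp only [h, Finset.sum_add_distrib, Finset.sum_sub_distrib, sum_stdAddChar, sub_eq_zero,
    neg_eq_zero, hj, ha, if_false]
  split_ifs <;> simp <;> ring

open scoped Classical in
/-- the Gram matrix -/
theorem gram (u u' : (ZMod p)ˣ) :
    ∑ χ : Cfsg.IrrCharacter G, S.rmult χ (u : ZMod p) * S.rmult χ (u' : ZMod p) =
      (Nat.card S.act.range : ℤ) + if u'⁻¹ * u ∈ S.act.range then 1 else 0 := by
  have hp0 : (p : ℂ) * Nat.card S.V ≠ 0 :=
    mul_ne_zero (Nat.cast_ne_zero.2 (Fact.out : p.Prime).ne_zero)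
      (Nat.cast_ne_zero.2 Nat.card_pos.ne')
  have := Fintype.ofFinite ↥(normalizer ((P : Subgroup G) : Set G))
  let F : ZMod p → ZMod p → ℂ := fun j i => ZMod.stdAddChar (-(j * i)) - 1
  have step : ∀ i : ZMod p,
      ∑ i' : ZMod p, F (u : ZMod p) i * conj (F (u' : ZMod p) i') *
          ∑ χ : Cfsg.IrrCharacter G, S.Ssum χ.1 i * conj (S.Ssum χ.1 i') =
        (Nat.card S.V : ℂ) * ∑ g : ↥(normalizer ((P : Subgroup G) : Set G)),
          F (u : ZMod p) i * conj (F (u' : ZMod p) ((S.act g : ZMod p) * i)) := by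
    intro i
    by_cases hi : i = 0
    · simp [hi, F]
    simp only [S.sum_Ssum_mul_conj hi]
    have := S.sum_card_conj hi (fun i' => F (u : ZMod p) i * conj (F (u' : ZMod p) i'))
    rw [finsum_eq_sum_of_fintype] at this
    rw [← this, Finset.mul_sum]
    exact Finset.sum_congr rfl fun i' _ => by ring
  have hL : ((p : ℂ) * Nat.card S.V) ^ 2 *
      ∑ χ : Cfsg.IrrCharacter G, ((S.rmult χ (u : ZMod p) : ℂ) * S.rmult χ (u' : ZMod p)) =
      (Nat.card S.V : ℂ) * ∑ g : ↥(normalizer ((P : Subgroup G) : Set G)),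
        ∑ i : ZMod p, F (u : ZMod p) i * conj (F (u' : ZMod p) ((S.act g : ZMod p) * i)) := by
    rw [Finset.sum_comm, Finset.mul_sum (a := (Nat.card S.V : ℂ)),
      ← Finset.sum_congr rfl (fun i _ => step i)]
    calc _ = ∑ χ : Cfsg.IrrCharacter G, ((p : ℂ) * Nat.card S.V * S.rmult χ (u : ZMod p)) *
          conj ((p : ℂ) * Nat.card S.V * S.rmult χ (u' : ZMod p)) := by
          rw [Finset.mul_sum]
          refine Finset.sum_congr rfl fun χ _ => ?_
          simp only [map_mul, map_natCast, map_intCast]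
          ring
      _ = _ := by
          simp only [S.rmult_spec, map_sum, map_mul, Finset.sum_mul_sum]
          rw [Finset.sum_comm]
          refine Finset.sum_congr rfl fun i _ => ?_
          rw [Finset.sum_comm]
          refine Finset.sum_congr rfl fun i' _ => ?_
          rw [Finset.mul_sum]
          exact Finset.sum_congr rfl fun χ _ => by simp only [F]; ring
  have hinner : ∀ g : ↥(normalizer ((P : Subgroup G) : Set G)),
      ∑ i : ZMod p, F (u : ZMod p) i * conj (F (u' : ZMod p) ((S.act g : ZMod p) * i)) =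
        (p : ℂ) * ((if S.act g = u'⁻¹ * u then 1 else 0) + 1) := by
    intro g
    have hF : ∀ i : ZMod p, conj (F (u' : ZMod p) ((S.act g : ZMod p) * i)) =
        ZMod.stdAddChar (((S.act g * u' : (ZMod p)ˣ) : ZMod p) * i) - 1 := by
      intro i
      simp only [F, map_sub, map_one, conj_stdAddChar, neg_neg, Units.val_mul]
      congr 2
      ring
    simp only [hF, F]
    rw [sum_mul_sub_one (Units.ne_zero u) (Units.ne_zero _)]
    congr 2
    refine if_congr ?_ rfl rfl
    rw [Units.val_inj]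
    constructor
    · intro h; rw [← h, mul_comm (S.act g), inv_mul_cancel_left]
    · intro h; rw [h, mul_comm, mul_inv_cancel_left]
  rw [Finset.sum_congr rfl (fun g _ => hinner g), ← Finset.mul_sum, Finset.sum_add_distrib,
    Finset.sum_boole, Finset.sum_const, Finset.card_univ, ← Nat.card_eq_fintype_card,
    ← Fintype.card_subtype, ← Nat.card_eq_fintype_card, S.card_act_eq, S.card_normalizer] at hL
  have hfin : (∑ χ : Cfsg.IrrCharacter G,
      ((S.rmult χ (u : ZMod p) : ℂ) * S.rmult χ (u' : ZMod p))) =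
      (Nat.card S.act.range : ℂ) + if u'⁻¹ * u ∈ S.act.range then 1 else 0 := by
    apply mul_left_cancel₀ (pow_ne_zero 2 hp0)
    rw [hL]
    split_ifs <;> push_cast <;> simp <;> ring
  split_ifs at hfin ⊢ with h <;> exact_mod_cast hfin

/-- orthogonality to the degrees -/
theorem sum_degree_mul (j : ZMod p) :
    ∑ χ : Cfsg.IrrCharacter G, (Char.degree χ.1 : ℤ) * S.rmult χ j = 0 := by
  classical
  have hp0 : (p : ℂ) * Nat.card S.V ≠ 0 :=
    mul_ne_zero (Nat.cast_ne_zero.2 (Fact.out : p.Prime).ne_zero)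
      (Nat.cast_ne_zero.2 Nat.card_pos.ne')
  suffices h : (p : ℂ) * Nat.card S.V *
      ∑ χ : Cfsg.IrrCharacter G, ((Char.degree χ.1 : ℂ) * S.rmult χ j) = 0 by
    have := (mul_eq_zero.1 h).resolve_left hp0
    exact_mod_cast this
  have hz : ∀ i : ZMod p, i ≠ 0 → ∑ χ : Cfsg.IrrCharacter G, χ.1 1 * S.Ssum χ.1 i = 0 := by
    intro i hi
    have := Fintype.ofFinite S.V
    simp only [Ssum, finsum_eq_sum_of_fintype, Finset.mul_sum]
    rw [Finset.sum_comm]
    refine Finset.sum_eq_zero fun v _ => ?_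
    rw [Char.sum_apply_one_mul, if_neg]
    intro h
    exact hi (S.unique v.2 S.V.one_mem (i := i) (j := 0) (by rw [h, zpw_zero, one_mul])).1
  calc _ = ∑ i : ZMod p, (ZMod.stdAddChar (-(j * i)) - 1) *
        ∑ χ : Cfsg.IrrCharacter G, χ.1 1 * S.Ssum χ.1 i := by
        simp only [Finset.mul_sum]
        rw [Finset.sum_comm]
        refine Finset.sum_congr rfl fun χ _ => ?_
        rw [Char.IsCharacter.degree_cast (Char.IsIrrCharacter.isCharacter χ.2),
          mul_left_comm, S.rmult_spec, Finset.mul_sum]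
        exact Finset.sum_congr rfl fun i _ => by ring
    _ = 0 := Finset.sum_eq_zero fun i _ => by
        by_cases hi : i = 0
        · simp [hi]
        · rw [hz i hi, mul_zero]

theorem rmult_principal {j : ZMod p} (hj : j ≠ 0) : S.rmult Char.principalIrr j = -1 := by
  have hp0 : (p : ℂ) * Nat.card S.V ≠ 0 :=
    mul_ne_zero (Nat.cast_ne_zero.2 (Fact.out : p.Prime).ne_zero)
      (Nat.cast_ne_zero.2 Nat.card_pos.ne')
  have hS : ∀ i : ZMod p, S.Ssum (Char.principalIrr : Cfsg.IrrCharacter G).1 i = Nat.card S.V := by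
    intro i
    classical
    have := Fintype.ofFinite S.V
    simp [Ssum, finsum_eq_sum_of_fintype, Nat.card_eq_fintype_card]
  have h := S.rmult_spec Char.principalIrr j
  simp only [hS, ← Finset.mul_sum, Finset.sum_sub_distrib] at h
  have h2 : ∑ i : ZMod p, (ZMod.stdAddChar (-(j * i)) : ℂ) = 0 := by
    have := sum_stdAddChar (p := p) (-j)
    rw [if_neg (neg_ne_zero.2 hj)] at this
    rw [← this]
    exact Finset.sum_congr rfl fun i _ => by rw [mul_neg, mul_comm i j]
  rw [h2, Finset.sum_const, Finset.card_univ, ZMod.card] at h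
  have h' : (p : ℂ) * Nat.card S.V * S.rmult Char.principalIrr j =
      (p : ℂ) * Nat.card S.V * ((-1 : ℤ) : ℂ) := by rw [h]; simp [mul_comm]
  exact_mod_cast mul_left_cancel₀ hp0 h'

end CfsgLib.SmallOrder.CSplit
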