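import Cfsg.Agent.Lib.SmallOrder.AutoFast

/-!
Kernel checks of the automatic criterion between 4289 and 4936.
-/

set_option autoImplicit false

namespace CfsgLib.SmallOrder

theorem rangeExcluded_4289 :
    rangeExcluded 4289 216 [4080, 5040, 5400, 5616, 6048, 6072] = true := rangeExcluded_of_rev (by
  decide +kernel)

theorem rangeExcluded_4505 :
    rangeExcluded 4505 216 [4080, 5040, 5400, 5616, 6048, 6072] = true := rangeExcluded_of_rev (by
  decide +kernel)

theorem rangeExcluded_4721 :
    rangeExcluded 4721 216 [4080, 5040, 5400, 5616, 6048, 6072] = true := rangeExcluded_of_rev (by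
  decide +kernel)

end CfsgLib.SmallOrder
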