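import Cfsg.Agent.Lib.SmallOrder.DegreeCheck
import Cfsg.Agent.Lib.SmallOrder.BlockValues

/-!
The refined searches for the degree equation: lower bounds for the degrees, and values at an involution.
-/

set_option autoImplicit false

namespace CfsgLib.SmallOrder

/-- `degSearch` with a final test on the list found. -/
def degSearchP : List (ℤ × ℕ) → ℕ → ℤ → ℕ → List (ℤ × ℕ) → (List (ℤ × ℕ) → Bool) → Bool
  | [], S, T, _, acc, Q => Nat.beq S 0 && (decide (T = 0) && Q acc)
  | (w, f) :: rest, S, T, B, acc, Q =>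
    (List.range (S + 1)).any fun m =>
      Nat.ble (m * (w.natAbs * w.natAbs)) S && Nat.ble (m * (f * f)) B &&
        degSearchP rest (S - m * (w.natAbs * w.natAbs)) (T - (m : ℤ) * (w * (f : ℤ))) (B - m * (f * f))
          (List.replicate m (w, f) ++ acc) Q

/-- possible values at an involution of a character of degree `f` -/
def bVals (f : ℕ) : List ℤ :=
  (List.range ((f - 1) / 2)).map fun (j : ℕ) => (f : ℤ) - 4 * ((j : ℤ) + 1)

/-- for `c = 1`: the trace is bounded by the dimension of the fixed space of `P` -/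
def boundOK (p c e : ℕ) (W : ℤ) (f : ℕ) (b : ℤ) : Bool :=
  !(Nat.beq c 1) || decide (((p * b.natAbs : ℕ) : ℤ) ≤ (f : ℤ) - (e : ℤ) * W)

/-- search for values at an involution -/
def valSearch (N : ℕ) (g : ℤ × ℕ → ℤ → Bool) : List (ℤ × ℕ) → ℤ → ℤ → (ℤ → Bool) → Bool
  | [], s, q, ok => decide (s = 0) && ok q
  | (w, f) :: rest, s, q, ok =>
    (bVals f).any fun b =>
      g (w, f) b && valSearch N g rest (s + w * b) (q + w * b * b * ((N / f : ℕ) : ℤ)) ok

/-- the weighted squares allowed by the fixed point numbers `k` -/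
def invTarget (p c e n : ℕ) (q : ℤ) : Bool :=
  (List.range ((n - 1) / p + 2)).any fun k =>
    Nat.blt 0 k && Nat.beq (k % 4) (n % 4) && decide (q = -((p * c * e * e * k * k : ℕ) : ℤ))

/-- the targets when all involutions are conjugate: the `2`-part of the order divides `k e` -/
def invTargetStrict (N p c e n : ℕ) (q : ℤ) : Bool :=
  (List.range ((n - 1) / p + 2)).any fun k =>
    Nat.blt 0 k && Nat.beq (k % 4) (n % 4) && Nat.beq (k * e % Nat.gcd N (2 ^ 64)) 0 &&
      decide (q = -((p * c * e * e * k * k : ℕ) : ℤ))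

/-- search for the values of an involution inverting `P` -/
def tSearch (N p c e n t : ℕ) (W0 : ℤ) (f0 : ℕ) (l : List (ℤ × ℕ)) (ok : ℤ → Bool) : Bool :=
  (bVals f0).any fun b =>
    boundOK p c e W0 f0 b && valSearch N (fun x => boundOK p c e ((t : ℤ) * x.1) x.2) l
      (-1 + W0 * b) (-(N : ℤ) + W0 * b * b * ((N / f0 : ℕ) : ℤ)) ok

/-- the test on a solution of the degree equation -/
def solTest (N p c e n t : ℕ) (W0 : ℤ) (f0 : ℕ) (l : List (ℤ × ℕ)) : Bool :=
  Nat.beq (c % 2) 0 || Nat.beq (e % 2) 1 ||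
    (tSearch N p c e n t W0 f0 l (invTargetStrict N p c e n) ||
      (valSearch N (fun _ _ => true) ((W0, f0) :: l) (-1) (-(N : ℤ)) (fun q => decide (q = 0)) &&
        tSearch N p c e n t W0 f0 l (invTarget p c e n)))

/-- `true` when no solution passes -/
def noSolution (N p c e t n R : ℕ) : Bool :=
  let L : ℕ := max e (degBound p c)
  Nat.blt N ((R + 1) * (R + 1)) &&
  [(1 : ℤ), -1].all fun ε => (intBox (e + 1)).all fun k =>
    let S : ℤ := (e : ℤ) - 1 - (t : ℤ) * (k * k) - 2 * ε * k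
    decide (S < 0) || (Nat.beq t 1 && decide (k + ε = 0)) || (degFs N L R).all fun f0 =>
      !(decide (((f0 : ℤ) - ((e : ℤ) * ε - k)) % (p : ℤ) = 0) && Nat.ble (1 + t * (f0 * f0)) N &&
        degSearchP ((degCands N p e R).filter fun x => Nat.ble L x.2) S.toNat
          (1 - ((t : ℤ) * k + ε) * f0) (N - (1 + t * (f0 * f0))) []
          fun l => solTest N p c e n t ((t : ℤ) * k + ε) f0 l)

theorem mem_bVals {f m : ℕ} (hm : Even m) (h0 : 0 < m) (hlt : m < f) :
    ((f : ℤ) - 2 * m) ∈ bVals f := by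
  obtain ⟨a, rfl⟩ := hm
  refine List.mem_map.2 ⟨a - 1, List.mem_range.2 (by omega), ?_⟩
  have : 1 ≤ a := by omega
  push_cast [Nat.cast_sub this]
  ring

theorem valSearch_spec (N : ℕ) (g : ℤ × ℕ → ℤ → Bool) (ok : ℤ → Bool) :
    ∀ (tr : List ((ℤ × ℕ) × ℤ)) (s q : ℤ),
    (∀ x ∈ tr, x.2 ∈ bVals x.1.2 ∧ g x.1 x.2 = true) → s + (tr.map fun x => x.1.1 * x.2).sum = 0 →
    ok (q + (tr.map fun x => x.1.1 * x.2 * x.2 * ((N / x.1.2 : ℕ) : ℤ)).sum) = true →
    valSearch N g (tr.map Prod.fst) s q ok = true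
  | [], s, q, _, hs, hq => by
    simp only [List.map_nil, List.sum_nil, add_zero] at hs hq
    simp [valSearch, hs, hq]
  | ((w, f), b) :: tr, s, q, hmem, hs, hq => by
    simp only [List.map_cons, List.sum_cons] at hs hq
    simp only [List.map_cons, valSearch, List.any_eq_true, Bool.and_eq_true]
    refine ⟨b, (hmem _ (List.mem_cons_self ..)).1, (hmem _ (List.mem_cons_self ..)).2,
      valSearch_spec N g ok tr _ _ (fun x hx => hmem x (List.mem_cons_of_mem _ hx)) ?_ ?_⟩
    · rw [← hs]; ring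
    · rw [add_assoc]; exact hq

theorem valSearch_perm (N : ℕ) (g : ℤ × ℕ → ℤ → Bool) (ok : ℤ → Bool) {l l' : List (ℤ × ℕ)}
    (h : l.Perm l') : ∀ s q, valSearch N g l s q ok = valSearch N g l' s q ok := by
  induction h with
  | nil => intros; rfl
  | cons x _ ih =>
    intro s q
    obtain ⟨w, f⟩ := x
    simp only [valSearch]
    congr 1
    funext b
    rw [ih]
  | swap x y l =>
    intro s q
    obtain ⟨w, f⟩ := x
    obtain ⟨w', f'⟩ := y
    rw [Bool.eq_iff_iff]
    simp only [valSearch, List.any_eq_true, Bool.and_eq_true]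
    constructor
    · rintro ⟨b, hb, hg, b', hb', hg', h⟩
      refine ⟨b', hb', hg', b, hb, hg, ?_⟩
      rwa [add_right_comm s, add_right_comm q]
    · rintro ⟨b, hb, hg, b', hb', hg', h⟩
      refine ⟨b', hb', hg', b, hb, hg, ?_⟩
      rwa [add_right_comm s, add_right_comm q]
  | trans _ _ ih ih' => intro s q; exact (ih s q).trans (ih' s q)

theorem solTest_perm (N p c e n t : ℕ) (W0 : ℤ) (f0 : ℕ) {l l' : List (ℤ × ℕ)} (h : l.Perm l') :
    solTest N p c e n t W0 f0 l = solTest N p c e n t W0 f0 l' := by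
  simp only [solTest, tSearch, valSearch_perm N _ _ h, valSearch_perm N _ _ (h.cons (W0, f0))]

theorem degSearchP_spec (Q : List (ℤ × ℕ) → Bool) (hQ : ∀ a b, a.Perm b → Q a = Q b) :
    ∀ (cands : List (ℤ × ℕ)) (l : List (ℤ × ℕ)) (S : ℕ) (T : ℤ) (B : ℕ) (acc : List (ℤ × ℕ)),
    (∀ x ∈ l, x ∈ cands ∧ x.1 ≠ 0) →
    (l.map fun x => x.1.natAbs * x.1.natAbs).sum = S → (l.map fun x => x.1 * (x.2 : ℤ)).sum = T →
    (l.map fun x => x.2 * x.2).sum ≤ B → Q (l ++ acc) = true → degSearchP cands S T B acc Q = true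
  | [], l, S, T, B, acc, hl, hS, hT, hB, hq => by
    cases l with
    | nil =>
      simp only [List.map_nil, List.sum_nil] at hS hT
      subst hS; subst hT
      simpa [degSearchP] using hq
    | cons a l => exact absurd (hl a (List.mem_cons_self ..)).1 (List.not_mem_nil)
  | (w, f) :: rest, l, S, T, B, acc, hl, hS, hT, hB, hq => by
    classical
    let l1 := l.filter (fun x => decide (x = (w, f)))
    let l2 := l.filter (fun x => !decide (x = (w, f)))
    have hperm : (l1 ++ l2).Perm l := List.filter_append_perm _ l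
    have hl1 : l1 = List.replicate l1.length (w, f) := List.eq_replicate_of_mem fun b hb => by
      simpa using (List.mem_filter.1 hb).2
    set m := l1.length with hm
    have sum_split : ∀ (α : Type) [AddCommMonoid α] (g : ℤ × ℕ → α),
        (l.map g).sum = m • g (w, f) + (l2.map g).sum := by
      intro α _ g
      rw [← (hperm.map g).sum_eq, List.map_append, List.sum_append]
      congr 1
      rw [hl1, List.map_replicate, List.sum_replicate]
    have hq' : Q (l2 ++ (List.replicate m (w, f) ++ acc)) = true := by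
      rw [← hq]
      refine hQ _ _ ?_
      rw [← List.append_assoc, ← hl1]
      exact (List.perm_append_comm.trans hperm).append_right acc
    rw [sum_split] at hS hT hB
    simp only [nsmul_eq_mul, smul_eq_mul, Nat.cast_id] at hS hT hB
    simp only [degSearchP, List.any_eq_true, List.mem_range, Bool.and_eq_true, Nat.ble_eq]
    refine ⟨m, ?_, ⟨by omega, by omega⟩, degSearchP_spec Q hQ rest l2 _ _ _ _ ?_ ?_ ?_ ?_ hq'⟩
    · by_cases hw : w = 0
      · have hm0 : m = 0 := by
          by_contra hm0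
          obtain ⟨b, hb⟩ := List.exists_mem_of_length_pos (l := l1) (Nat.pos_of_ne_zero hm0)
          have hbe : b = (w, f) := by simpa using (List.mem_filter.1 hb).2
          exact (hl b (List.mem_filter.1 hb).1).2 (by rw [hbe]; exact hw)
        omega
      · have : 1 ≤ w.natAbs * w.natAbs :=
          Nat.mul_pos (Int.natAbs_pos.2 hw) (Int.natAbs_pos.2 hw)
        have : m * 1 ≤ m * (w.natAbs * w.natAbs) := Nat.mul_le_mul_left m this
        omega
    · intro x hx
      obtain ⟨hxl, hne⟩ := List.mem_filter.1 hx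
      refine ⟨?_, (hl x hxl).2⟩
      rcases List.mem_cons.1 (hl x hxl).1 with h | h
      · exact absurd h (by simpa using hne)
      · exact h
    · omega
    · linarith
    · omega

theorem noSolution_false {N p c e t n R : ℕ} (s : DegreeSolution N p e t) (ht : 1 ≤ t) (he : 2 ≤ e)
    (hL0 : max e (degBound p c) ≤ s.f0) (hL : ∀ x ∈ s.l, max e (degBound p c) ≤ x.2)
    (hone : t = 1 → s.k + s.ε ≠ 0)
    (htest : solTest N p c e n t ((t : ℤ) * s.k + s.ε) s.f0 s.l = true)
    (h : noSolution N p c e t n R = true) : False := by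
  simp only [noSolution, Bool.and_eq_true, Nat.blt_eq] at h
  obtain ⟨hR, hall⟩ := h
  have hn2 : (((s.l.map fun x => x.1.natAbs * x.1.natAbs).sum : ℕ) : ℤ) =
      (s.l.map fun x => x.1 ^ 2).sum := by
    induction s.l with
    | nil => simp
    | cons a l ih =>
      simp only [List.map_cons, List.sum_cons, Nat.cast_add, ih, Nat.cast_mul]
      rw [← sq, Int.natAbs_sq]
  have hnorm := s.norm
  have hsq := s.squares
  have hw2 : ∀ x ∈ s.l, (x.1 * x.1 : ℤ) ≤ (s.l.map fun x => x.1 ^ 2).sum := by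
    intro x hx
    rw [← pow_two]
    exact List.single_le_sum (fun y hy => by
      obtain ⟨z, _, rfl⟩ := List.mem_map.1 hy; exact sq_nonneg _) _ (List.mem_map.2 ⟨x, hx, rfl⟩)
  have hf2 : ∀ x ∈ s.l, x.2 * x.2 ≤ (s.l.map fun x => x.2 ^ 2).sum := by
    intro x hx
    rw [← pow_two]
    exact List.single_le_sum (fun y _ => Nat.zero_le y) _ (List.mem_map.2 ⟨x, hx, rfl⟩)
  have hsum0 : 0 ≤ (s.l.map fun x => x.1 ^ 2).sum :=
    List.sum_nonneg fun y hy => by obtain ⟨z, _, rfl⟩ := List.mem_map.1 hy; exact sq_nonneg _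
  have ht' : s.k ^ 2 ≤ (t : ℤ) * s.k ^ 2 :=
    le_mul_of_one_le_left (sq_nonneg _) (by exact_mod_cast ht)
  have hke : -((e + 1 : ℕ) : ℤ) ≤ s.k ∧ s.k ≤ ((e + 1 : ℕ) : ℤ) := by
    have he' : (2 : ℤ) ≤ e := by exact_mod_cast he
    rcases s.hε with hε | hε <;> rw [hε] at hnorm <;> constructor <;> push_cast <;>
      nlinarith [sq_nonneg (s.k - 1), sq_nonneg (s.k + 1)]
  have hmem : s.ε ∈ [(1 : ℤ), -1] := by rcases s.hε with h | h <;> simp [h]
  have hk := List.all_eq_true.1 (List.all_eq_true.1 hall s.ε hmem)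
    s.k (mem_intBox hke.1 hke.2)
  simp only [Bool.or_eq_true, Bool.and_eq_true, decide_eq_true_eq, Nat.beq_eq] at hk
  rcases hk with (hk | hk) | hk
  · nlinarith
  · exact absurd hk.2 (hone hk.1)
  have hfs : s.f0 ∈ degFs N (max e (degBound p c)) R := by
    refine mem_degFs hL0 s.f0_dvd ?_
    have : 1 * (s.f0 * s.f0) ≤ t * s.f0 ^ 2 := by
      rw [pow_two]; exact Nat.mul_le_mul_right _ ht
    omega
  have h0 := List.all_eq_true.1 hk s.f0 hfs
  have hc : ∀ x ∈ s.l, x ∈ (degCands N p e R).filter (fun x => Nat.ble (max e (degBound p c)) x.2) ∧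
      x.1 ≠ 0 := by
    intro x hx
    obtain ⟨h0, h1, h2, h3⟩ := s.others x hx
    refine ⟨List.mem_filter.2 ⟨List.mem_flatMap.2 ⟨x.2, mem_degFs h1 h2 (by have := hf2 x hx; omega),
      List.mem_map.2 ⟨x.1, List.mem_filter.2 ⟨?_, ?_⟩, rfl⟩⟩, by simpa [Nat.ble_eq] using hL x hx⟩, h0⟩
    · have := hw2 x hx
      have hb : x.1 * x.1 ≤ (e : ℤ) := by
        rcases s.hε with hε | hε <;> rw [hε] at hnorm <;> nlinarith
      have h1le : |x.1| ≤ (e : ℤ) := by
        have := abs_mul_abs_self x.1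
        have := Int.one_le_abs h0
        nlinarith
      exact mem_intBox (abs_le.1 h1le).1 (abs_le.1 h1le).2
    · have hb : x.1 * x.1 ≤ (e : ℤ) := by
        have := hw2 x hx
        rcases s.hε with hε | hε <;> rw [hε] at hnorm <;> nlinarith
      simp [h0, hb, Int.emod_eq_zero_of_dvd h3]
  have hsearch := degSearchP_spec (fun l => solTest N p c e n t ((t : ℤ) * s.k + s.ε) s.f0 l)
    (fun a b hab => solTest_perm _ _ _ _ _ _ _ _ hab) _ s.l
    ((e : ℤ) - 1 - (t : ℤ) * (s.k * s.k) - 2 * s.ε * s.k).toNat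
    (1 - ((t : ℤ) * s.k + s.ε) * s.f0) (N - (1 + t * (s.f0 * s.f0))) [] hc ?_ ?_ ?_ (by simpa using htest)
  · have hle : 1 + t * (s.f0 * s.f0) ≤ N := by rw [← pow_two]; omega
    have hb : Nat.ble (1 + t * (s.f0 * s.f0)) N = true := Nat.ble_eq.mpr hle
    simp [Int.emod_eq_zero_of_dvd s.f0_congr, hb, hsearch] at h0
  · have : (e : ℤ) - 1 - (t : ℤ) * (s.k * s.k) - 2 * s.ε * s.k =
        (((s.l.map fun x => x.1.natAbs * x.1.natAbs).sum : ℕ) : ℤ) := by
      rw [hn2, ← hnorm]; ring
    rw [this, Int.toNat_natCast]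
  · have := s.degEq
    linarith
  · have e1 : (s.l.map fun x => x.2 ^ 2) = s.l.map fun x => x.2 * x.2 :=
      List.map_congr_left fun x _ => pow_two _
    rw [e1, pow_two] at hsq
    omega

end CfsgLib.SmallOrder
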