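import Cfsg.Agent.Lib.OddOrder.OmegaFix
import Cfsg.Agent.Lib.ConjFunctor.Basic
import Mathlib.GroupTheory.Frattini
import Mathlib.GroupTheory.Commutator.Basic
import Mathlib.Data.Nat.Choose.Dvd

/-!
# Coprime action is detected on elements of small order

`Small p x` means `x ^ p = 1`, or `x ^ 4 = 1` when `p = 2`.
-/

set_option autoImplicit false

namespace CfsgLib.SmallOrder

open CfsgLib.ConjFunctor CfsgLib.OddOrder
open scoped commutatorElement

variable {G : Type*} [Group G]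

/-- Elements of order dividing `p`, or dividing `4` when `p = 2`. -/
def Small (p : ℕ) (x : G) : Prop := x ^ p = 1 ∨ (p = 2 ∧ x ^ 4 = 1)

theorem Small.conj {p : ℕ} {x : G} (h : Small p x) (g : G) : Small p (g * x * g⁻¹) := by
  rcases h with h | ⟨h2, h⟩
  · exact Or.inl (by rw [conj_pow, h]; simp)
  · exact Or.inr ⟨h2, by rw [conj_pow, h]; simp⟩

variable [Finite G] {p : ℕ} [Fact p.Prime]

theorem coprime_of_mem {D : Subgroup G} (hD : IsPGroup p ↥D) {x c : G}
    (hx : (orderOf x).Coprime p) (hc : c ∈ D) : (orderOf x).Coprime (orderOf c) := by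
  obtain ⟨k, hk⟩ := hD ⟨c, hc⟩
  exact (hx.pow_right k).coprime_dvd_right (orderOf_dvd_of_pow_eq_one (congrArg Subtype.val hk))

/-- A coprime element normalizing but not centralizing a `p`-group moves a subgroup all of whose
elements are small. -/
theorem exists_small_moved (Q : Subgroup G) (hQ : IsPGroup p ↥Q) {x : G}
    (hx : (orderOf x).Coprime p) (hxQ : x ∈ Subgroup.normalizer (Q : Set G))
    (hmove : ¬ ∀ q ∈ Q, Commute x q) :
    ∃ D : Subgroup G, D ≤ Q ∧ x ∈ Subgroup.normalizer (D : Set G) ∧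
      (∀ d ∈ D, Small p d) ∧ ¬ ∀ d ∈ D, Commute x d := by
  obtain ⟨D, ⟨hDQ, hxD, hDmove⟩, hmin⟩ := Set.Finite.exists_minimal
    (s := {D : Subgroup G | D ≤ Q ∧ x ∈ Subgroup.normalizer (D : Set G) ∧
      ¬ ∀ d ∈ D, Commute x d}) (Set.toFinite _) ⟨Q, le_rfl, hxQ, hmove⟩
  refine ⟨D, hDQ, hxD, ?_, hDmove⟩
  have hD : IsPGroup p ↥D := hQ.to_le hDQ
  have hproper : ∀ E : Subgroup G, E < D → x ∈ Subgroup.normalizer (E : Set G) →
      ∀ e ∈ E, Commute x e := by
    intro E hE hxE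
    by_contra hc
    exact hE.not_ge (hmin ⟨hE.le.trans hDQ, hxE, hc⟩ hE.le)
  have hxD' : cj x D = D := cj_eq_self_iff.2 hxD
  set Z := Subgroup.zpowers x with hZ
  have hcomp : ∀ (E : Subgroup G), x ∈ Subgroup.normalizer (E : Set G) →
      x ∈ Subgroup.normalizer ((⁅E, Z⁆ : Subgroup G) : Set G) := by
    intro E hE
    rw [← cj_eq_self_iff]
    show (⁅E, Z⁆).map _ = _
    rw [Subgroup.map_commutator]
    show ⁅cj x E, cj x Z⁆ = _
    rw [cj_eq_self_iff.2 hE, cj_eq_self_of_mem (Subgroup.mem_zpowers x)]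
  have hZD : Z ≤ Subgroup.normalizer (D : Set G) := (Subgroup.zpowers_le).2 hxD
  have hCD : ⁅D, Z⁆ ≤ D := by
    rw [Subgroup.commutator_le]
    intro d hd z hz
    rw [commutatorElement_def, show d * z * d⁻¹ * z⁻¹ = d * (z * d⁻¹ * z⁻¹) by group]
    exact mul_mem hd ((Subgroup.mem_normalizer_iff.1 (hZD hz) _).1 (inv_mem hd))
  have hfull : ⁅D, Z⁆ = D := by
    by_contra hne
    refine hDmove fun d hd => ?_
    have hm : d * x * d⁻¹ * x⁻¹ ∈ ⁅D, Z⁆ :=
      Subgroup.commutator_mem_commutator hd (Subgroup.mem_zpowers x)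
    have h1 : x * d⁻¹ * x⁻¹ * d⁻¹⁻¹ ∈ ⁅D, Z⁆ := by
      have := Subgroup.commutator_mem_commutator (inv_mem hd) (Subgroup.mem_zpowers x)
      have h2 := inv_mem this
      simpa [commutatorElement_def, mul_assoc] using h2
    have hc := hproper _ (lt_of_le_of_ne hCD hne) (hcomp D hxD) _ h1
    simpa using (commute_of_conj_mem hc (coprime_of_mem hD hx (hCD h1))).inv_right
  -- the Frattini subgroup of `D` is fixed by `x` and hence central in `D`
  set F := (frattini ↥D).map D.subtype with hF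
  have hDne : D ≠ ⊥ := by
    rintro rfl
    exact hDmove fun d hd => by rw [Subgroup.mem_bot.1 hd]; exact Commute.one_right x
  haveI : Nontrivial ↥D := Subgroup.nontrivial_iff_ne_bot D |>.2 hDne
  have hFlt : F < D := by
    refine lt_of_le_of_ne (Subgroup.map_subtype_le _) fun h => ?_
    have h1 : frattini ↥D = ⊤ := Subgroup.map_injective D.subtype_injective
      (by rw [← MonoidHom.range_eq_map, Subgroup.range_subtype]; exact h)
    obtain ⟨M, hM, -⟩ := (eq_top_or_exists_le_coatom (⊥ : Subgroup ↥D)).resolve_left bot_ne_top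
    exact hM.1 (top_le_iff.1 (h1 ▸ frattini_le_coatom hM))
  have hxF : x ∈ Subgroup.normalizer (F : Set G) := by
    have hstep : ∀ y : G, y ∈ Subgroup.normalizer (D : Set G) → cj y F ≤ F := by
      intro y hy
      let e : ↥D ≃* ↥D :=
        { toFun := fun d => ⟨y * d * y⁻¹, (Subgroup.mem_normalizer_iff.1 hy _).1 d.2⟩
          invFun := fun d => ⟨y⁻¹ * d * y, by
            have := (Subgroup.mem_normalizer_iff.1 (inv_mem hy) _).1 d.2
            simpa using this⟩
          left_inv := fun d => Subtype.ext (by simp [mul_assoc])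
          right_inv := fun d => Subtype.ext (by simp [mul_assoc])
          map_mul' := fun a b => Subtype.ext (by simp [mul_assoc]) }
      rintro _ ⟨_, ⟨d, hd, rfl⟩, rfl⟩
      have hchar := (Subgroup.characteristic_iff_map_eq.1
        (inferInstance : (frattini ↥D).Characteristic) e)
      refine ⟨e d, hchar.le ⟨d, hd, rfl⟩, ?_⟩
      simp [e]
    exact cj_eq_self_iff.1 (Subgroup.eq_of_le_of_card_ge (hstep x hxD) (card_cj x F).ge)
  have hFfix : ∀ f ∈ F, Commute x f := hproper F hFlt hxF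
  have hFx : ⁅F, Z⁆ = ⊥ := by
    rw [Subgroup.commutator_eq_bot_iff_le_centralizer]
    intro f hf
    rw [Subgroup.mem_centralizer_iff]
    rintro z ⟨n, rfl⟩
    exact ((hFfix f hf).zpow_left n).eq
  have hDF : ⁅D, F⁆ ≤ F := by
    rw [Subgroup.commutator_le]
    rintro d hd _ ⟨f, hf, rfl⟩
    have hn : (frattini ↥D).Normal := inferInstance
    refine ⟨⟨d, hd⟩ * f * (⟨d, hd⟩ : ↥D)⁻¹ * f⁻¹, mul_mem (hn.conj_mem f hf _) (inv_mem hf), ?_⟩
    simp [commutatorElement_def]
  have hFD : ⁅D, F⁆ = ⊥ := by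
    have h3 : ⁅⁅Z, D⁆, F⁆ = ⊥ := by
      apply Subgroup.commutator_commutator_eq_bot_of_rotate
      · rw [eq_bot_iff, ← hFx]
        exact Subgroup.commutator_mono hDF le_rfl
      · rw [hFx]; exact Subgroup.commutator_bot_left D
    rwa [Subgroup.commutator_comm Z D, hfull] at h3
  have hcent : ∀ f ∈ F, ∀ d ∈ D, Commute f d := fun f hf d hd =>
    ((Subgroup.mem_centralizer_iff.1
      ((Subgroup.commutator_eq_bot_iff_le_centralizer.1 hFD) hd)) f hf)
  have hpowF : ∀ d ∈ D, d ^ p ∈ F := fun d hd =>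
    ⟨_, pow_mem_frattini_of_isPGroup hD ⟨d, hd⟩, rfl⟩
  -- commutators have order dividing `p`
  have hcomm : ∀ a ∈ D, ∀ b ∈ D, ∃ c ∈ F, b * a = c * (a * b) ∧ c ^ p = 1 := by
    intro a ha b hb
    refine ⟨b * a * b⁻¹ * a⁻¹, ?_, by group, ?_⟩
    · refine ⟨⁅(⟨b, hb⟩ : ↥D), ⟨a, ha⟩⁆, commutator_le_frattini_of_isPGroup hD
        (Subgroup.commutator_mem_commutator (Subgroup.mem_top _) (Subgroup.mem_top _)), ?_⟩
      simp [commutatorElement_def]
    · have hcF : b * a * b⁻¹ * a⁻¹ ∈ F := by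
        refine ⟨⁅(⟨b, hb⟩ : ↥D), ⟨a, ha⟩⁆, commutator_le_frattini_of_isPGroup hD
          (Subgroup.commutator_mem_commutator (Subgroup.mem_top _) (Subgroup.mem_top _)), ?_⟩
        simp [commutatorElement_def]
      set c := b * a * b⁻¹ * a⁻¹
      have h1 : b * a * b⁻¹ = c * a := by simp [c]
      have h2 : (b * a * b⁻¹) ^ p = c ^ p * a ^ p := by rw [h1, (hcent c hcF a ha).mul_pow]
      rw [conj_pow] at h2
      have h3 : b * a ^ p * b⁻¹ = a ^ p := by
        rw [← (hcent _ (hpowF a ha) b hb).eq, mul_inv_cancel_right]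
      rw [h3] at h2
      exact mul_eq_right.mp h2.symm
  -- the exponent
  obtain ⟨m, hm, hmsmall⟩ : ∃ m : ℕ, (p ∣ m ∧ p ∣ m.choose 2) ∧
      ∀ d : G, d ^ m = 1 → Small p d := by
    by_cases h2 : p = 2
    · subst h2
      exact ⟨4, ⟨by norm_num, by decide⟩, fun d hd => Or.inr ⟨rfl, hd⟩⟩
    · refine ⟨p, ⟨dvd_rfl, ?_⟩, fun d hd => Or.inl hd⟩
      exact Nat.Prime.dvd_choose_self Fact.out two_ne_zero
        (lt_of_le_of_ne (Fact.out : p.Prime).two_le (Ne.symm h2))
  have hmul : ∀ a ∈ D, ∀ b ∈ D, (a * b) ^ m = a ^ m * b ^ m := by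
    intro a ha b hb
    obtain ⟨c, hcF, hba, hcp⟩ := hcomm a ha b hb
    rw [mul_pow_of_central_commutator hba (hcent c hcF a ha) (hcent c hcF b hb)]
    obtain ⟨k, hk⟩ := hm.2
    rw [hk, pow_mul, hcp, one_pow, one_mul]
  have hker : D ≤
      { carrier := {d | d ∈ D ∧ d ^ m = 1}
        one_mem' := ⟨one_mem D, one_pow _⟩
        mul_mem' := fun {a b} ha hb => ⟨mul_mem ha.1 hb.1, by rw [hmul a ha.1 b hb.1, ha.2, hb.2, one_mul]⟩
        inv_mem' := fun {a} ha => ⟨inv_mem ha.1, by rw [inv_pow, ha.2, inv_one]⟩ : Subgroup G } := by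
    conv_lhs => rw [← hfull]
    rw [Subgroup.commutator_le]
    intro d hd z hz
    refine ⟨hCD (Subgroup.commutator_mem_commutator hd hz), ?_⟩
    rw [commutatorElement_def, show d * z * d⁻¹ * z⁻¹ = d * (z * d⁻¹ * z⁻¹) by group,
      hmul d hd _ ((Subgroup.mem_normalizer_iff.1 (hZD hz) _).1 (inv_mem hd)), conj_pow]
    obtain ⟨n, rfl⟩ := hz
    obtain ⟨k, hk⟩ := hm.1
    have hf : Commute x ((d⁻¹) ^ m) := by
      rw [hk, pow_mul]
      exact (hFfix _ (hpowF _ (inv_mem hd))).pow_right k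
    rw [(hf.zpow_left n).eq, mul_inv_cancel_right, inv_pow, mul_inv_cancel]
  exact fun d hd => hmsmall d (hker hd).2

end CfsgLib.SmallOrder
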